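import Cfsg.Agent.Lib.Presented.Ly.CoverBase

/-!
The presented Lyons group is finite, of index at most 8835156 over G₂(5).
-/
set_option autoImplicit false
set_option maxRecDepth 100000

namespace CfsgLib.Presented.Ly

open Dce LyOrb

theorem cover1 (h : H5) : InO (gz • toLy h • P1) := by
  refine cover_of (gens := S1) (rows := rows1) (by decide +kernel) fix1 ?_ h
  intro r hr
  simp only [rows1, List.mem_cons, List.not_mem_nil, or_false] at hr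
  rcases hr with rfl | rfl | rfl | rfl | rfl | rfl
  exacts [⟨_, Or.inl e0⟩,
    ⟨_, Or.inr (Or.inl Dce.e1)⟩,
    ⟨_, Or.inr (Or.inl Dce.e2)⟩,
    ⟨_, Or.inr (Or.inr (Or.inl Dce.e3))⟩,
    ⟨_, Or.inr (Or.inr (Or.inr (Or.inl Dce.e14)))⟩,
    ⟨_, Or.inr (Or.inr (Or.inr (Or.inr Dce.e55)))⟩]

theorem card_S1 : 300000 ≤ Nat.card (wgrp S1) := card_K.ge

theorem cover2 (h : H5) : InO (gz • toLy h • P2) := by
  refine cover_of (gens := S2_3) (rows := rows2) (by decide +kernel) fix2_3 ?_ h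
  intro r hr
  simp only [rows2, List.mem_cons, List.not_mem_nil, or_false] at hr
  rcases hr with rfl | rfl | rfl | rfl | rfl | rfl | rfl | rfl | rfl | rfl | rfl | rfl | rfl | rfl | rfl | rfl | rfl | rfl
  exacts [⟨_, Or.inr (Or.inl Dce.e4)⟩,
    ⟨_, Or.inr (Or.inr (Or.inl Dce.e8))⟩,
    ⟨_, Or.inr (Or.inr (Or.inl Dce.e11))⟩,
    ⟨_, Or.inr (Or.inr (Or.inl Dce.e12))⟩,
    ⟨_, Or.inr (Or.inr (Or.inl Dce.e13))⟩,
    ⟨_, Or.inr (Or.inr (Or.inr (Or.inl Dce.e23)))⟩,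
    ⟨_, Or.inr (Or.inr (Or.inr (Or.inl Dce.e28)))⟩,
    ⟨_, Or.inr (Or.inr (Or.inr (Or.inl Dce.e30)))⟩,
    ⟨_, Or.inr (Or.inr (Or.inr (Or.inl Dce.e31)))⟩,
    ⟨_, Or.inr (Or.inr (Or.inr (Or.inl Dce.e33)))⟩,
    ⟨_, Or.inr (Or.inr (Or.inr (Or.inl Dce.e36)))⟩,
    ⟨_, Or.inr (Or.inr (Or.inl Dce.e38))⟩,
    ⟨_, Or.inr (Or.inr (Or.inr (Or.inl Dce.e40)))⟩,
    ⟨_, Or.inr (Or.inr (Or.inr (Or.inl Dce.e49)))⟩,
    ⟨_, Or.inr (Or.inr (Or.inr (Or.inr Dce.e62)))⟩,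
    ⟨_, Or.inr (Or.inr (Or.inr (Or.inr Dce.e65)))⟩,
    ⟨_, Or.inr (Or.inr (Or.inr (Or.inr Dce.e68)))⟩,
    ⟨_, Or.inr (Or.inr (Or.inr (Or.inr Dce.e79)))⟩]

theorem card_S2 : 2880 ≤ Nat.card (wgrp S2_3) :=
  card_ge_of_orbit (i := (rows2.getD 2 ([], 0, 0, 0)).2.1) (rounds := (rows2.getD 2 ([], 0, 0, 0)).2.2.1) (O := (rows2.getD 2 ([], 0, 0, 0)).2.2.2) (by decide +kernel) (by decide +kernel) (by decide +kernel)

theorem cover3 (h : H5) : InO (gz • toLy h • P3) := by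
  refine cover_of (gens := S3_3) (rows := rows3) (by decide +kernel) fix3_3 ?_ h
  intro r hr
  simp only [rows3, List.mem_cons, List.not_mem_nil, or_false] at hr
  rcases hr with rfl | rfl | rfl | rfl | rfl | rfl | rfl | rfl | rfl | rfl | rfl | rfl | rfl | rfl | rfl | rfl | rfl | rfl | rfl | rfl | rfl | rfl | rfl | rfl | rfl | rfl | rfl | rfl | rfl | rfl
  exacts [⟨_, Or.inr (Or.inl Dce.e15)⟩,
    ⟨_, Or.inr (Or.inr (Or.inr (Or.inl Dce.e20)))⟩,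
    ⟨_, Or.inr (Or.inr (Or.inr (Or.inl Dce.e21)))⟩,
    ⟨_, Or.inr (Or.inr (Or.inr (Or.inl Dce.e22)))⟩,
    ⟨_, Or.inr (Or.inr (Or.inl Dce.e24))⟩,
    ⟨_, Or.inr (Or.inr (Or.inr (Or.inl Dce.e25)))⟩,
    ⟨_, Or.inr (Or.inr (Or.inr (Or.inl Dce.e26)))⟩,
    ⟨_, Or.inr (Or.inr (Or.inl Dce.e27))⟩,
    ⟨_, Or.inr (Or.inr (Or.inl Dce.e29))⟩,
    ⟨_, Or.inr (Or.inr (Or.inl Dce.e32))⟩,
    ⟨_, Or.inr (Or.inr (Or.inl Dce.e34))⟩,
    ⟨_, Or.inr (Or.inr (Or.inl Dce.e35))⟩,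
    ⟨_, Or.inr (Or.inr (Or.inr (Or.inl Dce.e37)))⟩,
    ⟨_, Or.inr (Or.inr (Or.inl Dce.e39))⟩,
    ⟨_, Or.inr (Or.inr (Or.inr (Or.inl Dce.e41)))⟩,
    ⟨_, Or.inr (Or.inr (Or.inr (Or.inl Dce.e42)))⟩,
    ⟨_, Or.inr (Or.inr (Or.inr (Or.inl Dce.e43)))⟩,
    ⟨_, Or.inr (Or.inr (Or.inr (Or.inl Dce.e44)))⟩,
    ⟨_, Or.inr (Or.inr (Or.inr (Or.inl Dce.e45)))⟩,
    ⟨_, Or.inr (Or.inr (Or.inr (Or.inl Dce.e46)))⟩,
    ⟨_, Or.inr (Or.inr (Or.inr (Or.inl Dce.e47)))⟩,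
    ⟨_, Or.inr (Or.inr (Or.inl Dce.e48))⟩,
    ⟨_, Or.inr (Or.inr (Or.inr (Or.inl Dce.e50)))⟩,
    ⟨_, Or.inr (Or.inr (Or.inr (Or.inl Dce.e51)))⟩,
    ⟨_, Or.inr (Or.inr (Or.inr (Or.inl Dce.e52)))⟩,
    ⟨_, Or.inr (Or.inr (Or.inr (Or.inl Dce.e53)))⟩,
    ⟨_, Or.inr (Or.inr (Or.inr (Or.inl Dce.e54)))⟩,
    ⟨_, Or.inr (Or.inr (Or.inr (Or.inr Dce.e63)))⟩,
    ⟨_, Or.inr (Or.inr (Or.inr (Or.inr Dce.e73)))⟩,
    ⟨_, Or.inr (Or.inr (Or.inr (Or.inr Dce.e76)))⟩]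

theorem card_S3 : 1008 ≤ Nat.card (wgrp S3_3) :=
  card_ge_of_orbit (i := (rows3.getD 1 ([], 0, 0, 0)).2.1) (rounds := (rows3.getD 1 ([], 0, 0, 0)).2.2.1) (O := (rows3.getD 1 ([], 0, 0, 0)).2.2.2) (by decide +kernel) (by decide +kernel) (by decide +kernel)

theorem cover4 (h : H5) : InO (gz • toLy h • P4) := by
  refine cover_of (gens := S4_5) (rows := rows4) (by decide +kernel) fix4_5 ?_ h
  intro r hr
  simp only [rows4, List.mem_cons, List.not_mem_nil, or_false] at hr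
  rcases hr with rfl | rfl | rfl | rfl | rfl | rfl | rfl | rfl | rfl | rfl | rfl
  exacts [⟨_, Or.inr (Or.inl Dce.e56)⟩,
    ⟨_, Or.inr (Or.inr (Or.inl Dce.e61))⟩,
    ⟨_, Or.inr (Or.inr (Or.inr (Or.inl Dce.e64)))⟩,
    ⟨_, Or.inr (Or.inr (Or.inl Dce.e66))⟩,
    ⟨_, Or.inr (Or.inr (Or.inl Dce.e67))⟩,
    ⟨_, Or.inr (Or.inr (Or.inr (Or.inr Dce.e69)))⟩,
    ⟨_, Or.inr (Or.inr (Or.inr (Or.inl Dce.e74)))⟩,
    ⟨_, Or.inr (Or.inr (Or.inr (Or.inr Dce.e75)))⟩,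
    ⟨_, Or.inr (Or.inr (Or.inr (Or.inl Dce.e77)))⟩,
    ⟨_, Or.inr (Or.inr (Or.inr (Or.inr Dce.e78)))⟩,
    ⟨_, Or.inr (Or.inr (Or.inl Dce.e80))⟩]

theorem card_S4 : 6048 ≤ Nat.card (wgrp S4_5) :=
  card_ge_of_orbit (i := (rows4.getD 2 ([], 0, 0, 0)).2.1) (rounds := (rows4.getD 2 ([], 0, 0, 0)).2.2.1) (O := (rows4.getD 2 ([], 0, 0, 0)).2.2.2) (by decide +kernel) (by decide +kernel) (by decide +kernel)

theorem inO_all (p : XLy) : InO p := by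
  have hbase : InO (pBase : XLy) := ⟨1, Or.inl (by rw [map_one, one_smul]; rfl)⟩
  have hz : ∀ q, InO q → InO (gz • q) := by
    rintro q ⟨h, rfl | rfl | rfl | rfl | rfl⟩
    · have e : toLy h • P0 = P0 := by
        rw [P0, pBase, MulAction.Quotient.smul_coe, smul_eq_mul, mul_one]
        exact QuotientGroup.eq.2 (by rw [mul_one]; exact toLy.range.inv_mem ⟨_, rfl⟩)
      rw [e]
      exact ⟨1, Or.inr (Or.inl (by rw [map_one, one_smul]; rfl))⟩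
    · exact cover1 h
    · exact cover2 h
    · exact cover3 h
    · exact cover4 h
  have hzinv : ∀ q, InO q → InO (gz⁻¹ • q) := by
    intro q hq
    have e : (gz⁻¹ : Cfsg.Spor.Ly) = toLy (evW ev [0, 0])⁻¹ * gz := by
      rw [map_inv, ← gz_sq]; group
    rw [e, mul_smul]
    exact (hz q hq).smul _
  induction p using QuotientGroup.induction_on with
  | _ g =>
    have key : ∀ g ∈ Subgroup.closure (insert gz (Set.range toLy)), ∀ q, InO q → InO (g • q) := by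
      intro g hg
      induction hg using Subgroup.closure_induction'' with
      | one => exact fun q hq => by rwa [one_smul]
      | mem y hy =>
        rcases hy with rfl | ⟨h, rfl⟩
        · exact hz
        · exact fun q hq => hq.smul h
      | inv_mem y hy =>
        rcases hy with rfl | ⟨h, rfl⟩
        · exact hzinv
        · exact fun q hq => by rw [← map_inv]; exact hq.smul _
      | mul y z _ _ iy iz => exact fun q hq => by rw [mul_smul]; exact iy _ (iz q hq)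
    have := key g (gen_Ly ▸ Subgroup.mem_top g) _ hbase
    rwa [pBase, MulAction.Quotient.smul_coe, smul_eq_mul, mul_one] at this

/-- the orbit of a point -/
def orb (P : XLy) : Set XLy := Set.range fun h : H5 => toLy h • P

theorem univ_eq : (Set.univ : Set XLy) = {P0} ∪ orb P1 ∪ orb P2 ∪ orb P3 ∪ orb P4 := by
  ext p
  simp only [Set.mem_univ, true_iff, Set.mem_union, Set.mem_singleton_iff]
  obtain ⟨h, hp⟩ := inO_all p
  rcases hp with e | e | e | e | e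
  · left; left; left; left
    rw [e, P0, pBase, MulAction.Quotient.smul_coe, smul_eq_mul, mul_one]
    exact QuotientGroup.eq.2 (by rw [mul_one]; exact toLy.range.inv_mem ⟨_, rfl⟩)
  · left; left; left; right; exact ⟨h, e.symm⟩
  · left; left; right; exact ⟨h, e.symm⟩
  · left; right; exact ⟨h, e.symm⟩
  · right; exact ⟨h, e.symm⟩

theorem orb1_le : (orb P1).Finite ∧ (orb P1).ncard ≤ 19530 :=
  orbit_card_le fix1 card_S1 (by norm_num)

theorem orb2_le : (orb P2).Finite ∧ (orb P2).ncard ≤ 2034375 :=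
  orbit_card_le fix2_3 card_S2 (by norm_num)

theorem orb3_le : (orb P3).Finite ∧ (orb P3).ncard ≤ 5812500 :=
  orbit_card_le fix3_3 card_S3 (by norm_num)

theorem orb4_le : (orb P4).Finite ∧ (orb P4).ncard ≤ 968750 :=
  orbit_card_le fix4_5 card_S4 (by norm_num)

/-- Finiteness and the index bound. -/
theorem index_le : toLy.range.index ≠ 0 ∧ toLy.range.index ≤ 8835156 := by
  have hfin : (Set.univ : Set XLy).Finite := by
    rw [univ_eq]
    exact ((((Set.finite_singleton _).union orb1_le.1).union orb2_le.1).union orb3_le.1).union orb4_le.1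
  haveI : Finite XLy := Set.finite_univ_iff.1 hfin
  refine ⟨Subgroup.index_ne_zero_of_finite, ?_⟩
  rw [Subgroup.index, ← Set.ncard_univ, univ_eq]
  have a := Set.ncard_union_le ({P0} ∪ orb P1 ∪ orb P2 ∪ orb P3) (orb P4)
  have b := Set.ncard_union_le ({P0} ∪ orb P1 ∪ orb P2) (orb P3)
  have c := Set.ncard_union_le ({P0} ∪ orb P1) (orb P2)
  have d := Set.ncard_union_le ({P0} : Set XLy) (orb P1)
  rw [Set.ncard_singleton] at d
  have h1 := orb1_le.2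
  have h2 := orb2_le.2
  have h3 := orb3_le.2
  have h4 := orb4_le.2
  omega

end CfsgLib.Presented.Ly
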