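import Cfsg.Agent.Lib.Presented.Ly.Index
import Cfsg.Prelude.Def_Sporadic
import Mathlib.GroupTheory.Sylow
import Mathlib.GroupTheory.SpecificGroups.Cyclic

/-!
The presented Lyons group is simple.
-/
set_option autoImplicit false
set_option maxRecDepth 100000

namespace CfsgLib.Presented.Ly

open Dce

/-- A normal subgroup containing G₂(5) is everything. -/
theorem normal_eq_top {M : Subgroup Cfsg.Spor.Ly} [M.Normal] (h : toLy.range ≤ M) : M = ⊤ := by
  let π := QuotientGroup.mk' M
  have hπ : ∀ g : H5, π (toLy g) = 1 := fun g => (QuotientGroup.eq_one_iff _).2 (h ⟨g, rfl⟩)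
  have h2 : π gz * π gz = 1 := by rw [← map_mul, gz_sq, hπ]
  have hword : (relWord 81).all (fun x => Nat.blt x 12) = true := by decide +kernel
  have hcount : (relWord 81).count 10 = 3 ∧ (relWord 81).count 11 = 0 := by decide +kernel
  have key : ∀ w : List ℕ, (∀ x ∈ w, x < 12) → w.count 11 = 0 → π (evW evL w) = π gz ^ w.count 10 := by
    intro w
    induction w with
    | nil => intros; rw [evW_nil, map_one]; rfl
    | cons x w ih =>
      intro hw hc
      have h11 : x ≠ 11 := by rintro rfl; simp at hc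
      rw [evW_cons, map_mul, ih (fun y hy => hw y (List.mem_cons_of_mem _ hy)) (by simpa [List.count_cons, h11] using hc)]
      rcases lt_or_ge x 10 with hx | hx
      · rw [show evL x = toLy (ev x) by simp [evL, hx], hπ, one_mul, List.count_cons_of_ne (by omega)]
      · obtain rfl : x = 10 := by have := hw x List.mem_cons_self; omega
        rw [List.count_cons_self, pow_succ', show evL 10 = gz from rfl]
  simp only [List.all_eq_true, Nat.blt_eq] at hword
  have h3 := key _ hword hcount.2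
  rw [relWord_one 81 (by simpa [List.all_eq_true, Nat.blt_eq] using hword), map_one, hcount.1, pow_succ, pow_two, h2, one_mul] at h3
  rw [eq_top_iff, ← gen_Ly, Subgroup.closure_le, Set.insert_subset_iff]
  exact ⟨(QuotientGroup.eq_one_iff _).1 h3.symm, fun x hx => h hx⟩

theorem finite_Ly : Finite Cfsg.Spor.Ly := Nat.finite_of_card_ne_zero (by rw [card_Ly]; norm_num)

theorem St_not31 {P : XLy} (hP : P ≠ P0) : ¬ 31 ∣ Nat.card (St P) := by
  have hp : P ∈ (Set.univ : Set XLy) := trivial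
  have conj : ∀ Q, P ∈ orb Q → Nat.card (St P) = Nat.card (St Q) := by
    rintro Q ⟨g, rfl⟩
    show Nat.card (St (toLy g • Q)) = _
    have h1 := orb_mul (toLy g • Q)
    have e : orb (toLy g • Q) = orb Q := by
      ext r
      constructor
      · rintro ⟨k, rfl⟩; exact ⟨k * g, show toLy (k * g) • Q = toLy k • toLy g • Q by rw [map_mul, mul_smul]⟩
      · rintro ⟨k, rfl⟩
        exact ⟨k * g⁻¹, show toLy (k * g⁻¹) • toLy g • Q = toLy k • Q by
          rw [← mul_smul, ← map_mul, inv_mul_cancel_right]⟩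
    rw [e, ← orb_mul Q] at h1
    refine Nat.eq_of_mul_eq_mul_right ?_ h1
    exact Nat.pos_of_ne_zero fun hz => by
      have := orb_mul Q
      rw [hz, mul_zero] at this
      simp at this
  rw [univ_eq] at hp
  rcases hp with (((h | h) | h) | h) | h
  · exact absurd h hP
  · rw [conj _ h, card_St1]; norm_num
  · rw [conj _ h, card_St2]; norm_num
  · rw [conj _ h, card_St3]; norm_num
  · rw [conj _ h, card_St4]; norm_num

/-- A normal subgroup meeting G₂(5) trivially has order dividing the index. -/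
theorem card_dvd_index {M : Subgroup Cfsg.Spor.Ly} [M.Normal] (h : Disjoint M toLy.range) :
    Nat.card M ∣ toLy.range.index := by
  haveI := finite_Ly
  have hinj : Function.Injective ((QuotientGroup.mk' M).comp toLy.range.subtype) := by
    rw [← MonoidHom.ker_eq_bot_iff, eq_bot_iff]
    rintro ⟨x, hx⟩ hk
    have hm : x ∈ M := (QuotientGroup.eq_one_iff _).1 hk
    have : x ∈ (⊥ : Subgroup Cfsg.Spor.Ly) := h.le_bot ⟨hm, hx⟩
    exact Subtype.ext (Subgroup.mem_bot.1 this)
  obtain ⟨c, hc⟩ := Subgroup.card_dvd_of_injective _ hinj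
  have e : Nat.card M * M.index = Nat.card toLy.range * toLy.range.index := by
    rw [Subgroup.card_mul_index, Subgroup.card_mul_index]
  rw [show M.index = Nat.card (Cfsg.Spor.Ly ⧸ M) from rfl, hc, card_range] at e
  refine Dvd.intro c (Nat.eq_of_mul_eq_mul_left (by norm_num : 0 < 5859000000) ?_)
  rw [← e]; ring

theorem tight {x0 x1 x2 x3 x4 n1 n2 n3 n4 : ℕ} (h4 : x4 = 8835156) (u3 : x4 ≤ x3 + n4) (u2 : x3 ≤ x2 + n3)
    (u1 : x2 ≤ x1 + n2) (u0 : x1 ≤ x0 + n1) (e4 : n4 = 968750) (e3 : n3 = 5812500) (e2 : n2 = 2034375)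
    (e1 : n1 = 19530) (e0 : x0 = 1) :
    x3 + n4 = x4 ∧ x2 + n3 = x3 ∧ x1 + n2 = x2 ∧ x0 + n1 = x1 := by omega

/-- The point set of a normal subgroup through the base point is a union of suborbits. -/
theorem ncard_orbit_cases {M : Subgroup Cfsg.Spor.Ly} [M.Normal] :
    ∃ a b c d : ℕ, Set.ncard (Set.range fun m : M => (m : Cfsg.Spor.Ly) • P0) = 1 + a + b + c + d ∧
      a ∈ [0, 19530] ∧ b ∈ [0, 2034375] ∧ c ∈ [0, 5812500] ∧ d ∈ [0, 968750] := by
  haveI := finite_XLy
  set S := Set.range fun m : M => (m : Cfsg.Spor.Ly) • P0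
  have hS : Closed S := by
    rintro g _ ⟨m, rfl⟩
    refine ⟨⟨toLy g * m * (toLy g)⁻¹, Subgroup.Normal.conj_mem inferInstance _ m.2 _⟩, ?_⟩
    show (toLy g * (m : Cfsg.Spor.Ly) * (toLy g)⁻¹) • P0 = toLy g • (m : Cfsg.Spor.Ly) • P0
    rw [mul_smul, mul_smul, inv_smul_eq_iff.2 (toLy_smul_P0 g).symm]
  have h0 : P0 ∈ S := ⟨1, show ((1 : M) : Cfsg.Spor.Ly) • P0 = P0 by simp⟩
  have htot := index_and_orbits
  have hsplit : ∀ Q, orb Q ⊆ S ∨ Disjoint (orb Q) S := by
    intro Q
    by_cases hQ : Q ∈ S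
    · left; rintro _ ⟨g, rfl⟩; exact hS g Q hQ
    · right
      rw [Set.disjoint_left]
      rintro _ ⟨g, rfl⟩ hg
      have := hS g⁻¹ _ hg
      rw [map_inv, inv_smul_smul] at this
      exact hQ this
  have dj : ∀ A B : Set XLy, A.ncard + B.ncard = (A ∪ B).ncard → Disjoint A B := fun A B h =>
    (Set.ncard_union_eq_iff (Set.toFinite _) (Set.toFinite _)).1 h.symm
  have hu : ({P0} ∪ orb P1 ∪ orb P2 ∪ orb P3 ∪ orb P4 : Set XLy).ncard = 8835156 := by
    rw [← univ_eq, Set.ncard_univ]; exact index_eq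
  obtain ⟨t4, t3, t2, t1⟩ := tight hu (Set.ncard_union_le ({P0} ∪ orb P1 ∪ orb P2 ∪ orb P3) (orb P4))
    (Set.ncard_union_le ({P0} ∪ orb P1 ∪ orb P2) (orb P3)) (Set.ncard_union_le ({P0} ∪ orb P1) (orb P2))
    (Set.ncard_union_le ({P0} : Set XLy) (orb P1)) htot.2.2.2 htot.2.2.1 htot.2.1 orb1_eq (Set.ncard_singleton P0)
  have e4 := dj _ _ t4
  have e3 := dj _ _ t3
  have e2 := dj _ _ t2
  have e1 := dj _ _ t1
  have piece : ∀ Q n, (orb Q).ncard = n → (S ∩ orb Q).ncard ∈ [0, n] := by
    intro Q n hn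
    rcases hsplit Q with h | h
    · rw [Set.inter_eq_self_of_subset_right h, hn]; simp
    · rw [Set.inter_comm, Set.disjoint_iff_inter_eq_empty.1 h]; simp
  refine ⟨_, _, _, _, ?_, piece P1 _ orb1_eq, piece P2 _ htot.2.1, piece P3 _ htot.2.2.1, piece P4 _ htot.2.2.2⟩
  conv_lhs => rw [← Set.inter_univ S, univ_eq, Set.inter_union_distrib_left, Set.inter_union_distrib_left,
    Set.inter_union_distrib_left, Set.inter_union_distrib_left]
  rw [Set.ncard_union_eq, Set.ncard_union_eq, Set.ncard_union_eq, Set.ncard_union_eq,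
    Set.inter_singleton_of_mem h0, Set.ncard_singleton]
  · exact e1.mono Set.inter_subset_right Set.inter_subset_right
  · refine Disjoint.mono ?_ Set.inter_subset_right e2
    exact Set.union_subset_union Set.inter_subset_right Set.inter_subset_right
  · refine Disjoint.mono ?_ Set.inter_subset_right e3
    exact Set.union_subset_union (Set.union_subset_union Set.inter_subset_right Set.inter_subset_right) Set.inter_subset_right
  · refine Disjoint.mono ?_ Set.inter_subset_right e4
    exact Set.union_subset_union (Set.union_subset_union (Set.union_subset_union Set.inter_subset_right Set.inter_subset_right)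
      Set.inter_subset_right) Set.inter_subset_right

/-- the sums dividing the index -/
theorem sums_ok : ([0, 19530].all fun a => [0, 2034375].all fun b => [0, 5812500].all fun c => [0, 968750].all fun d =>
    !Nat.beq (8835156 % (1 + a + b + c + d)) 0 || Nat.beq (1 + a + b + c + d) 1 ||
      Nat.beq (1 + a + b + c + d) 8835156) = true := by decide +kernel

theorem normal_eq_bot {M : Subgroup Cfsg.Spor.Ly} [M.Normal] (h : Disjoint M toLy.range) : M = ⊥ := by
  haveI := finite_Ly
  obtain ⟨a, b, c, d, hS, ha, hb, hc, hd⟩ := ncard_orbit_cases (M := M)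
  have hinj : Function.Injective fun m : M => (m : Cfsg.Spor.Ly) • P0 := by
    intro x y hxy
    apply Subtype.ext
    simp only [P0, pBase, MulAction.Quotient.smul_coe, smul_eq_mul, mul_one] at hxy
    have h' := QuotientGroup.eq.1 hxy
    have : (x : Cfsg.Spor.Ly)⁻¹ * y ∈ (⊥ : Subgroup Cfsg.Spor.Ly) :=
      h.le_bot ⟨M.mul_mem (M.inv_mem x.2) y.2, h'⟩
    exact (inv_mul_eq_one.1 (Subgroup.mem_bot.1 this))
  rw [Set.ncard_range_of_injective hinj] at hS
  have hdv : Nat.card M ∣ 8835156 := index_eq ▸ card_dvd_index h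
  have hs := sums_ok
  simp only [List.all_eq_true, Bool.or_eq_true, Bool.not_eq_true', Nat.beq_eq] at hs
  rcases hs a ha b hb c hc d hd with (h0 | h1) | h1
  · rw [hS] at hdv
    rw [Nat.dvd_iff_mod_eq_zero.1 hdv] at h0
    simp at h0
  · exact Subgroup.card_eq_one.1 (hS.trans h1)
  exfalso
  have hcard : Nat.card M = 8835156 := hS.trans h1
  haveI : Fact (Nat.Prime 67) := ⟨by norm_num⟩
  obtain ⟨P⟩ := (inferInstance : Nonempty (Sylow 67 M))
  let Q : Subgroup Cfsg.Spor.Ly := (P : Subgroup M).map M.subtype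
  have htop : (Subgroup.normalizer (Q : Set Cfsg.Spor.Ly)) ⊔ M = ⊤ := P.normalizer_sup_eq_top
  have hQ : Nat.card Q = 67 := by
    rw [Subgroup.card_map_of_injective M.subtype_injective, P.card_eq_multiplicity, hcard]
    have : (8835156 : ℕ).factorization 67 = 1 := by
      rw [show (8835156 : ℕ) = 131868 * 67 by norm_num, Nat.factorization_mul (by norm_num) (by norm_num)]
      simp [Nat.factorization_eq_zero_of_not_dvd (show ¬ 67 ∣ 131868 by norm_num), (by norm_num : Nat.Prime 67).factorization]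
    rw [this, pow_one]
  haveI : Fact (Nat.Prime 31) := ⟨by norm_num⟩
  have h31 : 31 ∣ Nat.card (Subgroup.normalizer (Q : Set Cfsg.Spor.Ly)) := by
    let f := (QuotientGroup.mk' M).comp (Subgroup.normalizer (Q : Set Cfsg.Spor.Ly)).subtype
    have hsurj : Function.Surjective f := by
      rw [← MonoidHom.range_eq_top, MonoidHom.range_comp, Subgroup.range_subtype]
      have e := congrArg (Subgroup.map (QuotientGroup.mk' M)) htop
      rw [Subgroup.map_sup, (Subgroup.map_eq_bot_iff M).2 (by rw [QuotientGroup.ker_mk']), sup_bot_eq,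
        Subgroup.map_top_of_surjective _ (QuotientGroup.mk'_surjective M)] at e
      exact e
    refine Nat.dvd_trans ?_ (Subgroup.card_dvd_of_surjective f hsurj)
    have e := Subgroup.card_mul_index M
    rw [card_Ly, hcard] at e
    have : Nat.card (Cfsg.Spor.Ly ⧸ M) = 5859000000 :=
      Nat.eq_of_mul_eq_mul_left (by norm_num : 0 < 8835156) (e.trans (by norm_num))
    rw [this]; norm_num
  obtain ⟨g, hg⟩ := exists_prime_orderOf_dvd_card' 31 h31
  have hgo : orderOf (g : Cfsg.Spor.Ly) = 31 := by rw [Subgroup.orderOf_coe, hg]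
  haveI : IsCyclic Q := isCyclic_of_prime_card hQ
  obtain ⟨q, hq⟩ := IsCyclic.exists_generator (α := Q)
  have hqo : orderOf (q : Cfsg.Spor.Ly) = 67 := by
    rw [Subgroup.orderOf_coe, orderOf_eq_card_of_forall_mem_zpowers hq, hQ]
  have hcomm : Commute (g : Cfsg.Spor.Ly) q := by
    have hmem : (g : Cfsg.Spor.Ly) * q * (g : Cfsg.Spor.Ly)⁻¹ ∈ Q := ((Subgroup.mem_normalizer_iff).1 g.2 _).1 q.2
    obtain ⟨k, hk⟩ := (Submonoid.mem_powers_iff _ _).1 (mem_powers_iff_mem_zpowers.2 (hq ⟨_, hmem⟩))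
    have hk' : (g : Cfsg.Spor.Ly) * q * (g : Cfsg.Spor.Ly)⁻¹ = (q : Cfsg.Spor.Ly) ^ k := by
      have := congrArg Subtype.val hk
      simpa using this.symm
    have iter : ∀ n : ℕ, (g : Cfsg.Spor.Ly) ^ n * q * ((g : Cfsg.Spor.Ly) ^ n)⁻¹ = (q : Cfsg.Spor.Ly) ^ (k ^ n) := by
      intro n
      induction n with
      | zero => simp
      | succ n ih =>
        rw [pow_succ' (g : Cfsg.Spor.Ly) n, show (g : Cfsg.Spor.Ly) * (g : Cfsg.Spor.Ly) ^ n * (q : Cfsg.Spor.Ly) * ((g : Cfsg.Spor.Ly) * (g : Cfsg.Spor.Ly) ^ n)⁻¹ = (g : Cfsg.Spor.Ly) * ((g : Cfsg.Spor.Ly) ^ n * (q : Cfsg.Spor.Ly) * ((g : Cfsg.Spor.Ly) ^ n)⁻¹) * (g : Cfsg.Spor.Ly)⁻¹ by group,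
          ih, ← conj_pow, hk', ← pow_mul, pow_succ' k n]
    have hp := iter 31
    rw [← hgo, pow_orderOf_eq_one, one_mul, inv_one, mul_one, hgo] at hp
    have hmod : k ^ 31 % 67 = 1 := by
      have := (pow_inj_mod (x := (q : Cfsg.Spor.Ly)) (n := k ^ 31) (m := 1)).1 (hp.symm.trans (pow_one _).symm)
      rwa [hqo] at this
    have hk1 : k % 67 = 1 := by
      have hlt : k % 67 < 67 := Nat.mod_lt _ (by norm_num)
      rw [Nat.pow_mod] at hmod
      generalize k % 67 = r at hmod hlt
      revert hmod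
      revert r
      decide +kernel
    have : (q : Cfsg.Spor.Ly) ^ k = q := by rw [← pow_mod_orderOf, hqo, hk1, pow_one]
    rw [this, mul_inv_eq_iff_eq_mul] at hk'
    exact hk'
  obtain ⟨h, hh⟩ := exists_prime_orderOf_dvd_card' (G := toLy.range) 31 (by rw [card_range]; norm_num)
  have hho : orderOf (h : Cfsg.Spor.Ly) = 31 := by rw [Subgroup.orderOf_coe, hh]
  have hz : ∀ x : Cfsg.Spor.Ly, orderOf x = 31 → ∃ S : Sylow 31 Cfsg.Spor.Ly, (S : Subgroup Cfsg.Spor.Ly) = Subgroup.zpowers x := by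
    intro x hx
    have h31f : (Nat.card Cfsg.Spor.Ly).factorization 31 = 1 := by
      rw [card_Ly, show (51765179004000000 : ℕ) = 1669844484000000 * 31 by norm_num,
        Nat.factorization_mul (by norm_num) (by norm_num)]
      simp [Nat.factorization_eq_zero_of_not_dvd (show ¬ 31 ∣ 1669844484000000 by norm_num), (by norm_num : Nat.Prime 31).factorization]
    exact ⟨Sylow.ofCard (Subgroup.zpowers x) (by rw [Nat.card_zpowers, hx, h31f, pow_one]), rfl⟩
  obtain ⟨S, hS'⟩ := hz _ hgo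
  obtain ⟨T, hT⟩ := hz _ hho
  obtain ⟨u, hu⟩ := MulAction.exists_smul_eq Cfsg.Spor.Ly S T
  have hx : MulAut.conj u (g : Cfsg.Spor.Ly) ∈ Subgroup.zpowers (h : Cfsg.Spor.Ly) := by
    rw [← hT, ← hu, Sylow.coe_subgroup_smul, hS']
    exact ⟨g, Subgroup.mem_zpowers _, rfl⟩
  obtain ⟨x, hx'⟩ : MulAut.conj u (g : Cfsg.Spor.Ly) ∈ toLy.range :=
    Subgroup.zpowers_le.2 h.2 hx
  have hp : MulAut.conj u (q : Cfsg.Spor.Ly) ∈ M := by
    rw [MulAut.conj_apply]
    obtain ⟨m, -, hm⟩ := q.2
    exact Subgroup.Normal.conj_mem inferInstance _ (hm ▸ m.2) u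
  let pt : XLy := MulAut.conj u (q : Cfsg.Spor.Ly) • P0
  have hne : pt ≠ P0 := by
    intro e
    have h1 := @hinj ⟨_, hp⟩ 1 (e.trans (one_smul _ P0).symm)
    have h2 : MulAut.conj u (q : Cfsg.Spor.Ly) = 1 := congrArg Subtype.val h1
    rw [MulEquiv.map_eq_one_iff] at h2
    rw [h2, orderOf_one] at hqo
    exact absurd hqo (by norm_num)
  have hfix : x ∈ St pt := by
    show toLy x • (MulAut.conj u (q : Cfsg.Spor.Ly) • P0) = MulAut.conj u (q : Cfsg.Spor.Ly) • P0
    rw [← mul_smul, hx', ← map_mul, hcomm.eq, map_mul, ← hx', mul_smul, toLy_smul_P0]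
  apply St_not31 hne
  have hox : orderOf x = 31 := by
    rw [← orderOf_injective toLy toLy_injective x, hx', MulEquiv.orderOf_eq, hgo]
  rw [← hox]
  exact Subgroup.orderOf_dvd_natCard _ hfix

/-- The presented Lyons group is simple. -/
theorem simple : IsSimpleGroup Cfsg.Spor.Ly := by
  haveI := h5_simple
  haveI := finite_Ly
  haveI : Nontrivial Cfsg.Spor.Ly := Finite.one_lt_card_iff_nontrivial.1 (by rw [card_Ly]; norm_num)
  refine ⟨fun M hM => ?_⟩
  rcases (Subgroup.Normal.comap hM toLy).eq_bot_or_eq_top with h | h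
  · left
    refine normal_eq_bot ?_
    rw [disjoint_iff, eq_bot_iff]
    rintro _ ⟨hm, x, rfl⟩
    have : x ∈ (⊥ : Subgroup H5) := h ▸ (Subgroup.mem_comap.2 hm)
    rw [Subgroup.mem_bot.1 this, map_one]
    exact Subgroup.mem_bot.2 rfl
  · right
    refine normal_eq_top ?_
    rintro _ ⟨x, rfl⟩
    exact Subgroup.mem_comap.1 (h ▸ Subgroup.mem_top x)

/-- The presented Lyons group is simple of the order of the Lyons group. -/
theorem isLy : Cfsg.IsLy Cfsg.Spor.Ly := ⟨simple, card_Ly⟩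

end CfsgLib.Presented.Ly
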