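import Cfsg.Agent.Lib.Presented.Ly.Group
import Cfsg.Agent.Lib.Presented.Cert.LyAdj
import Cfsg.Agent.S1023
import Cfsg.Agent.S1024
import Cfsg.Agent.S1055
import Cfsg.Agent.S1059
import Mathlib.LinearAlgebra.Matrix.Reindex
import Mathlib.LinearAlgebra.Matrix.GeneralLinearGroup.Defs
import Mathlib.Algebra.Field.ZMod

/-!
The group on the five generators is the adjoint group G₂(5).
-/
set_option autoImplicit false
set_option maxRecDepth 100000
set_option maxHeartbeats 2000000

namespace CfsgLib.Presented.Ly

open MatCheck Cfsg.Lie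

instance : Fact (Nat.Prime 5) := ⟨by decide⟩

/-- the coordinates of the adjoint representation -/
abbrev AIdx : Type := Fin 2 ⊕ Fin 12

/-- the numbering of the coordinates -/
def e14 : AIdx ≃ Fin 14 := finSumFinEquiv

/-- adjoint matrices are read on fourteen numbered coordinates -/
noncomputable def reidx : Matrix (Fin 14) (Fin 14) (ZMod 5) ≃ₐ[ZMod 5] Matrix AIdx AIdx (ZMod 5) :=
  Matrix.reindexAlgEquiv (ZMod 5) (ZMod 5) e14.symm

theorem adj_data_ok : dataOK 14 LyAdj.sb LyAdj.idx LyAdj.gens = true := by decide +kernel

/-- the matrices of the letters and, from ten on, of the root elements -/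
noncomputable def adjMat (x : ℕ) : Matrix AIdx AIdx (ZMod 5) := reidx (mat 14 5 LyAdj.gens x)

theorem adj_word {w : List ℕ} (h : check 14 5 LyAdj.sb LyAdj.idx LyAdj.gens w = true) :
    (w.map adjMat).prod = 1 := by
  have e := congrArg reidx (check_spec adj_data_ok h).2
  rw [map_list_prod, List.map_map, map_one] at e
  exact e

theorem adj_pairs_ok : ([[0, 1], [1, 0], [2, 3], [3, 2], [4, 5], [5, 4], [6, 7], [7, 6], [8, 9], [9, 8]].all fun w =>
    check 14 5 LyAdj.sb LyAdj.idx LyAdj.gens w) = true := by decide +kernel

theorem adj_pair {p q : ℕ}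
    (h : [p, q] ∈ [[0, 1], [1, 0], [2, 3], [3, 2], [4, 5], [5, 4], [6, 7], [7, 6], [8, 9], [9, 8]]) :
    adjMat p * adjMat q = 1 := by
  have h' := adj_pairs_ok
  simp only [List.all_eq_true] at h'
  simpa using adj_word (h' _ h)

/-- the images of the generators -/
noncomputable def imgAdj : Gen5 → GL AIdx (ZMod 5)
  | .a => ⟨adjMat 0, adjMat 1, adj_pair (by decide), adj_pair (by decide)⟩
  | .b => ⟨adjMat 2, adjMat 3, adj_pair (by decide), adj_pair (by decide)⟩
  | .c => ⟨adjMat 4, adjMat 5, adj_pair (by decide), adj_pair (by decide)⟩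
  | .d => ⟨adjMat 6, adjMat 7, adj_pair (by decide), adj_pair (by decide)⟩
  | .e => ⟨adjMat 8, adjMat 9, adj_pair (by decide), adj_pair (by decide)⟩

theorem val_evW {w : List ℕ} (hw : ∀ x ∈ w, x < 10) :
    ((evW (letters5.ev imgAdj) w : GL AIdx (ZMod 5)) : Matrix AIdx AIdx (ZMod 5)) = (w.map adjMat).prod := by
  rw [evW, ← Units.coeHom_apply, map_list_prod, List.map_map]
  refine congrArg List.prod (List.map_congr_left fun x hx => ?_)
  have hx10 : x < 10 := hw x hx
  interval_cases x <;> rfl

theorem adj_rels_ok : ((letters5.extraWords extra5).all fun w =>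
    w.all (fun x => Nat.blt x 10) && check 14 5 LyAdj.sb LyAdj.idx LyAdj.gens w) = true := by decide +kernel

theorem imgAdj_kills : ∀ r ∈ Cfsg.Spor.coxRelators ([] : List (Gen5 × ℕ × Gen5)) ∪ {r | r ∈ extra5},
    FreeGroup.lift imgAdj r = 1 := by
  refine Letters.kills letters5_valid nodes5_valid full5 (fun g hg => absurd hg List.not_mem_nil)
    (fun w hw => absurd (show w ∈ ([] : List (List ℕ)) from hw) List.not_mem_nil) ?_
  intro w hw
  have h := adj_rels_ok
  simp only [List.all_eq_true, Bool.and_eq_true, Nat.blt_eq] at h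
  apply Units.ext
  rw [val_evW (h w hw).1, adj_word (h w hw).2, Units.val_one]

/-- the adjoint representation -/
noncomputable def chevHom : H5 →* GL AIdx (ZMod 5) := PresentedGroup.toGroup imgAdj_kills

theorem chevHom_ev (x : ℕ) : chevHom (ev x) = letters5.ev imgAdj x := by
  show chevHom (letters5.ev (fun g => PresentedGroup.of g) x) = letters5.ev imgAdj x
  simp only [Letters.ev]
  split_ifs with h
  · cases (letters5.gen x).2 <;> simp [chevHom]
  · rw [map_one]

theorem chevHom_evW (w : List ℕ) : chevHom (evW ev w) = evW (letters5.ev imgAdj) w := by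
  rw [evW, evW, map_list_prod, List.map_map]
  exact congrArg List.prod (List.map_congr_left fun x _ => chevHom_ev x)

/-- root elements in the adjoint representation, on the coordinates `AIdx` -/
noncomputable def xm (r : ℕ) (t : ZMod 5) : Matrix AIdx AIdx (ZMod 5) := chevG2.x (ZMod 5) r t

theorem xm_add {r : ℕ} (hr : r < 12) (t₁ t₂ : ZMod 5) : xm r t₁ * xm r t₂ = xm r (t₁ + t₂) :=
  Cfsg.Agent.S1023.result chevG2 List.mem_cons_self r hr t₁ t₂

theorem xm_zero {r : ℕ} (hr : r < 12) : xm r 0 = 1 :=
  (Cfsg.Agent.S1024.result chevG2 List.mem_cons_self r hr 0).2 rfl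

theorem xm_pow {r : ℕ} (hr : r < 12) : ∀ n : ℕ, xm r 1 ^ n = xm r n
  | 0 => by rw [pow_zero, Nat.cast_zero, xm_zero hr]
  | n + 1 => by rw [pow_succ, xm_pow hr n, xm_add hr, Nat.cast_succ]

/-- a root element as an invertible matrix -/
noncomputable def xu (r : ℕ) (hr : r < 12) (t : ZMod 5) : GL AIdx (ZMod 5) :=
  ⟨xm r t, xm r (-t), by rw [xm_add hr, add_neg_cancel, xm_zero hr], by rw [xm_add hr, neg_add_cancel, xm_zero hr]⟩

theorem xu_mem (r : ℕ) (hr : r < 12) (t : ZMod 5) : xu r hr t ∈ chevG2.group (ZMod 5) :=
  Subgroup.subset_closure ⟨⟨r, hr⟩, t, dif_pos hr⟩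

/-- the entries of a root element with parameter one, on numbered coordinates -/
noncomputable def xOne (r : ℕ) (i j : Fin 14) : ZMod 5 := xm r 1 (e14.symm i) (e14.symm j)

theorem root_entries : ((List.range 12).all fun r => (List.finRange 14).all fun i => (List.finRange 14).all fun j =>
    decide (mat 14 5 LyAdj.gens (10 + r) i j = xOne r i j)) = true := by decide +kernel

theorem root_mat {r : ℕ} (hr : r < 12) : adjMat (10 + r) = xm r 1 := by
  ext i j
  have h := root_entries
  simp only [List.all_eq_true, decide_eq_true_eq, List.mem_range] at h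
  have h' := h r hr (e14 i) (List.mem_finRange _) (e14 j) (List.mem_finRange _)
  rw [xOne, Equiv.symm_apply_apply, Equiv.symm_apply_apply] at h'
  rw [← h']
  rfl

theorem root_word_ok : ((List.range 12).all fun r =>
    (LyAdj.rootWords.getD r []).all (fun x => Nat.blt x 10) &&
      check 14 5 LyAdj.sb LyAdj.idx LyAdj.gens ((10 + r) :: invWord LyH.alphabet (LyAdj.rootWords.getD r []))) = true := by
  decide +kernel

theorem gen_word_ok : ((List.range 4).all fun i =>
    (LyAdj.genRootWords.getD i []).all (fun x => Nat.ble 10 x && Nat.blt x 22) &&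
      check 14 5 LyAdj.sb LyAdj.idx LyAdj.gens ([1, 3, 5, 9].getD i 0 :: LyAdj.genRootWords.getD i [])) = true := by
  decide +kernel

theorem d_word_ok : (LyAdj.dWord.all (fun x => decide (x ∈ [0, 1, 2, 3, 4, 5, 8, 9])) &&
    check 14 5 LyAdj.sb LyAdj.idx LyAdj.gens (7 :: LyAdj.dWord)) = true := by
  decide +kernel

/-- The image is the Chevalley group. -/
theorem range_chevHom : chevHom.range = chevG2.group (ZMod 5) := by
  apply le_antisymm
  · let S : Subgroup H5 := (chevG2.group (ZMod 5)).comap chevHom
    let r : ℕ → GL AIdx (ZMod 5) := fun x => if hx : x - 10 < 12 then xu (x - 10) hx 1 else 1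
    have base : ∀ i < 4, ev ([0, 2, 4, 8].getD i 0) ∈ S := by
      intro i hi
      have h := gen_word_ok
      simp only [List.all_eq_true, List.mem_range, Bool.and_eq_true, Nat.ble_eq, Nat.blt_eq] at h
      obtain ⟨hlt, hc⟩ := h i hi
      set L := LyAdj.genRootWords.getD i [] with hL
      have hp := adj_word hc
      rw [List.map_cons, List.prod_cons] at hp
      have hr : ((L.map r).prod : GL AIdx (ZMod 5)) ∈ chevG2.group (ZMod 5) := by
        refine Subgroup.list_prod_mem _ fun y hy => ?_
        obtain ⟨x, hx, rfl⟩ := List.mem_map.1 hy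
        have h12 : x - 10 < 12 := by have := hlt x hx; omega
        simp only [r, dif_pos h12]
        exact xu_mem _ _ _
      have hval : ((L.map r).prod : GL AIdx (ZMod 5)).val = (L.map adjMat).prod := by
        rw [← Units.coeHom_apply, map_list_prod, List.map_map]
        refine congrArg List.prod (List.map_congr_left fun x hx => ?_)
        have hx' := hlt x hx
        have h12 : x - 10 < 12 := by omega
        simp only [Function.comp_apply, Units.coeHom_apply, r, dif_pos h12]
        show xm (x - 10) 1 = adjMat x
        rw [← root_mat h12, show 10 + (x - 10) = x by omega]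
      show chevHom (ev _) ∈ chevG2.group (ZMod 5)
      rw [chevHom_ev]
      have himg : letters5.ev imgAdj ([0, 2, 4, 8].getD i 0) = (L.map r).prod := by
        refine Units.ext ?_
        rw [hval]
        calc (letters5.ev imgAdj ([0, 2, 4, 8].getD i 0)).val
            = (letters5.ev imgAdj ([0, 2, 4, 8].getD i 0)).val *
              (adjMat ([1, 3, 5, 9].getD i 0) * (L.map adjMat).prod) := by rw [hp, mul_one]
          _ = (L.map adjMat).prod := by
              have e : adjMat ([1, 3, 5, 9].getD i 0) = (letters5.ev imgAdj ([0, 2, 4, 8].getD i 0)).inv := by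
                interval_cases i <;> rfl
              rw [← mul_assoc, e, (letters5.ev imgAdj ([0, 2, 4, 8].getD i 0)).val_inv, one_mul]
      rw [himg]
      exact hr
    have hd : ev 6 ∈ S := by
      have h := d_word_ok
      simp only [List.all_eq_true, Bool.and_eq_true, decide_eq_true_eq] at h
      have hmem : evW ev LyAdj.dWord ∈ S := by
        refine Subgroup.list_prod_mem _ fun y hy => ?_
        obtain ⟨x, hx, rfl⟩ := List.mem_map.1 hy
        have hinv : ∀ x < 10, ev x ∈ S → ev (LyH.alphabet.invl x) ∈ S := fun x hx hm => by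
          rw [eq_inv_of_mul_eq_one_left (ev_inv x hx)]
          exact S.inv_mem hm
        have hxs := h.1 x hx
        simp only [List.mem_cons, List.not_mem_nil, or_false] at hxs
        rcases hxs with rfl | rfl | rfl | rfl | rfl | rfl | rfl | rfl
        exacts [base 0 (by omega), hinv 0 (by omega) (base 0 (by omega)), base 1 (by omega),
          hinv 2 (by omega) (base 1 (by omega)), base 2 (by omega), hinv 4 (by omega) (base 2 (by omega)),
          base 3 (by omega), hinv 8 (by omega) (base 3 (by omega))]
      show chevHom (ev 6) ∈ chevG2.group (ZMod 5)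
      have hp := adj_word h.2
      rw [List.map_cons, List.prod_cons, ← val_evW (fun x hx => by
        have := h.1 x hx
        simp only [List.mem_cons, List.not_mem_nil, or_false] at this
        omega)] at hp
      have e : letters5.ev imgAdj 6 = evW (letters5.ev imgAdj) LyAdj.dWord := by
        refine Units.ext ?_
        calc (letters5.ev imgAdj 6).val
            = (letters5.ev imgAdj 6).val * (adjMat 7 * (evW (letters5.ev imgAdj) LyAdj.dWord).val) := by
              rw [hp, mul_one]
          _ = _ := by rw [← mul_assoc, show adjMat 7 = (letters5.ev imgAdj 6).inv from rfl,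
                (letters5.ev imgAdj 6).val_inv, one_mul]
      rw [chevHom_ev, e, ← chevHom_evW]
      exact hmem
    have top : (⊤ : Subgroup H5) ≤ S := by
      rw [← gen_top, genBy, Subgroup.closure_le]
      rintro _ ⟨x, hx, rfl⟩
      simp only [Set.mem_setOf_eq, List.mem_cons, List.not_mem_nil, or_false] at hx
      rcases hx with rfl | rfl | rfl | rfl | rfl
      exacts [base 0 (by omega), base 1 (by omega), base 2 (by omega), hd, base 3 (by omega)]
    rintro _ ⟨g, rfl⟩
    exact top (Subgroup.mem_top g)
  · refine (Subgroup.closure_le _).2 ?_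
    rintro u ⟨r, t, hu⟩
    obtain ⟨n, rfl⟩ : ∃ n : ℕ, (n : ZMod 5) = t := ⟨t.val, ZMod.natCast_zmod_val t⟩
    have h := root_word_ok
    simp only [List.all_eq_true, List.mem_range, Bool.and_eq_true, Nat.blt_eq] at h
    obtain ⟨hlt, hc⟩ := h r r.2
    set L := LyAdj.rootWords.getD (r : ℕ) [] with hL
    have hgood : LyH.alphabet.Good (letters5.ev imgAdj) := by
      have hone : letters5.ev imgAdj LyH.alphabet.eps = 1 := Letters.ev_eps (L := letters5)
      refine ⟨hone, fun x hx => ?_⟩
      rcases Nat.eq_or_lt_of_le hx with rfl | h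
      · rw [show LyH.alphabet.invl LyH.alphabet.eps = LyH.alphabet.eps by decide +kernel, hone, one_mul]
      · exact Letters.ev_inv letters5_valid (fun g hg => absurd hg List.not_mem_nil) x h
    have hi : ∀ x ∈ invWord LyH.alphabet L, x < 10 := by
      intro x hx
      simp only [invWord, List.mem_reverse, List.mem_map] at hx
      obtain ⟨y, hy, rfl⟩ := hx
      exact (show ∀ y < 10, LyH.alphabet.invl y < 10 by decide +kernel) y (hlt y hy)
    have hp := adj_word hc
    rw [List.map_cons, List.prod_cons, ← val_evW hi,
      evW_invWord hgood (fun x hx => (hlt x hx).le), root_mat r.2] at hp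
    refine ⟨evW ev L ^ n, Units.ext ?_⟩
    have hx : xm r n = chevG2.xMat (ZMod 5) r n := dif_pos r.2
    have hu' : @Eq (Matrix AIdx AIdx (ZMod 5)) u.val (xm r n) := Eq.trans hu hx.symm
    rw [map_pow, chevHom_evW, Units.val_pow_eq_pow_val, hu', ← xm_pow r.2 n]
    have hval : (evW (letters5.ev imgAdj) L).val = xm r 1 := by
      have := congrArg (fun M => M * (evW (letters5.ev imgAdj) L).val) hp
      simpa [mul_assoc] using this.symm
    exact congrArg (fun M => M ^ n) hval

theorem card_H5 : Nat.card H5 = 5859000000 ∧ Function.Injective chevHom := by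
  have hc : Nat.card (chevHom.range) = 5859000000 := by
    rw [range_chevHom]
    exact (Cfsg.Agent.S1059.result (F := ZMod 5) (ZMod.card 5)).trans (by norm_num)
  haveI : Finite chevHom.range := Nat.finite_of_card_ne_zero (by rw [hc]; norm_num)
  have hup := card_le
  haveI : Finite H5 := Nat.finite_of_card_ne_zero hup.1
  have hle := Nat.card_le_card_of_surjective chevHom.rangeRestrict chevHom.rangeRestrict_surjective
  have heq : Nat.card H5 = 5859000000 := by omega
  refine ⟨heq, fun p q h => ?_⟩
  have hbij : Function.Bijective chevHom.rangeRestrict :=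
    chevHom.rangeRestrict_surjective.bijective_of_nat_card_le (by omega)
  exact hbij.1 (Subtype.ext h)

/-- The group on the five generators is the adjoint Chevalley group of type G₂ over five elements. -/
noncomputable def h5Equiv : H5 ≃* ↥(chevG2.group (ZMod 5)) :=
  (MonoidHom.ofInjective card_H5.2).trans (MulEquiv.subgroupCongr range_chevHom)

theorem h5_simple : IsSimpleGroup H5 := by
  haveI := (Cfsg.Agent.S1055.result (F := ZMod 5) ⟨2, by decide, by decide⟩).1
  exact h5Equiv.isSimpleGroup

end CfsgLib.Presented.Ly
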