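import Cfsg.Agent.Lib.Presented.Ly.Centralizer
import Cfsg.Prelude.Def_Exceptional
import Mathlib.GroupTheory.GroupAction.Quotient

/-!
The presented Lyons group as a transitive permutation group of degree 8835156.
-/
set_option autoImplicit false
set_option maxRecDepth 100000

namespace CfsgLib.Presented.Ly

theorem orderOf_tauLy : orderOf tauLy = 2 := by
  rw [tau_eq, orderOf_injective toLy toLy_injective, orderOf_tau]

theorem exists_point_equiv (n : ℕ) [NeZero n] (hn : toLy.range.index = n) :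
    ∃ θ : XLy ≃ Fin n, θ pBase = 0 := by
  haveI := finite_XLy
  let θ₀ : XLy ≃ Fin n := (Finite.equivFin XLy).trans (finCongr (show Nat.card XLy = n from hn))
  exact ⟨θ₀.trans (Equiv.swap (θ₀ pBase) 0), by simp⟩

theorem model_of_equiv {n : ℕ} [NeZero n] (θ : XLy ≃ Fin n) (hθ : θ pBase = 0) :
    ∃ (H : Subgroup (Equiv.Perm (Fin n))) (_ : Cfsg.Spor.Ly ≃* H),
      MulAction.IsPretransitive H (Fin n) ∧ Nonempty (MulAction.stabilizer H (0 : Fin n) ≃* H5) := by
  let f : Cfsg.Spor.Ly →* Equiv.Perm (Fin n) :=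
    θ.permCongrHom.toMonoidHom.comp (MulAction.toPermHom Cfsg.Spor.Ly XLy)
  have happ : ∀ g i, f g i = θ (g • θ.symm i) := fun g i => rfl
  have hinj : Function.Injective f := by
    haveI := simple
    rw [← MonoidHom.ker_eq_bot_iff]
    rcases (MonoidHom.normal_ker f).eq_bot_or_eq_top with h | h
    · exact h
    · exfalso
      have hz : f gz = 1 := f.mem_ker.1 (h ▸ Subgroup.mem_top gz)
      have h0 := happ gz 0
      rw [hz, Equiv.Perm.one_apply, ← hθ, θ.symm_apply_apply] at h0
      exact P1_ne (θ.injective h0).symm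
  refine ⟨f.range, MonoidHom.ofInjective hinj, ⟨fun a b => ?_⟩, ?_⟩
  · obtain ⟨x, hx⟩ := QuotientGroup.mk_surjective (θ.symm a)
    obtain ⟨y, hy⟩ := QuotientGroup.mk_surjective (θ.symm b)
    refine ⟨⟨f (y * x⁻¹), _, rfl⟩, ?_⟩
    show f (y * x⁻¹) a = b
    rw [happ, ← hx, MulAction.Quotient.smul_coe, smul_eq_mul, inv_mul_cancel_right, hy, θ.apply_symm_apply]
  · have hst : ∀ g, f g 0 = 0 ↔ g ∈ toLy.range := by
      intro g
      rw [happ, ← hθ, θ.symm_apply_apply, θ.apply_eq_iff_eq, pBase, MulAction.Quotient.smul_coe, smul_eq_mul, mul_one,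
        QuotientGroup.eq, mul_one, inv_mem_iff]
    let g : toLy.range → MulAction.stabilizer f.range (0 : Fin n) := fun x =>
      ⟨⟨f x.1, x.1, rfl⟩, (hst x.1).2 x.2⟩
    let gh : toLy.range →* MulAction.stabilizer f.range (0 : Fin n) := MonoidHom.mk' g fun a b =>
      Subtype.ext (Subtype.ext (map_mul f a.1 b.1))
    have hbij : Function.Bijective gh := by
      constructor
      · intro a b hab
        exact Subtype.ext (hinj (congrArg (fun z => z.1.1) hab))
      · rintro ⟨⟨_, x, rfl⟩, hx⟩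
        exact ⟨⟨x, (hst x).1 hx⟩, rfl⟩
    exact ⟨((MonoidHom.ofInjective toLy_injective).trans (MulEquiv.ofBijective gh hbij)).symm⟩

theorem exists_perm_model : ∃ (H : Subgroup (Equiv.Perm (Fin 8835156))) (_ : Cfsg.Spor.Ly ≃* H),
    MulAction.IsPretransitive H (Fin 8835156) ∧
      Nonempty (MulAction.stabilizer H (0 : Fin 8835156) ≃* H5) := by
  obtain ⟨θ, hθ⟩ := exists_point_equiv 8835156 index_eq
  exact model_of_equiv θ hθ

theorem isG2_of_equiv {G : Type*} [Group G] (σ : G ≃* H5) : Cfsg.IsG2 G := by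
  haveI := h5_simple
  refine ⟨σ.isSimpleGroup, 5, (by norm_num : Nat.Prime 5).isPrimePow, by norm_num, ?_⟩
  rw [Nat.card_congr σ.toEquiv, card_H5.1]
  norm_num

/-- the centraliser of the involution carried by an isomorphism -/
noncomputable def centralizer_equiv {G : Type*} [Group G] (e : Cfsg.Spor.Ly ≃* G) :
    C11 ≃* Subgroup.centralizer ({e tauLy} : Set G) where
  toFun x := ⟨e x, Subgroup.mem_centralizer_singleton_iff.2 (by
    rw [← map_mul, ← map_mul, Subgroup.mem_centralizer_singleton_iff.1 x.2])⟩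
  invFun y := ⟨e.symm y, Subgroup.mem_centralizer_singleton_iff.2 (e.injective (by
    rw [map_mul, map_mul, e.apply_symm_apply]; exact Subgroup.mem_centralizer_singleton_iff.1 y.2))⟩
  left_inv x := Subtype.ext (e.symm_apply_apply _)
  right_inv y := Subtype.ext (e.apply_symm_apply _)
  map_mul' x y := Subtype.ext (map_mul e _ _)

end CfsgLib.Presented.Ly
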