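import Cfsg.Agent.Lib.Presented.Ly.Index

/-!
Counting the involutions of a small subgroup given by a regular orbit.
-/
set_option autoImplicit false
set_option maxRecDepth 100000

namespace CfsgLib.Presented.Ly

open Vec

/-- the image of a point under a path of generators, read from tables -/
noncomputable def evalPath (tbls : List NTree) (p : List ℕ) (x : ℕ) : ℕ :=
  List.rec (motive := fun _ => ℕ) x (fun g _ ih => force ih fun y => NTree.get 15 (tbls.getD g (.leaf 0)) y) p

/-- the points whose image has bit `k` -/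
noncomputable def bitSet (T : NTree) (k : ℕ) (es : List (ℕ × List ℕ)) : ℕ :=
  List.rec (motive := fun _ => ℕ) 0
    (fun e _ ih => force ih fun acc => cond (Nat.beq (Nat.mod (Nat.shiftRight (NTree.get 15 T e.1) k) 2) 1)
      (Nat.lor acc (Nat.shiftLeft 1 e.1)) acc) es

/-- all the points -/
noncomputable def pointSet (es : List (ℕ × List ℕ)) : ℕ :=
  List.rec (motive := fun _ => ℕ) 0 (fun e _ ih => force ih fun acc => Nat.lor acc (Nat.shiftLeft 1 e.1)) es

/-- the tables show the generators on the orbit -/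
noncomputable def tablesOK (gens : List (List ℕ)) (tbls : List NTree) (O : ℕ) (es : List (ℕ × List ℕ)) : Bool :=
  Nat.beq (pointSet es) O && Nat.beq gens.length tbls.length &&
    (List.range gens.length).all fun g => (gens.getD g []).all (fun x => Nat.blt x 10) &&
      (List.range 15).all fun k =>
        Nat.beq (Nat.land (applyNet (LyPerm.rep.netW (gens.getD g [])) (Nat.land O ((slices 15).getD k 0))) O)
          (bitSet (tbls.getD g (.leaf 0)) k es)

/-- each entry leads to its point -/
noncomputable def pathsOK (n : ℕ) (tbls : List NTree) (i : ℕ) (es : List (ℕ × List ℕ)) : Bool :=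
  es.all fun e => e.2.all (fun g => Nat.blt g n) && Nat.beq (evalPath tbls e.2 i) e.1

/-- the elements of order two -/
noncomputable def invCount (tbls : List NTree) (i : ℕ) (es : List (ℕ × List ℕ)) : ℕ :=
  (es.filter fun e => !Nat.beq e.1 i && Nat.beq (evalPath tbls e.2 e.1) i).length

theorem testBit_pointSet : ∀ (es : List (ℕ × List ℕ)) (j : ℕ),
    (pointSet es).testBit j = true ↔ ∃ e ∈ es, e.1 = j
  | [], j => by simp [pointSet]
  | e :: es, j => by
    show (Vec.force (pointSet es) fun acc => Nat.lor acc (Nat.shiftLeft 1 e.1)).testBit j = true ↔ _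
    rw [force_eq]
    change (pointSet es ||| 1 <<< e.1).testBit j = true ↔ _
    rw [Nat.testBit_or, Bool.or_eq_true, testBit_pointSet es j, Nat.shiftLeft_eq, one_mul, Nat.testBit_two_pow,
      decide_eq_true_eq, List.exists_mem_cons_iff]
    exact or_comm

theorem testBit_bitSet (T : NTree) (k : ℕ) : ∀ (es : List (ℕ × List ℕ)) (j : ℕ),
    (bitSet T k es).testBit j = true ↔ (∃ e ∈ es, e.1 = j) ∧ (NTree.get 15 T j).testBit k = true
  | [], j => by simp [bitSet]
  | e :: es, j => by
    show (Vec.force (bitSet T k es) fun acc => cond (Nat.beq (Nat.mod (Nat.shiftRight (NTree.get 15 T e.1) k) 2) 1)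
      (Nat.lor acc (Nat.shiftLeft 1 e.1)) acc).testBit j = true ↔ _
    rw [force_eq, show Nat.beq (Nat.mod (Nat.shiftRight (NTree.get 15 T e.1) k) 2) 1 = (NTree.get 15 T e.1).testBit k by
      rw [Nat.testBit_eq_decide_div_mod_eq]
      show Nat.beq ((NTree.get 15 T e.1 >>> k) % 2) 1 = _
      rw [Nat.shiftRight_eq_div_pow]
      by_cases h : NTree.get 15 T e.1 / 2 ^ k % 2 = 1
      · rw [h]; simp
      · rw [show NTree.get 15 T e.1 / 2 ^ k % 2 = 0 by omega]; simp only [zero_ne_one, decide_false]; rfl, List.exists_mem_cons_iff]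
    cases hb : (NTree.get 15 T e.1).testBit k
    · simp only [cond_false, testBit_bitSet T k es j]
      constructor
      · exact fun h => ⟨Or.inr h.1, h.2⟩
      · rintro ⟨h | h, h'⟩
        · rw [← h, hb] at h'; cases h'
        · exact ⟨h, h'⟩
    · simp only [cond_true]
      change (bitSet T k es ||| 1 <<< e.1).testBit j = true ↔ _
      rw [Nat.testBit_or, Bool.or_eq_true, testBit_bitSet T k es j, Nat.shiftLeft_eq, one_mul, Nat.testBit_two_pow,
        decide_eq_true_eq]
      constructor
      · rintro (h | h)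
        · exact ⟨Or.inr h.1, h.2⟩
        · exact ⟨Or.inl h, h ▸ hb⟩
      · rintro ⟨h | h, h'⟩
        · exact Or.inr h
        · exact Or.inl ⟨h, h'⟩

/-- A table entry is the image. -/
theorem table_spec {gens : List (List ℕ)} {tbls : List NTree} {i rounds O : ℕ} {es : List (ℕ × List ℕ)}
    (hok : orbitOK LyPerm.rep gens i rounds O = true) (ht : tablesOK gens tbls O es = true) {g : ℕ}
    (hg : g < gens.length) (x : Fin LyPerm.rep.N) (hx : O.testBit x = true) :
    NTree.get 15 (tbls.getD g (.leaf 0)) x = (phi (evW ev (gens.getD g [])) x : ℕ) ∧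
      O.testBit (phi (evW ev (gens.getD g [])) x : ℕ) = true := by
  simp only [tablesOK, Bool.and_eq_true, List.all_eq_true, List.mem_range, Nat.blt_eq] at ht
  obtain ⟨⟨hpts, -⟩, hall⟩ := ht
  obtain ⟨hlt, hk⟩ := hall g hg
  set w := gens.getD g [] with hw
  have hmem : w ∈ gens := by rw [hw, List.getD_eq_getElem _ _ hg]; exact List.getElem_mem hg
  have hi : i < LyPerm.rep.N := by
    simp only [orbitOK, Bool.and_eq_true, Nat.blt_eq] at hok
    exact hok.1.1
  have horb := orbit_eq_of_ok rep_valid hok phi (fun y hy => phi_ev y hy) (H := wgrp gens) rfl hi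
  have hO : O.testBit (phi (evW ev w) x : ℕ) = true := by
    obtain ⟨s, hs, hsx⟩ := (horb x).2 hx
    refine (horb _).1 ⟨evW ev w * s, (wgrp gens).mul_mem (Subgroup.subset_closure ⟨w, hmem, rfl⟩) hs, ?_⟩
    rw [map_mul, Equiv.Perm.mul_apply, hsx]
  refine ⟨?_, hO⟩
  have hperm : (phi (evW ev w) x : ℕ) = Vec.netPerm (LyPerm.rep.netW w) x := by
    rw [phi_evW hlt, Rep.netW_perm rep_valid]
  have hex : ∃ e ∈ es, e.1 = (x : ℕ) := by
    rw [← testBit_pointSet, Nat.eq_of_beq_eq_true hpts]
    exact hx
  apply Nat.eq_of_testBit_eq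
  intro b
  rcases Nat.lt_or_ge b 15 with hb | hb
  · have hkb := congrArg (fun v : ℕ => v.testBit (x : ℕ)) (Nat.eq_of_beq_eq_true (hk b hb))
    change ((Vec.applyNet (LyPerm.rep.netW w) (O &&& (Vec.slices 15).getD b 0)) &&& O).testBit (x : ℕ) = _ at hkb
    rw [Nat.testBit_and, hx, Bool.and_true, Vec.testBit_applyNet (Rep.netOk_netW rep_valid w), ← hperm,
      Nat.testBit_and, hO, Bool.true_and, (Vec.slices_spec 15).2 b hb,
      decide_eq_true (lt_trans (phi (evW ev w) x).2 (by decide : LyPerm.rep.N < 2 ^ 15)), Bool.true_and] at hkb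
    rw [hkb]
    exact (Bool.eq_iff_iff.2 ⟨fun h => (testBit_bitSet _ b es x).2 ⟨hex, h⟩, fun h => ((testBit_bitSet _ b es x).1 h).2⟩)
  · have h1 : ∀ (T : NTree) (n : ℕ), NTree.get 15 T n < 2 ^ 15 := by
      intro T
      induction T with
      | leaf v => exact fun n => Nat.mod_lt _ (Nat.two_pow_pos 15)
      | node l r il ir =>
        intro n
        show Bool.rec (motive := fun _ => ℕ) (NTree.get 15 r (Nat.div n 2)) (NTree.get 15 l (Nat.div n 2)) (Nat.beq (Nat.mod n 2) 0) < _
        cases Nat.beq (Nat.mod n 2) 0 <;> first | exact ir _ | exact il _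
    rw [Nat.testBit_lt_two_pow (lt_of_lt_of_le (h1 _ _) (Nat.pow_le_pow_right (by omega) hb)),
      Nat.testBit_lt_two_pow (lt_of_lt_of_le (lt_trans (phi (evW ev w) x).2 (by decide : LyPerm.rep.N < 2 ^ 15))
        (Nat.pow_le_pow_right (by omega) hb))]

/-- the element of a path -/
noncomputable def pathEl (gens : List (List ℕ)) (p : List ℕ) : H5 := (p.map fun g => evW ev (gens.getD g [])).prod

theorem path_spec {gens : List (List ℕ)} {tbls : List NTree} {i rounds O : ℕ} {es : List (ℕ × List ℕ)}
    (hok : orbitOK LyPerm.rep gens i rounds O = true) (ht : tablesOK gens tbls O es = true) :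
    ∀ (p : List ℕ), (∀ g ∈ p, g < gens.length) → ∀ x : Fin LyPerm.rep.N, O.testBit x = true →
      evalPath tbls p x = (phi (pathEl gens p) x : ℕ) ∧ O.testBit (phi (pathEl gens p) x : ℕ) = true
  | [], _, x, hx => by simp [pathEl, evalPath, hx]
  | g :: p, hp, x, hx => by
    obtain ⟨h1, h2⟩ := path_spec hok ht p (fun y hy => hp y (List.mem_cons_of_mem _ hy)) x hx
    obtain ⟨h3, h4⟩ := table_spec hok ht (hp g List.mem_cons_self) (phi (pathEl gens p) x) h2
    have e : phi (pathEl gens (g :: p)) x = phi (evW ev (gens.getD g [])) (phi (pathEl gens p) x) := by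
      rw [pathEl, List.map_cons, List.prod_cons, ← pathEl, map_mul, Equiv.Perm.mul_apply]
    rw [e]
    refine ⟨?_, h4⟩
    show Vec.force (evalPath tbls p x) (fun y => NTree.get 15 (tbls.getD g (.leaf 0)) y) = _
    rw [force_eq, h1, h3]

theorem pathEl_mem (gens : List (List ℕ)) : ∀ p : List ℕ, (∀ g ∈ p, g < gens.length) → pathEl gens p ∈ wgrp gens
  | [], _ => (wgrp gens).one_mem
  | g :: p, hp => by
    rw [pathEl, List.map_cons, List.prod_cons]
    refine (wgrp gens).mul_mem (Subgroup.subset_closure ⟨gens.getD g [], ?_, rfl⟩)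
      (pathEl_mem gens p fun y hy => hp y (List.mem_cons_of_mem _ hy))
    show gens.getD g [] ∈ gens
    rw [List.getD_eq_getElem _ _ (hp g List.mem_cons_self)]
    exact List.getElem_mem _

theorem card_bits (N O : ℕ) : Nat.card {j : Fin N // O.testBit j = true} = bitCount O N := by
  classical
  rw [bitCount_eq, Nat.card_eq_fintype_card, Fintype.card_subtype, ← Finset.card_map Fin.valEmbedding]
  congr 1
  ext j
  simp only [Finset.mem_map, Finset.mem_filter, Finset.mem_univ, true_and, Finset.mem_range]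
  constructor
  · rintro ⟨x, hx, rfl⟩; exact ⟨x.2, hx⟩
  · rintro ⟨hj, hb⟩; exact ⟨⟨j, hj⟩, hb, rfl⟩

/-- In a group with a regular orbit the elements of order two are at most the counted ones. -/
theorem invol_le {gens : List (List ℕ)} {tbls : List NTree} {i rounds O n c : ℕ} {es : List (ℕ × List ℕ)}
    (hi : i < 19530)
    (hok : orbitOK LyPerm.rep gens i rounds O = true) (ht : tablesOK gens tbls O es = true)
    (hp : pathsOK gens.length tbls i es = true) (hc : invCount tbls i es = c)
    (hO : Nat.beq (bitCount O 19530) n = true) (hcard : Nat.card (wgrp gens) = n) :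
    {s : H5 | s ∈ wgrp gens ∧ orderOf s = 2}.ncard ≤ c := by
  classical
  haveI : Finite (wgrp gens) := inferInstance
  let i0 : Fin LyPerm.rep.N := ⟨i, hi⟩
  have horb := orbit_eq_of_ok rep_valid hok phi (fun y hy => phi_ev y hy) (H := wgrp gens) rfl hi
  have hi0 : O.testBit (i0 : ℕ) = true := (horb i0).1 ⟨1, (wgrp gens).one_mem, by simp [i0]⟩
  let f : wgrp gens → {j : Fin LyPerm.rep.N // O.testBit j = true} := fun s =>
    ⟨phi (s : H5) i0, (horb _).1 ⟨s, s.2, rfl⟩⟩
  have hsurj : Function.Surjective f := by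
    rintro ⟨j, hj⟩
    obtain ⟨s, hs, he⟩ := (horb j).2 hj
    exact ⟨⟨s, hs⟩, Subtype.ext he⟩
  have hcj : Nat.card {j : Fin LyPerm.rep.N // O.testBit j = true} = n := by
    rw [card_bits, ← Nat.eq_of_beq_eq_true hO]
    rfl
  have hinj : Function.Injective f := ((Nat.bijective_iff_surjective_and_card f).2 ⟨hsurj, hcard.trans hcj.symm⟩).1
  simp only [pathsOK, List.all_eq_true, Bool.and_eq_true, Nat.blt_eq, Nat.beq_eq] at hp
  let J : Finset ℕ := ((es.filter fun e => !Nat.beq e.1 i && Nat.beq (evalPath tbls e.2 e.1) i).map Prod.fst).toFinset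
  have hJ : J.card ≤ c := by
    refine le_trans (List.toFinset_card_le _) ?_
    rw [List.length_map, ← hc]
    rfl
  rw [← Set.ncard_coe_finset] at hJ
  refine le_trans (Set.ncard_le_ncard_of_injOn (fun s => (phi s i0 : ℕ)) ?_ ?_ J.finite_toSet) hJ
  · rintro s ⟨hs, h2⟩
    have hss : s * s = 1 := by rw [← pow_two, ← h2]; exact pow_orderOf_eq_one s
    have hpts : pointSet es = O := by
      simp only [tablesOK, Bool.and_eq_true] at ht
      exact Nat.eq_of_beq_eq_true ht.1.1
    obtain ⟨e, he, hej⟩ := (testBit_pointSet es (phi s i0 : ℕ)).1 (hpts.symm ▸ (horb _).1 ⟨s, hs, rfl⟩)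
    obtain ⟨hlt, hev⟩ := hp e he
    have hu : phi (pathEl gens e.2) i0 = phi s i0 := by
      apply Fin.ext
      rw [← (path_spec hok ht e.2 hlt i0 hi0).1, ← hej]
      exact hev
    have hus : pathEl gens e.2 = s :=
      congrArg Subtype.val (@hinj ⟨_, pathEl_mem gens e.2 hlt⟩ ⟨s, hs⟩ (Subtype.ext hu))
    simp only [J, List.coe_toFinset, List.mem_map, List.mem_filter, Set.mem_ofPred_eq]
    refine ⟨e, ⟨he, ?_⟩, hej⟩
    rw [Bool.and_eq_true, Bool.not_eq_true']
    constructor
    · by_contra hne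
      have : (phi s i0 : ℕ) = i := hej ▸ Nat.eq_of_beq_eq_true (Bool.eq_true_of_not_eq_false hne)
      have h1 : f ⟨s, hs⟩ = f 1 := Subtype.ext (Fin.ext (by simpa [f, i0] using this))
      have : s = 1 := congrArg Subtype.val (hinj h1)
      rw [this, orderOf_one] at h2
      exact absurd h2 (by omega)
    · rw [Nat.beq_eq, hej, (path_spec hok ht e.2 hlt (phi s i0) ((horb _).1 ⟨s, hs, rfl⟩)).1, hus,
        ← Equiv.Perm.mul_apply, ← map_mul, hss, map_one]
      rfl
  · intro a ha b hb hab
    exact congrArg Subtype.val (@hinj ⟨a, ha.1⟩ ⟨b, hb.1⟩ (Subtype.ext (Fin.ext hab)))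

end CfsgLib.Presented.Ly
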