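import Cfsg.Agent.Lib.Presented.Ly.Simple
import Cfsg.Agent.Lib.Presented.Ly.CentCheck
import Cfsg.Agent.Lib.Presented.Cert.LyCent
import Cfsg.Agent.Lib.Structure.GTwoInvolution

/-!
An involution of the presented Lyons group fixes at most 2772 cosets of G₂(5), so its centraliser has order at
most 39916800.
-/
set_option autoImplicit false
set_option maxRecDepth 100000

namespace CfsgLib.Presented.Ly

open Dce LyOrb LyCent

theorem centralizer_transfer {H U : Type*} [Group H] [Group U] {S : Subgroup U} (e : H ≃* S) (s : H) (k : S) (t : U)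
    (hk : ((k * e s * k⁻¹ : S) : U) = t) :
    Nat.card (Subgroup.centralizer ({s} : Set H)) = Nat.card ↥(S ⊓ Subgroup.centralizer ({t} : Set U)) := by
  let g : H ≃* S := e.trans (MulAut.conj k)
  have hg : ((g s : S) : U) = t := hk
  have key : ∀ h : H, h ∈ Subgroup.centralizer ({s} : Set H) ↔ ((g h : S) : U) ∈ Subgroup.centralizer ({t} : Set U) := by
    intro h
    rw [Subgroup.mem_centralizer_singleton_iff, Subgroup.mem_centralizer_singleton_iff, ← hg, ← Subgroup.coe_mul,
      ← Subgroup.coe_mul, ← map_mul, ← map_mul]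
    exact ⟨fun h' => by rw [h'], fun h' => g.injective (Subtype.ext h')⟩
  refine Nat.card_congr (Equiv.ofBijective
    (fun h => (⟨((g h.1 : S) : U), ⟨(g h.1).2, (key h.1).1 h.2⟩⟩ : ↥(S ⊓ Subgroup.centralizer ({t} : Set U)))) ⟨?_, ?_⟩)
  · intro a b hab
    exact Subtype.ext (g.injective (Subtype.ext (congrArg Subtype.val hab :)))
  · rintro ⟨u, hu, hu'⟩
    obtain ⟨h, hh⟩ := g.surjective ⟨u, hu⟩
    refine ⟨⟨h, (key h).2 (by rw [hh]; exact hu')⟩, Subtype.ext ?_⟩
    show ((g h : S) : U) = u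
    rw [hh]

theorem gtwo_centralizer {H : Type*} [Group H] {F : Type} [Field F] [Fintype F] (hF : Odd (Fintype.card F))
    (e : H ≃* Cfsg.Lie.chevG2.group F) (s : H) (hs : orderOf s = 2) :
    Nat.card (Subgroup.centralizer ({s} : Set H)) = Fintype.card F ^ 2 * (Fintype.card F ^ 2 - 1) ^ 2 := by
  obtain ⟨k, hk⟩ := CfsgLib.GTwoInv.exists_conj_t0 hF (e s) (by rw [MulEquiv.orderOf_eq, hs])
  obtain ⟨u, hu⟩ := CfsgLib.GTwoInv.exists_nonsquare hF
  rw [centralizer_transfer e s k _ hk]
  exact (CfsgLib.GTwoInv.C_eq hF hu).1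

theorem centralizer_card (s : H5) (hs : orderOf s = 2) :
    Nat.card (Subgroup.centralizer ({s} : Set H5)) = 14400 := by
  haveI : Fact (Nat.Prime 5) := ⟨by norm_num⟩
  rw [gtwo_centralizer (by rw [ZMod.card]; decide) h5Equiv s hs, ZMod.card]
  norm_num

theorem orb_fix_le (P : XLy) {τ : H5} (hτ : orderOf τ = 2) :
    {q ∈ orb P | toLy τ • q = q}.ncard * Nat.card (St P) ≤ 14400 * {s : H5 | s ∈ St P ∧ orderOf s = 2}.ncard := by
  classical
  haveI : Finite H5 := Nat.finite_of_card_ne_zero (by rw [card_H5.1]; norm_num)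
  set A := {h : H5 | h⁻¹ * τ * h ∈ St P}
  have h1 : {q ∈ orb P | toLy τ • q = q}.ncard * Nat.card (St P) ≤ A.ncard := by
    rw [← Nat.card_coe_set_eq, ← Nat.card_coe_set_eq, ← Nat.card_prod]
    have hrep : ∀ q : {q ∈ orb P | toLy τ • q = q}, ∃ h : H5, toLy h • P = q.1 := fun q => q.2.1
    choose r hr using hrep
    have hs : ∀ (q : {q ∈ orb P | toLy τ • q = q}) (s : St P), toLy (r q * s) • P = q.1 := fun q s => by
      rw [map_mul, mul_smul, mem_St.1 s.2, hr]
    refine Nat.card_le_card_of_injective (fun p => (⟨r p.1 * p.2, ?_⟩ : A)) ?_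
    · show (r p.1 * p.2)⁻¹ * τ * (r p.1 * p.2) ∈ St P
      rw [mem_St, map_mul, map_mul, mul_smul, mul_smul, hs, map_inv, inv_smul_eq_iff, hs]
      exact p.1.2.2
    · rintro ⟨q, s⟩ ⟨q', s'⟩ he
      have he' : r q * (s : H5) = r q' * (s' : H5) := congrArg Subtype.val he
      have hq : q = q' := Subtype.ext (by rw [← hs q s, he', hs])
      subst hq
      exact Prod.ext rfl (Subtype.ext (mul_left_cancel he'))
  refine h1.trans ?_
  have hI : ∀ h ∈ A, h⁻¹ * τ * h ∈ {s : H5 | s ∈ St P ∧ orderOf s = 2} := fun h hh => ⟨hh, by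
    rw [show h⁻¹ * τ * h = MulAut.conj h⁻¹ τ by simp [MulAut.conj_apply], MulEquiv.orderOf_eq, hτ]⟩
  let pick : {s : H5 | s ∈ St P ∧ orderOf s = 2} → H5 := fun s =>
    if h : ∃ k ∈ A, k⁻¹ * τ * k = s.1 then h.choose else 1
  have hpick : ∀ h (hh : h ∈ A), (pick ⟨_, hI h hh⟩)⁻¹ * τ * pick ⟨_, hI h hh⟩ = h⁻¹ * τ * h := by
    intro h hh
    have hex : ∃ k ∈ A, k⁻¹ * τ * k = h⁻¹ * τ * h := ⟨h, hh, rfl⟩
    simp only [pick, dif_pos hex]
    exact hex.choose_spec.2
  rw [← Nat.card_coe_set_eq, ← Nat.card_coe_set_eq, ← centralizer_card τ hτ, ← Nat.card_prod]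
  refine Nat.card_le_card_of_injective (fun h : A => ((⟨(h : H5) * (pick ⟨_, hI h h.2⟩)⁻¹, ?_⟩ :
    Subgroup.centralizer ({τ} : Set H5)), (⟨_, hI h h.2⟩ : {s : H5 | s ∈ St P ∧ orderOf s = 2}))) ?_
  · rw [Subgroup.mem_centralizer_singleton_iff]
    have he := hpick h h.2
    generalize pick ⟨_, hI h h.2⟩ = k at he
    calc (h : H5) * k⁻¹ * τ = (h : H5) * (k⁻¹ * τ * k) * k⁻¹ := by group
      _ = (h : H5) * ((h : H5)⁻¹ * τ * h) * k⁻¹ := by rw [he]
      _ = _ := by group
  · intro a b hab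
    simp only [Prod.mk.injEq] at hab
    obtain ⟨h1, h2⟩ := hab
    have h1' := congrArg Subtype.val h1
    simp only at h1'
    rw [h2] at h1'
    exact Subtype.ext (mul_right_cancel h1')

theorem St_eq {gens : List (List ℕ)} {P : XLy} (hP : Fix gens P) {n : ℕ} (hn : n ≤ Nat.card (wgrp gens))
    (hc : Nat.card (St P) = n) : St P = wgrp gens := by
  haveI : Finite H5 := Nat.finite_of_card_ne_zero (by rw [card_H5.1]; norm_num)
  exact (Subgroup.eq_of_le_of_card_ge (fun s hs => wgrp_fix hP s hs) (hc.le.trans hn)).symm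

theorem inv2 : {s : H5 | s ∈ St P2 ∧ orderOf s = 2}.ncard ≤ 211 := by
  have e := St_eq fix2_3 card_S2 card_St2
  rw [e]
  exact invol_le (i := 16606) (rounds := 7) (O := orb2_2) (n := 2880) (tbls := tbls2) (es := paths2)
    (by decide) (by decide +kernel) (by decide +kernel) (by decide +kernel) (by decide +kernel) (by decide +kernel)
    (e ▸ card_St2)

theorem inv3 : {s : H5 | s ∈ St P3 ∧ orderOf s = 2}.ncard ≤ 105 := by
  have e := St_eq fix3_3 card_S3 card_St3
  rw [e]
  exact invol_le (i := 9) (rounds := 7) (O := orb3_1) (n := 1008) (tbls := tbls3) (es := paths3)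
    (by decide) (by decide +kernel) (by decide +kernel) (by decide +kernel) (by decide +kernel) (by decide +kernel)
    (e ▸ card_St3)

theorem inv4 : {s : H5 | s ∈ St P4 ∧ orderOf s = 2}.ncard ≤ 63 := by
  have e := St_eq fix4_5 card_S4 card_St4
  rw [e]
  exact invol_le (i := 44) (rounds := 5) (O := orb4_2) (n := 6048) (tbls := tbls4) (es := paths4)
    (by decide) (by decide +kernel) (by decide +kernel) (by decide +kernel) (by decide +kernel) (by decide +kernel)
    (e ▸ card_St4)

/-- the involution in G₂(5) -/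
noncomputable def tau : H5 := evW ev tWord

theorem tWord_lt : ∀ y ∈ tWord, y < 10 := by decide +kernel

/-- the fixed points of a network among the first `n` -/
noncomputable def fixSetBits (m n : ℕ) (net : List Vec.Stage) : ℕ :=
  List.rec (motive := fun _ => ℕ) (Vec.ones n)
    (fun s _ ih => Vec.force ih fun acc => Vec.force (Nat.land acc (Nat.xor (Vec.applyNet net s) s)) fun d =>
      Nat.xor acc d) (Vec.slices m)

theorem fixSetBits_spec {m n : ℕ} (hn : n ≤ 2 ^ m) {net : List Vec.Stage} (hnet : Vec.netOk net = true) {i : ℕ}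
    (hi : i < n) (hfix : Vec.netPerm net i = i) : (fixSetBits m n net).testBit i = true := by
  unfold fixSetBits
  induction Vec.slices m with
  | nil => show (Vec.ones n).testBit i = true; rw [Vec.testBit_ones]; exact decide_eq_true hi
  | cons s l ih =>
    dsimp only
    rw [Vec.force_eq, Vec.force_eq]
    change (_ ^^^ (_ &&& (Vec.applyNet net s ^^^ s))).testBit i = true
    rw [Nat.testBit_xor, Nat.testBit_and, Nat.testBit_xor, ih, Vec.testBit_applyNet hnet, hfix]
    simp

theorem fix_count_ok : Nat.beq (bitCount (fixSetBits 15 19530 (LyPerm.rep.netW tWord)) 19530) 66 = true := by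
  decide +kernel

theorem fix1_le : {q ∈ orb P1 | toLy tau • q = q}.ncard ≤ 66 := by
  classical
  have hrep : ∀ q : {q ∈ orb P1 | toLy tau • q = q}, ∃ h : H5, toLy h • P1 = q.1 := fun q => q.2.1
  choose r hr using hrep
  let O := fixSetBits 15 19530 (LyPerm.rep.netW tWord)
  have hmem : ∀ q, O.testBit (phi (r q) pt0 : ℕ) = true := by
    intro q
    refine fixSetBits_spec (by norm_num) (Rep.netOk_netW rep_valid tWord) (phi (r q) pt0).2 ?_
    rw [← Rep.netW_perm rep_valid, ← phi_evW tWord_lt]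
    refine congrArg Fin.val ?_
    have hk : (r q)⁻¹ * tau * r q ∈ K := by
      rw [← fix_P1_iff, map_mul, map_mul, mul_smul, mul_smul, hr, map_inv, inv_smul_eq_iff, hr]
      exact q.2.2
    have h0 := (stab_eq _).2 hk
    rw [map_mul, map_mul, Equiv.Perm.mul_apply, Equiv.Perm.mul_apply, map_inv, Equiv.Perm.inv_eq_iff_eq] at h0
    exact h0
  let f : {q ∈ orb P1 | toLy tau • q = q} → {j : Fin LyPerm.rep.N // O.testBit j = true} := fun q => ⟨_, hmem q⟩
  have hf : Function.Injective f := by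
    intro a b hab
    have hab' : phi (r a) pt0 = phi (r b) pt0 := congrArg Subtype.val hab
    have hk : (r b)⁻¹ * r a ∈ K := by
      rw [← stab_eq, map_mul, Equiv.Perm.mul_apply, hab', ← Equiv.Perm.mul_apply, ← map_mul, inv_mul_cancel, map_one,
        Equiv.Perm.one_apply]
    have h1 := (fix_P1_iff _).2 hk
    rw [map_mul, mul_smul, hr, map_inv, inv_smul_eq_iff, hr] at h1
    exact Subtype.ext h1
  rw [← Nat.card_coe_set_eq]
  refine (Nat.card_le_card_of_injective f hf).trans (le_of_eq ?_)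
  rw [card_bits, ← Nat.eq_of_beq_eq_true fix_count_ok]
  rfl

theorem mul_le_cancel {a n c i b e' : ℕ} (h : a * n ≤ c * i) (hi : i ≤ b) (he : c * b = e') (hn : 0 < n) {x : ℕ}
    (hx : x * n = e') : a ≤ x :=
  Nat.le_of_mul_le_mul_right (h.trans ((Nat.mul_le_mul_left c hi).trans (le_of_eq (he.trans hx.symm)))) hn

theorem fixed_le (hτ : orderOf tau = 2) : {q : XLy | toLy tau • q = q}.ncard ≤ 2772 := by
  haveI := finite_XLy
  have hsub : {q : XLy | toLy tau • q = q} ⊆ {P0} ∪ {q ∈ orb P1 | toLy tau • q = q} ∪ {q ∈ orb P2 | toLy tau • q = q} ∪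
      {q ∈ orb P3 | toLy tau • q = q} ∪ {q ∈ orb P4 | toLy tau • q = q} := by
    intro q hq
    have hu : q ∈ (Set.univ : Set XLy) := trivial
    rw [univ_eq] at hu
    rcases hu with (((h | h) | h) | h) | h
    · exact Or.inl (Or.inl (Or.inl (Or.inl h)))
    · exact Or.inl (Or.inl (Or.inl (Or.inr ⟨h, hq⟩)))
    · exact Or.inl (Or.inl (Or.inr ⟨h, hq⟩))
    · exact Or.inl (Or.inr ⟨h, hq⟩)
    · exact Or.inr ⟨h, hq⟩
  refine (Set.ncard_le_ncard hsub (Set.toFinite _)).trans ?_
  refine (Set.ncard_union_le _ _).trans ?_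
  refine (Nat.add_le_add_right ((Set.ncard_union_le _ _).trans (Nat.add_le_add_right ((Set.ncard_union_le _ _).trans
    (Nat.add_le_add_right (Set.ncard_union_le _ _) _)) _)) _).trans ?_
  have b1 := fix1_le
  have b2 : {q ∈ orb P2 | toLy tau • q = q}.ncard ≤ 1055 :=
    mul_le_cancel (b := 211) (e' := 3038400) (n := 2880) (card_St2 ▸ orb_fix_le P2 hτ) inv2 (by norm_num) (by norm_num) (by norm_num)
  have b3 : {q ∈ orb P3 | toLy tau • q = q}.ncard ≤ 1500 :=
    mul_le_cancel (b := 105) (e' := 1512000) (n := 1008) (card_St3 ▸ orb_fix_le P3 hτ) inv3 (by norm_num) (by norm_num) (by norm_num)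
  have b4 : {q ∈ orb P4 | toLy tau • q = q}.ncard ≤ 150 :=
    mul_le_cancel (b := 63) (e' := 907200) (n := 6048) (card_St4 ▸ orb_fix_le P4 hτ) inv4 (by norm_num) (by norm_num) (by norm_num)
  rw [Set.ncard_singleton]
  exact (Nat.add_le_add (Nat.add_le_add (Nat.add_le_add (Nat.add_le_add le_rfl b1) b2) b3) b4).trans (by norm_num)

/-- The centraliser of the involution has order at most 39916800. -/
theorem centralizer_le (hτ : orderOf tau = 2) :
    Nat.card (Subgroup.centralizer ({toLy tau} : Set Cfsg.Spor.Ly)) ≤ 39916800 := by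
  haveI := finite_XLy
  haveI := finite_Ly
  set C := Subgroup.centralizer ({toLy tau} : Set Cfsg.Spor.Ly)
  have h1 := MulAction.index_stabilizer C P0
  have h2 := Subgroup.card_mul_index (MulAction.stabilizer C P0)
  rw [h1] at h2
  have hst : Nat.card (MulAction.stabilizer C P0) ≤ 14400 := by
    rw [← centralizer_card tau hτ]
    have hin : ∀ c : MulAction.stabilizer C P0, ∃ h : H5, h ∈ Subgroup.centralizer ({tau} : Set H5) ∧ toLy h = c.1.1 := by
      rintro ⟨⟨c, hc⟩, hfix⟩
      have hfix' : c • P0 = P0 := hfix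
      have hr : c ∈ toLy.range := by
        rw [P0, pBase, MulAction.Quotient.smul_coe, smul_eq_mul, mul_one] at hfix'
        have := QuotientGroup.eq.1 hfix'
        rw [mul_one] at this
        exact inv_mem_iff.1 this
      obtain ⟨h, rfl⟩ := hr
      refine ⟨h, ?_, rfl⟩
      rw [Subgroup.mem_centralizer_singleton_iff]
      apply toLy_injective
      rw [map_mul, map_mul]
      exact Subgroup.mem_centralizer_singleton_iff.1 hc
    choose g hg hg' using hin
    refine Nat.card_le_card_of_injective (fun c => (⟨g c, hg c⟩ : Subgroup.centralizer ({tau} : Set H5))) ?_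
    intro a b hab
    have : g a = g b := congrArg Subtype.val hab
    exact Subtype.ext (Subtype.ext (by rw [← hg', ← hg', this]))
  have horb : (MulAction.orbit C P0).ncard ≤ 2772 := by
    refine (Set.ncard_le_ncard ?_ (Set.toFinite _)).trans (fixed_le hτ)
    rintro _ ⟨c, rfl⟩
    show toLy tau • ((c : Cfsg.Spor.Ly) • P0) = (c : Cfsg.Spor.Ly) • P0
    rw [← mul_smul, ← Subgroup.mem_centralizer_singleton_iff.1 c.2, mul_smul, toLy_smul_P0]
  rw [← h2]
  exact (Nat.mul_le_mul hst horb).trans (by norm_num)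

end CfsgLib.Presented.Ly
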