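import Cfsg.Agent.Lib.Presented.Ly.CentFix
import Cfsg.Agent.Lib.Presented.Cert.LyCent
import Cfsg.Agent.S3335
import Cfsg.Prelude.Def_SporadicB
import Mathlib.GroupTheory.SpecificGroups.Alternating.Simple
import Mathlib.GroupTheory.Complement

/-!
An involution of the presented Lyons group whose centraliser is the double cover of the alternating group of
degree 11.
-/
set_option autoImplicit false
set_option maxRecDepth 100000

namespace CfsgLib.Presented.Ly

open MatFive

theorem rho_injective : Function.Injective rho := by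
  haveI := simple
  rw [← MonoidHom.ker_eq_bot_iff]
  rcases (MonoidHom.normal_ker rho).eq_bot_or_eq_top with h | h
  · exact h
  · exfalso
    have hk : rho gz = 1 := rho.mem_ker.1 (h ▸ Subgroup.mem_top gz)
    have hm := congrArg Units.val hk
    rw [show gz = evL 10 from rfl, rho_evL (by decide), Units.val_one] at hm
    have h2 := congrFun (congrFun hm ⟨7, by norm_num⟩) ⟨0, by norm_num⟩
    rw [Matrix.one_apply_ne (fun e => absurd (Fin.mk.inj_iff.1 e) (by norm_num))] at h2
    have h3 : ((digit ((LyMat.gens.getD 10 []).getD 0 0) 7 : ℕ) : ZMod 5) = 0 := h2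
    rw [show digit ((LyMat.gens.getD 10 []).getD 0 0) 7 = 1 by decide +kernel] at h3
    exact absurd h3 (by decide)

/-- the letters and ten further matrices: the involution and nine elements centralising it -/
def extGens : List (List ℕ) := LyMat.gens ++ LyCent.mats

/-- the check words: definitions and relations -/
def centWords : List (List ℕ) :=
  [[12, 12], LyCent.tWord ++ [12], LyCent.xWords.getD 0 [] ++ [13, 13], [13, 13, 13]] ++
  ((List.range 8).map fun i => LyCent.xWords.getD (i + 1) [] ++ [14 + i, 12]) ++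
  ((List.range 8).map fun i => [14 + i, 14 + i, 12]) ++
  ((List.range 8).map fun i => (List.replicate 3 [13 + i, 14 + i]).flatten ++
    if i = 2 ∨ i = 4 ∨ i = 6 then [] else [12]) ++
  ((List.range 9).flatMap fun i => (List.range (7 - i)).map fun j => [13 + i, 15 + i + j, 13 + i, 15 + i + j, 12]) ++
  [[12, 13, 12, 13, 13]]

theorem centWords_def : ∀ i < 8, LyCent.xWords.getD (i + 1) [] ++ [14 + i, 12] ∈ centWords := by decide +kernel

theorem centWords_sq : ∀ i < 8, [14 + i, 14 + i, 12] ∈ centWords := by decide +kernel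

theorem centWords_adj : ∀ i < 8, ((List.replicate 3 [13 + i, 14 + i]).flatten ++
    if i = 2 ∨ i = 4 ∨ i = 6 then [] else [12]) ∈ centWords := by decide +kernel

theorem centWords_far : ∀ j < 9, ∀ i < 9, i + 1 < j → [13 + i, 13 + j, 13 + i, 13 + j, 12] ∈ centWords := by
  decide +kernel

theorem ext_shape : shapeOK 111 extGens = true := by decide +kernel

theorem cent_ok : checkId 111 extGens centWords = true := by decide +kernel

theorem ext_old {x : ℕ} (hx : x < 12) : mat 111 extGens x = lyMat x := by
  have e : extGens.getD x [] = LyMat.gens.getD x [] :=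
    List.getD_append _ _ _ _ (gens_length.symm ▸ hx)
  funext i k
  show ((digit ((extGens.getD x []).getD k 0) i : ℕ) : ZMod 5) = _
  rw [e]
  rfl

theorem mat_apply (x : ℕ) (i k : Fin 111) :
    mat 111 extGens x i k = ((digit ((extGens.getD x []).getD k 0) i : ℕ) : ZMod 5) := rfl

attribute [local irreducible] MatFive.mat rho

theorem rel_of {w : List ℕ} (h : w ∈ centWords) : (w.map (mat 111 extGens)).prod = 1 :=
  (checkId_spec ext_shape cent_ok h).2

theorem val_word {w : List ℕ} (hw : ∀ x ∈ w, x < 12) : (rho (evW evL w)).val = (w.map (mat 111 extGens)).prod := by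
  rw [rho_evW hw]
  exact congrArg List.prod (List.map_congr_left fun x hx => (ext_old (hw x hx)).symm)

/-- the involution -/
noncomputable def tauLy : Cfsg.Spor.Ly := evW evL LyCent.tWord

/-- the nine elements -/
noncomputable def xc (i : ℕ) : Cfsg.Spor.Ly := evW evL (LyCent.xWords.getD i [])

theorem cWords_lt : (LyCent.xWords.all fun w => w.all fun x => Nat.blt x 12) = true := by decide +kernel

theorem xw_lt (i : ℕ) : ∀ x ∈ LyCent.xWords.getD i [], x < 12 := by
  rw [List.getD_eq_getElem?_getD]
  cases h : LyCent.xWords[i]? with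
  | none => simp
  | some w =>
    have h' := cWords_lt
    simp only [List.all_eq_true, Nat.blt_eq] at h'
    exact h' w (List.mem_of_getElem? h)

theorem left_eq_right {n : ℕ} {a b c : Matrix (Fin n) (Fin n) (ZMod 5)} (h1 : a * b = 1) (h2 : b * c = 1) : a = c := by
  rw [← mul_one a, ← h2, ← Matrix.mul_assoc, h1, Matrix.one_mul]

theorem left_eq_right' {n : ℕ} {a b c : Matrix (Fin n) (Fin n) (ZMod 5)} (h1 : a * b = 1) (h2 : c * b = 1) : a = c :=
  left_eq_right h1 (mul_eq_one_comm.1 h2)

theorem mul_comm_one {n : ℕ} {a b : Matrix (Fin n) (Fin n) (ZMod 5)} (h : a * b = 1) : b * a = 1 := mul_eq_one_comm.1 h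

theorem tau_val : (rho tauLy).val = mat 111 extGens 12 := by
  unfold tauLy
  have h1 := rel_of (w := LyCent.tWord ++ [12]) (by decide +kernel)
  have h2 := rel_of (w := [12, 12]) (by decide +kernel)
  rw [List.map_append, List.prod_append, List.map_singleton, List.prod_singleton,
    ← val_word (fun x hx => (tWord_lt x hx).trans (by norm_num))] at h1
  simp only [List.map_cons, List.map_nil, List.prod_cons, List.prod_nil, mul_one] at h2
  exact left_eq_right h1 h2

theorem x0_val : (rho (xc 0)).val = mat 111 extGens 13 := by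
  unfold xc
  have h1 := rel_of (w := LyCent.xWords.getD 0 [] ++ [13, 13]) (by decide +kernel)
  have h2 := rel_of (w := [13, 13, 13]) (by decide +kernel)
  rw [List.map_append, List.prod_append, ← val_word (xw_lt 0)] at h1
  simp only [List.map_cons, List.map_nil, List.prod_cons, List.prod_nil, mul_one] at h1 h2
  exact left_eq_right h1 (by rw [Matrix.mul_assoc]; exact h2)

theorem x_sq_mat {i : ℕ} (hi : i < 8) :
    mat 111 extGens (14 + i) * (mat 111 extGens (14 + i) * mat 111 extGens 12) = 1 := by
  have h2 := rel_of (w := [14 + i, 14 + i, 12]) (centWords_sq i hi)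
  simpa only [List.map_cons, List.map_nil, List.prod_cons, List.prod_nil, mul_one] using h2

theorem x_val : ∀ i < 9, (rho (xc i)).val = mat 111 extGens (13 + i) := by
  intro i hi
  rcases i with _ | i
  · exact x0_val
  rw [show 13 + (i + 1) = 14 + i by omega]
  unfold xc
  have h1 := rel_of (w := LyCent.xWords.getD (i + 1) [] ++ [14 + i, 12]) (centWords_def i (by omega))
  rw [List.map_append, List.prod_append, ← val_word (xw_lt (i + 1))] at h1
  simp only [List.map_cons, List.map_nil, List.prod_cons, List.prod_nil, mul_one] at h1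
  have h2 := x_sq_mat (i := i) (by omega)
  have h3 : (mat 111 extGens (14 + i) * mat 111 extGens 12) * (rho (evW evL (LyCent.xWords.getD (i + 1) []))).val = 1 := mul_comm_one h1
  exact (left_eq_right h2 h3).symm

theorem eq_one_of_mat {g : Cfsg.Spor.Ly} (h : (rho g).val = 1) : g = 1 :=
  rho_injective ((Units.ext (h.trans Units.val_one.symm)).trans (map_one rho).symm)

theorem tau_sq : tauLy * tauLy = 1 := by
  refine eq_one_of_mat ?_
  rw [map_mul, Units.val_mul, tau_val]
  simpa using rel_of (w := [12, 12]) (by decide +kernel)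

theorem x0_cube : xc 0 * xc 0 * xc 0 = 1 := by
  refine eq_one_of_mat ?_
  rw [map_mul, map_mul, Units.val_mul, Units.val_mul, x_val 0 (by norm_num)]
  simpa [mul_assoc] using rel_of (w := [13, 13, 13]) (by decide +kernel)

theorem tau_inv : tauLy⁻¹ = tauLy := inv_eq_of_mul_eq_one_right tau_sq

theorem x_sq {i : ℕ} (h1 : 1 ≤ i) (h9 : i < 9) : xc i * xc i = tauLy := by
  have h : xc i * xc i * tauLy = 1 := by
    refine eq_one_of_mat ?_
    obtain ⟨j, rfl⟩ : ∃ j, i = j + 1 := ⟨i - 1, by omega⟩
    rw [map_mul, map_mul, Units.val_mul, Units.val_mul, x_val _ h9, tau_val, show 13 + (j + 1) = 14 + j by omega,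
      mul_assoc]
    exact x_sq_mat (by omega)
  rw [eq_inv_of_mul_eq_one_left h, tau_inv]

/-- a power of the involution -/
def Near (g : Cfsg.Spor.Ly) : Prop := g = 1 ∨ g = tauLy

theorem adj_near {i : ℕ} (hi : i + 1 < 9) : Near ((xc i * xc (i + 1)) ^ 3) := by
  have h := rel_of (w := (List.replicate 3 [13 + i, 14 + i]).flatten ++ if i = 2 ∨ i = 4 ∨ i = 6 then [] else [12]) (centWords_adj i (by omega))
  have hv : (rho ((xc i * xc (i + 1)) ^ 3)).val = ((List.replicate 3 [13 + i, 14 + i]).flatten.map (mat 111 extGens)).prod := by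
    rw [map_pow, map_mul, Units.val_pow_eq_pow_val, Units.val_mul, x_val i (by omega), x_val (i + 1) hi,
      show 13 + (i + 1) = 14 + i by omega]
    simp [List.replicate_succ, pow_succ, mul_assoc]
  rw [List.map_append, List.prod_append, ← hv] at h
  by_cases he : i = 2 ∨ i = 4 ∨ i = 6
  · rw [if_pos he] at h
    left
    exact eq_one_of_mat (by simpa using h)
  · rw [if_neg he] at h
    right
    have h' : (xc i * xc (i + 1)) ^ 3 * tauLy = 1 := by
      refine eq_one_of_mat ?_
      rw [map_mul, Units.val_mul, tau_val]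
      simpa using h
    rw [eq_inv_of_mul_eq_one_left h', tau_inv]

theorem far_tau {i j : ℕ} (hij : i + 1 < j) (hj : j < 9) : (xc i * xc j) ^ 2 = tauLy := by
  have h := rel_of (w := [13 + i, 13 + j, 13 + i, 13 + j, 12]) (centWords_far j hj i (by omega) hij)
  have h' : (xc i * xc j) ^ 2 * tauLy = 1 := by
    refine eq_one_of_mat ?_
    rw [map_mul, map_pow, map_mul, Units.val_mul, Units.val_pow_eq_pow_val, Units.val_mul, x_val i (by omega),
      x_val j hj, tau_val, pow_two]
    simpa [mul_assoc] using h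
  rw [eq_inv_of_mul_eq_one_left h', tau_inv]

theorem tau_comm : ∀ i < 9, xc i * tauLy = tauLy * xc i := by
  intro i hi
  rcases i with _ | i
  · have h : tauLy * xc 0 * tauLy * (xc 0 * xc 0) = 1 := by
      refine eq_one_of_mat ?_
      simp only [map_mul, Units.val_mul]
      rw [x_val 0 (by norm_num), tau_val]
      simpa [mul_assoc] using rel_of (w := [12, 13, 12, 13, 13]) (by decide +kernel)
    have e : xc 0 * xc 0 = (xc 0)⁻¹ := eq_inv_of_mul_eq_one_left x0_cube
    rw [e, mul_inv_eq_one] at h
    calc xc 0 * tauLy = tauLy * xc 0 * tauLy * tauLy := by rw [h]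
      _ = tauLy * xc 0 := by rw [mul_assoc, tau_sq, mul_one]
  · rw [← x_sq (i := i + 1) (by omega) hi, ← mul_assoc]

theorem tau_ne : tauLy ≠ 1 := by
  intro h
  have h1 : (rho tauLy).val = 1 := by rw [h, map_one, Units.val_one]
  rw [tau_val] at h1
  have hd : ∃ i : Fin 111, digit ((extGens.getD 12 []).getD i 0) i % 5 ≠ 1 := by decide +kernel
  obtain ⟨i, hi⟩ := hd
  have h2 := congrFun (congrFun h1 i) i
  rw [Matrix.one_apply_eq, mat_apply] at h2
  have h3 : ((digit ((extGens.getD 12 []).getD i 0) i : ℕ) : ZMod 5) = ((1 : ℕ) : ZMod 5) := by rw [Nat.cast_one]; exact h2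
  exact hi ((ZMod.natCast_eq_natCast_iff' _ _ 5).1 h3)

theorem tau_eq : tauLy = toLy tau := evL_lt tWord_lt

theorem orderOf_tau : orderOf tau = 2 := by
  rw [← orderOf_injective toLy toLy_injective, ← tau_eq]
  exact orderOf_eq_prime (by rw [pow_two]; exact tau_sq) tau_ne

/-- the centraliser -/
noncomputable def C11 : Subgroup Cfsg.Spor.Ly := Subgroup.centralizer ({tauLy} : Set Cfsg.Spor.Ly)

/-- the involution in its centraliser -/
noncomputable def tauC : C11 := ⟨tauLy, Subgroup.mem_centralizer_singleton_iff.2 rfl⟩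

/-- the subgroup of order two -/
noncomputable def ZC : Subgroup C11 := Subgroup.zpowers tauC

theorem tauC_central : tauC ∈ Subgroup.center C11 :=
  Subgroup.mem_center_iff.2 fun g => Subtype.ext (Subgroup.mem_centralizer_singleton_iff.1 g.2)

instance ZC_normal : ZC.Normal := by
  have hle : ZC ≤ Subgroup.center C11 := Subgroup.zpowers_le.2 tauC_central
  exact ⟨fun n hn g => by rwa [Subgroup.mem_center_iff.1 (hle hn) g, mul_inv_cancel_right]⟩

theorem card_ZC : Nat.card ZC = 2 := by
  rw [ZC, Nat.card_zpowers]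
  exact orderOf_eq_prime (Subtype.ext (by rw [pow_two]; exact tau_sq)) fun h => tau_ne (congrArg Subtype.val h)

theorem near_mem {g : C11} (h : Near (g : Cfsg.Spor.Ly)) : g ∈ ZC := by
  rcases h with h | h
  · rw [show g = 1 from Subtype.ext h]; exact ZC.one_mem
  · rw [show g = tauC from Subtype.ext h]; exact Subgroup.mem_zpowers _

/-- the nine elements in the centraliser -/
noncomputable def xC (i : Fin 9) : C11 := ⟨xc i, Subgroup.mem_centralizer_singleton_iff.2 (tau_comm i i.2)⟩

theorem exists_hom : ∃ f : alternatingGroup (Fin 11) →* C11 ⧸ ZC, ∀ i : Fin 9, (xC i : C11 ⧸ ZC) ∈ f.range := by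
  obtain ⟨e⟩ := Cfsg.Agent.S3335.result 11 (by norm_num)
  let img : Fin (11 - 2) → C11 ⧸ ZC := fun i => (xC i : C11 ⧸ ZC)
  have hk : ∀ r ∈ (({g : FreeGroup (Fin (11 - 2)) | ∃ i : Fin (11 - 2), i.val = 0 ∧ g = FreeGroup.of i ^ 3} ∪
       {g | ∃ i : Fin (11 - 2), 1 ≤ i.val ∧ g = FreeGroup.of i ^ 2} ∪
       {g | ∃ i j : Fin (11 - 2), j.val = i.val + 1 ∧ g = (FreeGroup.of i * FreeGroup.of j) ^ 3} ∪
       {g | ∃ i j : Fin (11 - 2), i.val + 1 < j.val ∧ g = (FreeGroup.of i * FreeGroup.of j) ^ 2})),
      FreeGroup.lift img r = 1 := by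
    rintro r (((⟨i, hi, rfl⟩ | ⟨i, hi, rfl⟩) | ⟨i, j, hij, rfl⟩) | ⟨i, j, hij, rfl⟩) <;>
      simp only [map_pow, map_mul, FreeGroup.lift_apply_of, img] <;>
      simp only [← QuotientGroup.mk_mul, ← QuotientGroup.mk_pow] <;> refine (QuotientGroup.eq_one_iff _).2 (near_mem ?_)
    · left
      show (xc i) ^ 3 = 1
      rw [hi, pow_succ, pow_two, x0_cube]
    · right
      show (xc i) ^ 2 = tauLy
      rw [pow_two]
      exact x_sq hi i.2
    · show Near ((xc i * xc j) ^ 3)
      rw [hij]
      exact adj_near (hij ▸ j.2)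
    · right
      exact far_tau hij j.2
  refine ⟨(PresentedGroup.toGroup hk).comp e.symm.toMonoidHom, fun i => ⟨e (PresentedGroup.of i), ?_⟩⟩
  show PresentedGroup.toGroup hk (e.symm (e (PresentedGroup.of i))) = _
  rw [e.symm_apply_apply, PresentedGroup.toGroup.of]

theorem card_alt : Nat.card (alternatingGroup (Fin 11)) = 19958400 := by
  rw [nat_card_alternatingGroup, Nat.card_fin]
  decide +kernel

theorem exists_equiv : Nonempty (alternatingGroup (Fin 11) ≃* C11 ⧸ ZC) := by
  haveI := finite_Ly
  haveI : IsSimpleGroup (alternatingGroup (Fin 11)) := alternatingGroup.isSimpleGroup (by simp)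
  obtain ⟨f, hf⟩ := exists_hom
  have hinj : Function.Injective f := by
    rw [← MonoidHom.ker_eq_bot_iff]
    rcases (MonoidHom.normal_ker f).eq_bot_or_eq_top with h | h
    · exact h
    · exfalso
      obtain ⟨a, ha⟩ := hf 1
      rw [f.mem_ker.1 (h ▸ Subgroup.mem_top a)] at ha
      have hm := (QuotientGroup.eq_one_iff _).1 ha.symm
      obtain ⟨k, hk⟩ := Subgroup.mem_zpowers_iff.1 hm
      have h2 : (xC 1) ^ 2 = 1 := by
        rw [← hk, ← zpow_natCast, ← zpow_mul, mul_comm, zpow_mul, zpow_natCast,
          show tauC ^ 2 = 1 from Subtype.ext (by rw [pow_two]; exact tau_sq), one_zpow]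
      have h3 : xc 1 * xc 1 = 1 := by rw [← pow_two]; exact congrArg Subtype.val h2
      rw [x_sq le_rfl (by norm_num)] at h3
      exact tau_ne h3
  have hle : Nat.card (C11 ⧸ ZC) ≤ 19958400 := by
    have h := Subgroup.card_mul_index ZC
    have hc : Nat.card C11 ≤ 39916800 := by
      rw [C11, tau_eq]
      exact centralizer_le orderOf_tau
    rw [card_ZC] at h
    change 2 * Nat.card (C11 ⧸ ZC) = _ at h
    omega
  exact ⟨MulEquiv.ofBijective f ((Nat.bijective_iff_injective_and_card f).2
    ⟨hinj, le_antisymm (Nat.card_le_card_of_injective f hinj) (hle.trans card_alt.ge)⟩)⟩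

theorem center_C11 : Subgroup.center C11 = ZC := by
  obtain ⟨e⟩ := exists_equiv
  refine le_antisymm (fun z hz => ?_) (Subgroup.zpowers_le.2 tauC_central)
  have hq : e.symm (z : C11 ⧸ ZC) ∈ Subgroup.center (alternatingGroup (Fin 11)) := by
    rw [Subgroup.mem_center_iff]
    intro a
    apply e.injective
    rw [map_mul, map_mul, e.apply_symm_apply]
    obtain ⟨c, hc⟩ := QuotientGroup.mk_surjective (e a)
    rw [← hc, ← QuotientGroup.mk_mul, ← QuotientGroup.mk_mul, Subgroup.mem_center_iff.1 hz c]
  rw [alternatingGroup.center_eq_bot (by simp), Subgroup.mem_bot] at hq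
  rw [← QuotientGroup.eq_one_iff]
  exact e.symm.injective (hq.trans (map_one e.symm).symm)

/-- The centraliser is a non-split double cover of the alternating group of degree 11. -/
theorem double_cover : Cfsg.IsNonsplitDoubleCover C11 (alternatingGroup (Fin 11)) := by
  obtain ⟨e⟩ := exists_equiv
  refine ⟨by rw [center_C11, card_ZC], ⟨(QuotientGroup.quotientMulEquivOfEq center_C11).trans e.symm⟩, fun L hL => ?_⟩
  obtain ⟨⟨⟨c, hc⟩, ⟨l, hl⟩⟩, hp, -⟩ := Subgroup.isComplement_iff_existsUnique.1 hL (xC 1)
  simp only at hp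
  have h2 : c * c = 1 := by
    rw [center_C11] at hc
    obtain ⟨k, rfl⟩ := Subgroup.mem_zpowers_iff.1 hc
    rw [← zpow_add, ← two_mul, zpow_mul, show tauC ^ (2 : ℤ) = 1 from Subtype.ext (by rw [zpow_two]; exact tau_sq), one_zpow]
  have hll : l * l = xC 1 * xC 1 := by
    have hcom : ∀ g, g * c = c * g := Subgroup.mem_center_iff.1 hc
    rw [← hp, show c * l * (c * l) = c * (l * c) * l by group, hcom l, show c * (c * l) * l = c * c * (l * l) by group, h2, one_mul]
  have ht : tauC ∈ L := by
    have : xC 1 * xC 1 = tauC := Subtype.ext (x_sq le_rfl (by norm_num : (1 : ℕ) < 9))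
    rw [← this, ← hll]
    exact L.mul_mem hl hl
  have hdisj := hL.disjoint
  have : tauC ∈ (⊥ : Subgroup C11) := hdisj.le_bot ⟨tauC_central, ht⟩
  exact tau_ne (congrArg Subtype.val (Subgroup.mem_bot.1 this))

end CfsgLib.Presented.Ly
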