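import Cfsg.Agent.Lib.Presented.Ly.DceCert
import Cfsg.Agent.Lib.Presented.Cert.LyOrb

/-!
From a closed double coset enumeration to an index bound.
-/
set_option autoImplicit false
set_option maxRecDepth 100000

namespace CfsgLib.Presented.Ly

open Dce (P0 P1 P2 P3 P4)

/-- the union of the five double cosets -/
def InO (p : XLy) : Prop :=
  ∃ h : H5, p = toLy h • P0 ∨ p = toLy h • P1 ∨ p = toLy h • P2 ∨ p = toLy h • P3 ∨ p = toLy h • P4

theorem InO.smul {p : XLy} (hp : InO p) (g : H5) : InO (toLy g • p) := by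
  obtain ⟨h, hh⟩ := hp
  refine ⟨g * h, ?_⟩
  rw [map_mul, mul_smul, mul_smul, mul_smul, mul_smul, mul_smul]
  rcases hh with rfl | rfl | rfl | rfl | rfl <;> tauto

/-- the subgroup of the words -/
noncomputable def wgrp (gens : List (List ℕ)) : Subgroup H5 :=
  Subgroup.closure ((fun w => evW ev w) '' {w | w ∈ gens})

theorem wgrp_fix {gens : List (List ℕ)} {P : XLy} (hP : Fix gens P) : ∀ s ∈ wgrp gens, toLy s • P = P := by
  intro s hs
  have hle : wgrp gens ≤ (MulAction.stabilizer Cfsg.Spor.Ly P).comap toLy := by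
    rw [wgrp, Subgroup.closure_le]
    rintro _ ⟨w, hw, rfl⟩
    exact hP w hw
  exact hle hs

theorem K_move : ∀ k ∈ K, ∃ k' : H5, gz * toLy k = toLy k' * gz := by
  intro k hk
  induction hk using Subgroup.closure_induction with
  | mem y hy =>
    obtain ⟨w, hw, rfl⟩ := hy
    obtain ⟨i, hi, rfl⟩ := List.mem_iff_getElem.1 hw
    refine ⟨evW ev (thWord [i]), ?_⟩
    have := z_conj (k := i) (by simpa [LyK.xWords] using hi)
    rwa [List.getD_eq_getElem _ _ hi] at this
  | one => exact ⟨1, by simp⟩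
  | mul a b _ _ ha hb =>
    obtain ⟨a', ea⟩ := ha
    obtain ⟨b', eb⟩ := hb
    exact ⟨a' * b', by rw [map_mul, map_mul, ← mul_assoc, ea, mul_assoc, eb, mul_assoc]⟩
  | inv a _ ha =>
    obtain ⟨a', ea⟩ := ha
    refine ⟨a'⁻¹, ?_⟩
    rw [map_inv, map_inv, eq_inv_mul_iff_mul_eq, ← mul_assoc, ← ea]
    group

/-- the covering check -/
noncomputable def coverOK (gens : List (List ℕ)) (rows : List (List ℕ × ℕ × ℕ × ℕ)) : Bool :=
  rows.all (fun r => r.1.all (fun x => Nat.blt x 10) &&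
      Nat.blt r.2.1 19530 && orbitOK LyPerm.rep gens r.2.1 r.2.2.1 r.2.2.2 &&
      (Vec.applyNet (LyPerm.rep.netW r.1) 1).testBit r.2.1) &&
    Nat.beq (rows.foldl (fun a r => Nat.lor a r.2.2.2) 0) (Vec.ones 19530)

theorem mem_foldl {α : Type} (f : α → ℕ) : ∀ (l : List α) (a j : ℕ),
    (l.foldl (fun a x => Nat.lor a (f x)) a).testBit j = true → a.testBit j = true ∨ ∃ x ∈ l, (f x).testBit j = true
  | [], a, j, h => Or.inl h
  | y :: l, a, j, h => by
    rcases mem_foldl f l _ j h with h | ⟨x, hx, h⟩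
    · change Nat.testBit (a ||| f y) j = true at h
      rw [Nat.testBit_or, Bool.or_eq_true] at h
      exact h.imp id fun h => ⟨y, List.mem_cons_self, h⟩
    · exact Or.inr ⟨x, List.mem_cons_of_mem _ hx, h⟩

/-- A covered double coset is moved into the union by the fifth generator. -/
theorem cover_of {gens : List (List ℕ)} {rows : List (List ℕ × ℕ × ℕ × ℕ)} {P : XLy}
    (hok : coverOK gens rows = true) (hfix : Fix gens P)
    (hrow : ∀ r ∈ rows, InO (gz • T r.1 • P)) (h : H5) : InO (gz • toLy h • P) := by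
  simp only [coverOK, Bool.and_eq_true, List.all_eq_true, Nat.blt_eq] at hok
  obtain ⟨hall, hfold⟩ := hok
  let i := phi h⁻¹ pt0
  have hi : (rows.foldl (fun a r => Nat.lor a r.2.2.2) 0).testBit (i : ℕ) = true := by
    rw [Nat.eq_of_beq_eq_true hfold, Vec.testBit_ones]
    exact decide_eq_true i.2
  rcases mem_foldl (fun r => r.2.2.2) rows 0 i hi with h0 | ⟨r, hr, hbit⟩
  · simp at h0
  obtain ⟨⟨⟨hlt, hp⟩, horb⟩, hv⟩ := hall r hr
  obtain ⟨s, hs, hsi⟩ := (orbit_eq_of_ok rep_valid horb phi (fun x hx => phi_ev x hx) rfl hp i).2 hbit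
  have hv0 : phi (evW ev r.1) ⟨r.2.1, hp⟩ = pt0 := by
    rw [phi_evW hlt]
    apply Fin.ext
    rw [Rep.netW_perm rep_valid]
    rw [Vec.testBit_applyNet (Rep.netOk_netW rep_valid r.1)] at hv
    exact VCert.one_bit hv
  have hk : evW ev r.1 * s⁻¹ * h⁻¹ ∈ K := by
    rw [← stab_eq]
    rw [map_mul, map_mul, Equiv.Perm.mul_apply, Equiv.Perm.mul_apply]
    have e : phi s⁻¹ i = ⟨r.2.1, hp⟩ := by
      rw [← hsi, ← Equiv.Perm.mul_apply, ← map_mul, inv_mul_cancel, map_one, Equiv.Perm.one_apply]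
    rw [show phi h⁻¹ pt0 = i from rfl, e, hv0]
  obtain ⟨k', hk'⟩ := K_move _ (K.inv_mem hk)
  have e : h = (evW ev r.1 * s⁻¹ * h⁻¹)⁻¹ * evW ev r.1 * s⁻¹ := by group
  rw [e, map_mul, map_mul, mul_smul, mul_smul, wgrp_fix hfix _ ((wgrp gens).inv_mem hs), smul_smul, hk', mul_smul]
  exact (hrow r hr).smul k'

/-- the lower bound of an order read from one orbit -/
theorem card_ge_of_orbit {gens : List (List ℕ)} {i rounds O n : ℕ} (hi : i < 19530)
    (hok : orbitOK LyPerm.rep gens i rounds O = true) (hn : Nat.beq (bitCount O 19530) n = true) :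
    n ≤ Nat.card (wgrp gens) := by
  classical
  have hmem := orbit_eq_of_ok rep_valid hok phi (fun x hx => phi_ev x hx) (H := wgrp gens) rfl hi
  let S : Finset ℕ := (Finset.range 19530).filter fun j => O.testBit j = true
  have hS : ∀ j : S, ∃ h : wgrp gens, phi (h : H5) ⟨i, hi⟩ = ⟨j.1, (Finset.mem_filter.1 j.2).1 |> Finset.mem_range.1⟩ := by
    intro j
    obtain ⟨h, hh, he⟩ := (hmem ⟨j.1, Finset.mem_range.1 (Finset.mem_filter.1 j.2).1⟩).2 (Finset.mem_filter.1 j.2).2
    exact ⟨⟨h, hh⟩, he⟩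
  choose f hf using hS
  have hinj : Function.Injective f := fun a b e => by
    have := hf a
    rw [e, hf b] at this
    exact Subtype.ext (Fin.mk.inj_iff.1 this).symm
  have := Nat.card_le_card_of_injective f hinj
  rw [Nat.card_eq_fintype_card, Fintype.card_coe] at this
  rwa [← Nat.eq_of_beq_eq_true hn, bitCount_eq]

theorem orbit_card_le {gens : List (List ℕ)} {P : XLy} (hP : Fix gens P) {n m : ℕ}
    (hn : n ≤ Nat.card (wgrp gens)) (hnm : n * m = 5859000000) :
    (Set.range fun h : H5 => toLy h • P).Finite ∧ (Set.range fun h : H5 => toLy h • P).ncard ≤ m := by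
  refine ⟨Set.finite_range _, ?_⟩
  let f : H5 ⧸ wgrp gens → XLy := fun q => Quotient.liftOn' q (fun h => toLy h • P) fun a b h => by
    have := wgrp_fix hP _ (QuotientGroup.leftRel_apply.1 h)
    rw [map_mul, map_inv, mul_smul, inv_smul_eq_iff] at this
    exact this.symm
  have hsub : (Set.range fun h : H5 => toLy h • P) ⊆ f '' Set.univ := by
    rintro _ ⟨h, rfl⟩
    exact ⟨(h : H5 ⧸ wgrp gens), trivial, rfl⟩
  refine (Set.ncard_le_ncard hsub (Set.toFinite _)).trans ((Set.ncard_image_le (Set.toFinite _)).trans ?_)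
  rw [Set.ncard_univ]
  have h1 := Subgroup.card_mul_index (wgrp gens)
  rw [card_H5.1, ← hnm] at h1
  have hpos : 0 < n := Nat.pos_of_ne_zero fun hz => by simp [hz] at hnm
  show (wgrp gens).index ≤ m
  refine Nat.le_of_mul_le_mul_left ?_ hpos
  rw [← h1]
  exact Nat.mul_le_mul_right _ hn

end CfsgLib.Presented.Ly
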