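import Cfsg.Agent.Lib.Presented.Ly.ToLy
import Mathlib.GroupTheory.GroupAction.Quotient

/-!
Double cosets of G₂(5) in the presented Lyons group: the bookkeeping of a double coset enumeration.
-/
set_option autoImplicit false
set_option maxRecDepth 100000

namespace CfsgLib.Presented.Ly

/-- the cosets of the image of G₂(5) -/
abbrev XLy : Type := Cfsg.Spor.Ly ⧸ toLy.range

/-- a word as an element of the Lyons group -/
noncomputable def T (w : List ℕ) : Cfsg.Spor.Ly := toLy (evW ev w)

theorem T_append (u v : List ℕ) : T (u ++ v) = T u * T v := by rw [T, T, T, evW_append, map_mul]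

theorem T_nil : T [] = 1 := by simp [T]

theorem T_congr {u v : List ℕ} (h : sameWord u v = true) : T u = T v := by rw [T, T, sameWord_sound h]

theorem sameWord_lt {u v : List ℕ} (h : sameWord u v = true) : (∀ x ∈ u, x < 10) ∧ ∀ x ∈ v, x < 10 := by
  simp only [sameWord, Bool.and_eq_true, List.all_eq_true, Nat.blt_eq] at h
  exact ⟨h.1.1, h.1.2⟩

/-- the base coset -/
noncomputable def pBase : XLy := ((1 : Cfsg.Spor.Ly) : XLy)

theorem T_base (w : List ℕ) : T w • pBase = pBase := by
  rw [pBase, MulAction.Quotient.smul_coe, smul_eq_mul, mul_one]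
  exact QuotientGroup.eq.2 (by rw [mul_one]; exact toLy.range.inv_mem ⟨_, rfl⟩)

theorem zero_step (h : List ℕ) : gz • T h • pBase = T [] • gz • pBase := by
  rw [T_base, T_nil, one_smul]

theorem sq_smul (p : XLy) : gz • gz • p = T [0, 0] • p := by rw [smul_smul, gz_sq]; rfl

theorem z_T00 (p : XLy) : gz • T [0, 0] • p = T [0, 0] • gz • p := by rw [← sq_smul, ← sq_smul]

/-- an edge read backwards -/
theorem edge_symm {h h' : List ℕ} {P Q : XLy} (e : gz • T h • P = T h' • Q) {g : List ℕ}
    (hg : sameWord g ([0, 0] ++ h) = true) : gz • T h' • Q = T g • P := by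
  rw [← e, sq_smul, smul_smul, ← T_append, T_congr hg]

/-- the fixing words of a subgroup -/
def Fix (gens : List (List ℕ)) (P : XLy) : Prop := ∀ w ∈ gens, T w • P = P

theorem T_inv {w : List ℕ} (hw : ∀ x ∈ w, x < 10) : T (invWord LyH.alphabet w) = (T w)⁻¹ := by
  rw [T, T, evW_invWord ev_good (fun x hx => (hw x hx).le), map_inv]

/-- the word of a signed product of generators -/
noncomputable def sWord (gens : List (List ℕ)) : List (ℕ × Bool) → List ℕ
  | [] => []
  | (i, b) :: l => cond b (gens.getD i []) (invWord LyH.alphabet (gens.getD i [])) ++ sWord gens l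

theorem fix_sWord {gens : List (List ℕ)} (hlt : ∀ w ∈ gens, ∀ x ∈ w, x < 10) {P : XLy} (hP : Fix gens P) :
    ∀ l : List (ℕ × Bool), T (sWord gens l) • P = P
  | [] => by rw [sWord, T_nil, one_smul]
  | (i, b) :: l => by
    rw [sWord, T_append, mul_smul, fix_sWord hlt hP l, List.getD_eq_getElem?_getD]
    cases h : gens[i]? with
    | none => cases b <;> simp [invWord, T_nil]
    | some w =>
      have hm := List.mem_of_getElem? h
      cases b
      · simp only [Option.getD_some, cond_false]
        rw [T_inv (hlt w hm), inv_smul_eq_iff, hP w hm]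
      · simpa using hP w hm

theorem fix_xWord {gens : List (List ℕ)} (hg : gens = LyK.xWords) : Fix gens (gz • pBase) := by
  subst hg
  intro w hw
  obtain ⟨k, hk, rfl⟩ := List.mem_iff_getElem.1 hw
  have hk8 : k < 8 := by simpa [LyK.xWords] using hk
  have e := z_conj hk8
  rw [List.getD_eq_getElem _ _ hk] at e
  generalize LyK.xWords[k] = v at e ⊢
  have h2 : gz • T v • gz • pBase = gz • gz • pBase := by
    rw [smul_smul gz (T v), T, e, mul_smul]
    show T (thWord [k]) • gz • gz • pBase = _
    rw [sq_smul, T_base, T_base]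
  exact smul_left_cancel gz h2

/-- moving an element of K across the fifth generator -/
theorem z_T_xWord {kw : List ℕ} (hk : ∀ i ∈ kw, i < 8) (p : XLy) :
    gz • T (xWord kw) • p = T (thWord kw) • gz • p := by
  rw [smul_smul, smul_smul, T, T, z_conj_word hk]

/-- an instance of an edge -/
theorem step {gens : List (List ℕ)} {P Q : XLy} (hP : Fix gens P) {hv h2 : List ℕ}
    (e : gz • T hv • P = T h2 • Q) {h g kw : List ℕ} {sl : List (ℕ × Bool)}
    (hgens : gens.all (fun w => w.all fun x => Nat.blt x 10) = true)
    (hkw : kw.all (fun i => Nat.blt i 8) = true)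
    (hh : sameWord h (xWord kw ++ hv ++ sWord gens sl) = true)
    (hg : sameWord g (thWord kw ++ h2) = true) :
    gz • T h • P = T g • Q := by
  simp only [List.all_eq_true, Nat.blt_eq] at hgens hkw
  rw [T_congr hh, T_congr hg, T_append, T_append, T_append, mul_smul, mul_smul, fix_sWord hgens hP,
    z_T_xWord hkw, e, mul_smul]

/-- one step of a forward scan -/
theorem fwd {P Q : XLy} {hm g M f : List ℕ} (e : gz • T hm • P = T g • Q)
    (hs : sameWord hm (M ++ f) = true) : gz • T M • T f • P = T g • Q := by
  rw [← e, smul_smul (T M), ← T_append, T_congr hs]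

/-- one step of a backward scan -/
theorem bwd {P Q : XLy} {b g M b' : List ℕ} (e : gz • T b • P = T g • Q)
    (hs : sameWord g ([0, 0] ++ M ++ b') = true) : gz • T M • T b' • Q = T b • P := by
  have h1 : gz • T g • Q = T [0, 0] • T b • P := by rw [← e, sq_smul]
  rw [T_congr hs, T_append, T_append, mul_smul, mul_smul, z_T00] at h1
  exact smul_left_cancel _ h1

/-- one round of a relator -/
noncomputable def mv (M : List ℕ) (p : XLy) : XLy := gz • T M • p

theorem mv_inj (M : List ℕ) {p q : XLy} (h : mv M p = mv M q) : p = q :=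
  smul_left_cancel _ (smul_left_cancel _ h)

/-- the value of a list of rounds -/
noncomputable def seqVal (l : List (List ℕ)) : Cfsg.Spor.Ly := (l.map fun M => gz * T M).prod

/-- the rounds written out -/
def seqWord (l : List (List ℕ)) : List ℕ := l.flatMap fun M => 10 :: M

theorem seqVal_eq : ∀ {l : List (List ℕ)}, (∀ M ∈ l, ∀ x ∈ M, x < 10) → evW evL (seqWord l) = seqVal l
  | [], _ => rfl
  | M :: l, h => by
    rw [seqWord, List.flatMap_cons, evW_append, evW_cons, evL_lt (h M List.mem_cons_self),
      show List.flatMap (fun M => 10 :: M) l = seqWord l from rfl,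
      seqVal_eq (fun N hN => h N (List.mem_cons_of_mem _ hN)), seqVal, seqVal, List.map_cons, List.prod_cons]
    simp [evL, T]

/-- replacing the inverse of the fifth generator -/
def noInv (w : List ℕ) : List ℕ := w.flatMap fun x => if x = 11 then [1, 1, 10] else [x]

theorem evW_noInv : ∀ w : List ℕ, evW evL (noInv w) = evW evL w
  | [] => rfl
  | x :: w => by
    rw [noInv, List.flatMap_cons, evW_append, show List.flatMap _ w = noInv w from rfl, evW_noInv w, evW_cons]
    congr 1
    by_cases hx : x = 11
    · subst hx
      have h2 : T [1, 1] * T [0, 0] = 1 := by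
        rw [← T_append, T_congr (show sameWord ([1, 1] ++ [0, 0]) [] = true by decide +kernel), T_nil]
      have e : evW evL [1, 1, 10] = T [1, 1] * gz := by simp [evW, evL, T, mul_assoc]
      rw [if_pos rfl, e, show evL 11 = gz⁻¹ by simp [evL], eq_inv_iff_mul_eq_one, mul_assoc,
        show gz * gz = T [0, 0] from gz_sq, h2]
    · rw [if_neg hx]
      simp

/-- the rounds of a relator give the identity -/
theorem seq_one {i k : ℕ} {l : List (List ℕ)}
    (h : ((relWord i).all (fun x => Nat.blt x 12) && l.all (fun M => M.all fun x => Nat.blt x 10) &&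
      decide ((noInv (relWord i)).drop k ++ (noInv (relWord i)).take k = seqWord l)) = true) :
    seqVal l = 1 := by
  simp only [Bool.and_eq_true, decide_eq_true_eq] at h
  obtain ⟨⟨h1, h2⟩, h3⟩ := h
  simp only [List.all_eq_true, Nat.blt_eq] at h2
  rw [← seqVal_eq h2, ← h3]
  apply evW_rotate_eq_one
  rw [List.take_append_drop, evW_noInv, relWord_one i h1]

theorem seq_rot {l : List (List ℕ)} (h : seqVal l = 1) (r : ℕ) : seqVal (l.drop r ++ l.take r) = 1 := by
  have e : l.take r ++ l.drop r = l := List.take_append_drop r l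
  rw [← e, seqVal, List.map_append, List.prod_append] at h
  rw [seqVal, List.map_append, List.prod_append]
  exact mul_eq_one_comm.1 h

theorem seq3 {A B C : List ℕ} (h : seqVal [A, B, C] = 1) (p : XLy) : mv A (mv B (mv C p)) = p := by
  simp only [seqVal, List.map_cons, List.map_nil, List.prod_cons, List.prod_nil, mul_one] at h
  simp only [mv, smul_smul]
  rw [← mul_assoc, ← mul_assoc] at h
  simpa [mul_assoc] using congrArg (fun g => g • p) h

theorem seq4 {A B C D : List ℕ} (h : seqVal [A, B, C, D] = 1) (p : XLy) : mv A (mv B (mv C (mv D p))) = p := by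
  simp only [seqVal, List.map_cons, List.map_nil, List.prod_cons, List.prod_nil, mul_one] at h
  simp only [mv, smul_smul]
  simpa [mul_assoc] using congrArg (fun g => g • p) h

/-- transport of a fixing word along an edge -/
theorem transport {gens : List (List ℕ)} {P Q : XLy} (hP : Fix gens P) {hv h2 : List ℕ}
    (e : gz • T hv • P = T h2 • Q) {s kw : List ℕ} {sl : List (ℕ × Bool)}
    (hgens : gens.all (fun w => w.all fun x => Nat.blt x 10) = true)
    (hkw : kw.all (fun i => Nat.blt i 8) = true)
    (h1 : sameWord (hv ++ sWord gens sl) (xWord kw ++ hv) = true)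
    (h3 : sameWord (h2 ++ s) (thWord kw ++ h2) = true) : T s • Q = Q := by
  simp only [List.all_eq_true, Nat.blt_eq] at hgens hkw
  have a : gz • T (hv ++ sWord gens sl) • P = T h2 • Q := by
    rw [T_append, mul_smul, fix_sWord hgens hP, e]
  rw [T_congr h1, T_append, mul_smul, z_T_xWord hkw, e, ← mul_smul, ← T_append, ← T_congr h3, T_append, mul_smul] at a
  exact smul_left_cancel _ a

/-- two names of one point -/
theorem fix_of_eq {P : XLy} {u v s : List ℕ} (e : T u • P = T v • P) (h : sameWord (u ++ s) v = true) :
    T s • P = P := by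
  rw [← T_congr h, T_append, mul_smul] at e
  exact smul_left_cancel _ e.symm

end CfsgLib.Presented.Ly
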