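import Cfsg.Agent.Lib.Presented.Ly.DceBase

/-! Generated: the facts of the double coset enumeration. -/
set_option autoImplicit false
set_option maxRecDepth 100000

namespace CfsgLib.Presented.Ly.Dce

/-- base point -/
noncomputable def P0 : XLy := pBase
/-- point -/
noncomputable def P1 : XLy := gz • pBase
/-- point -/
noncomputable def P2 : XLy := gz • T [8, 5, 1, 8, 5, 5, 2, 4, 4, 3] • P1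
/-- point -/
noncomputable def P3 : XLy := gz • T [4, 8, 3, 0, 3, 0, 8, 0, 8, 2, 0, 2, 4, 2, 2, 1, 2, 4, 2] • P1
/-- point -/
noncomputable def P4 : XLy := gz • T [0, 3, 8, 2, 0, 5, 8, 0, 8, 1, 3, 3, 1, 3, 5, 0, 2, 4, 0] • P1

def S1 : List (List ℕ) := LyK.xWords

theorem fix1 : Fix S1 P1 := fix_xWord rfl

def seg0 : List (List ℕ) := [[3, 3, 0, 2, 2], [3, 3, 0, 2, 2], [0, 0, 3, 3, 0, 2, 2]]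

theorem seg0_one : seqVal seg0 = 1 := seq_one (i := 81) (k := 5) (by decide +kernel)

def seg1 : List (List ℕ) := [[1, 6, 3, 5, 1, 2, 5, 7, 2, 5, 3, 1, 5, 0, 3, 0, 2, 0, 3], [1, 5, 7, 0, 5, 3, 0, 5, 7, 1, 5, 0, 4, 3, 3, 5, 3, 1, 3, 3], [5, 7, 1, 5, 1, 2, 5, 7]]

theorem seg1_one : seqVal seg1 = 1 := seq_one (i := 82) (k := 8) (by decide +kernel)

def seg2 : List (List ℕ) := [[7, 1, 1], [1, 5, 7, 2, 1, 3, 5, 7, 2, 1, 3, 5, 3, 0, 3, 3, 0, 3], [6], [0, 2, 1, 2, 2, 1, 2, 2, 5, 0, 4, 2, 4, 3, 6, 4, 3, 3, 6, 4, 2, 4, 1, 1]]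

theorem seg2_one : seqVal seg2 = 1 := seq_one (i := 83) (k := 2) (by decide +kernel)

def seg3 : List (List ℕ) := [[2, 0, 3, 1, 3, 3, 1, 3, 4, 2, 2, 4, 2, 6, 4, 3, 3, 6, 4, 2, 4], [0, 3, 3, 1, 4, 2, 5, 2, 1, 5, 5, 6, 4, 0, 4, 1, 4, 3, 7, 1, 1], [5, 3, 5, 7, 2, 2, 5, 7, 3, 5, 3, 3, 5, 2, 0, 2, 2, 0, 2, 1, 3, 1, 1], [7, 0, 4, 2, 4, 1, 5, 7, 0, 3, 1, 4, 1, 3, 3, 1, 2, 1]]

theorem seg3_one : seqVal seg3 = 1 := seq_one (i := 84) (k := 0) (by decide +kernel)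

def seg4 : List (List ℕ) := [[2, 6], [2, 2, 1, 3, 1, 2, 2, 5, 0, 4, 1, 5, 6, 5, 2, 2, 1, 4, 2, 1, 1], [7, 3, 1, 1], [5, 1, 4, 2, 5, 7, 4, 1, 4, 0, 4, 3, 1, 3, 1, 2]]

theorem seg4_one : seqVal seg4 = 1 := seq_one (i := 85) (k := 0) (by decide +kernel)

theorem e0 : gz • T [] • P1 = T [0, 0] • P0 := by
  rw [T_nil, one_smul]
  exact sq_smul _

theorem e1 : gz • T [2, 2, 0, 8, 3, 1, 5, 3, 0, 2, 4, 1, 2] • P1 = T [4, 0, 8, 3, 4, 1, 4, 3, 3, 0, 3, 5, 1] • P1 := by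
  have q0 : mv [1, 5, 7, 0, 5, 3, 0, 5, 7, 1, 5, 0, 4, 3, 3, 5, 3, 1, 3, 3] (mv [5, 7, 1, 5, 1, 2, 5, 7] (mv [1, 6, 3, 5, 1, 2, 5, 7, 2, 5, 3, 1, 5, 0, 3, 0, 2, 0, 3] (T [0, 8, 3, 5, 0, 0, 4, 4, 2, 2, 3, 0] • P0))) = T [0, 8, 3, 5, 0, 0, 4, 4, 2, 2, 3, 0] • P0 := seq3 (seq_rot seg1_one 1) _
  have f0 : mv [1, 6, 3, 5, 1, 2, 5, 7, 2, 5, 3, 1, 5, 0, 3, 0, 2, 0, 3] (T [0, 8, 3, 5, 0, 0, 4, 4, 2, 2, 3, 0] • P0) = T [] • P1 := fwd (zero_step [5, 1, 4, 0, 8, 4, 0, 8, 5, 3, 3, 0, 4, 2, 2, 0, 3, 4] : gz • T [5, 1, 4, 0, 8, 4, 0, 8, 5, 3, 3, 0, 4, 2, 2, 0, 3, 4] • P0 = T [] • P1) (by decide +kernel)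
  have c0 := f0
  have b0 : mv [1, 5, 7, 0, 5, 3, 0, 5, 7, 1, 5, 0, 4, 3, 3, 5, 3, 1, 3, 3] (T [4, 0, 8, 3, 4, 1, 4, 3, 3, 0, 3, 5, 1] • P1) = T [0, 8, 3, 5, 0, 0, 4, 4, 2, 2, 3, 0] • P0 := bwd (zero_step [0, 8, 3, 5, 0, 0, 4, 4, 2, 2, 3, 0] : gz • T [0, 8, 3, 5, 0, 0, 4, 4, 2, 2, 3, 0] • P0 = T [] • P1) (by decide +kernel)
  have d0 : T [0, 8, 3, 5, 0, 0, 4, 4, 2, 2, 3, 0] • P0 = mv [1, 5, 7, 0, 5, 3, 0, 5, 7, 1, 5, 0, 4, 3, 3, 5, 3, 1, 3, 3] (T [4, 0, 8, 3, 4, 1, 4, 3, 3, 0, 3, 5, 1] • P1) := b0.symm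
  have q2 : mv [5, 7, 1, 5, 1, 2, 5, 7] (T [] • P1) = T [4, 0, 8, 3, 4, 1, 4, 3, 3, 0, 3, 5, 1] • P1 := (mv_inj _ (((congrArg (fun p => mv [1, 5, 7, 0, 5, 3, 0, 5, 7, 1, 5, 0, 4, 3, 3, 5, 3, 1, 3, 3] (mv [5, 7, 1, 5, 1, 2, 5, 7] (p))) c0).symm.trans q0).trans d0))
  have c : gz • T [2, 2, 0, 8, 3, 1, 5, 3, 0, 2, 4, 1, 2] • P1 = T [4, 0, 8, 3, 4, 1, 4, 3, 3, 0, 3, 5, 1] • P1 := by
    rw [T_congr (show sameWord [2, 2, 0, 8, 3, 1, 5, 3, 0, 2, 4, 1, 2] ([5, 7, 1, 5, 1, 2, 5, 7] ++ []) = true by decide +kernel), T_append, mul_smul]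
    exact q2
  exact c

theorem e2 : gz • T [3, 3, 0, 2, 2] • P1 = T [1, 3, 3, 0, 2, 2, 0] • P1 := by
  have q0 : mv [3, 3, 0, 2, 2] (mv [3, 3, 0, 2, 2] (mv [0, 0, 3, 3, 0, 2, 2] (T [0, 3, 0, 4, 4, 2] • P0))) = T [0, 3, 0, 4, 4, 2] • P0 := seq3 (seq_rot seg0_one 0) _
  have f0 : mv [0, 0, 3, 3, 0, 2, 2] (T [0, 3, 0, 4, 4, 2] • P0) = T [] • P1 := fwd (zero_step [5, 1, 2, 2, 1, 3, 1] : gz • T [5, 1, 2, 2, 1, 3, 1] • P0 = T [] • P1) (by decide +kernel)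
  have c0 := f0
  have b0 : mv [3, 3, 0, 2, 2] (T [1, 3, 3, 0, 2, 2, 0] • P1) = T [0, 3, 0, 4, 4, 2] • P0 := bwd (zero_step [0, 3, 0, 4, 4, 2] : gz • T [0, 3, 0, 4, 4, 2] • P0 = T [] • P1) (by decide +kernel)
  have d0 : T [0, 3, 0, 4, 4, 2] • P0 = mv [3, 3, 0, 2, 2] (T [1, 3, 3, 0, 2, 2, 0] • P1) := b0.symm
  have q2 : mv [3, 3, 0, 2, 2] (T [] • P1) = T [1, 3, 3, 0, 2, 2, 0] • P1 := (mv_inj _ (((congrArg (fun p => mv [3, 3, 0, 2, 2] (mv [3, 3, 0, 2, 2] (p))) c0).symm.trans q0).trans d0))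
  have c : gz • T [3, 3, 0, 2, 2] • P1 = T [1, 3, 3, 0, 2, 2, 0] • P1 := by
    rw [T_congr (show sameWord [3, 3, 0, 2, 2] ([3, 3, 0, 2, 2] ++ []) = true by decide +kernel), T_append, mul_smul]
    exact q2
  exact c

theorem e3 : gz • T [8, 5, 1, 8, 5, 5, 2, 4, 4, 3] • P1 = T [] • P2 := by
  rw [T_nil, one_smul]
  rfl

theorem e4 : gz • T [] • P2 = T [5, 5, 8, 1, 8, 3, 3, 4, 1, 2, 2, 0, 3, 0, 4] • P1 := by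
  rw [T_congr (show sameWord [] [] = true by decide +kernel)]
  exact edge_symm e3 (by decide +kernel)

theorem s5 : T [4, 4] • P2 = P2 := by
  exact transport (gens := S1) fix1 e3 (kw := [0, 0]) (sl := [(0, true)]) (by decide +kernel) (by decide +kernel) (by decide +kernel) (by decide +kernel)

def S2_1 : List (List ℕ) := [[4, 4]]

theorem fix2_1 : Fix S2_1 P2 := by
  intro w hw
  simp only [S2_1, List.mem_cons, List.not_mem_nil, or_false] at hw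
  subst hw
  exact s5

theorem e6 : gz • T [3, 5, 8, 1, 8, 5, 0, 8, 3, 0, 0, 5, 0, 3, 3, 0, 5, 3, 0] • P2 = T [8, 0, 3, 0, 8, 3, 3, 4, 0, 5, 3, 0, 2, 0, 5] • P1 := by
  have q0 : mv [5, 3, 5, 7, 2, 2, 5, 7, 3, 5, 3, 3, 5, 2, 0, 2, 2, 0, 2, 1, 3, 1, 1] (mv [7, 0, 4, 2, 4, 1, 5, 7, 0, 3, 1, 4, 1, 3, 3, 1, 2, 1] (mv [2, 0, 3, 1, 3, 3, 1, 3, 4, 2, 2, 4, 2, 6, 4, 3, 3, 6, 4, 2, 4] (mv [0, 3, 3, 1, 4, 2, 5, 2, 1, 5, 5, 6, 4, 0, 4, 1, 4, 3, 7, 1, 1] (T [3, 5, 1, 1, 2, 1, 8, 2, 8, 4, 0, 3, 0] • P0)))) = T [3, 5, 1, 1, 2, 1, 8, 2, 8, 4, 0, 3, 0] • P0 := seq4 (seq_rot seg3_one 2) _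
  have f0 : mv [0, 3, 3, 1, 4, 2, 5, 2, 1, 5, 5, 6, 4, 0, 4, 1, 4, 3, 7, 1, 1] (T [3, 5, 1, 1, 2, 1, 8, 2, 8, 4, 0, 3, 0] • P0) = T [] • P1 := fwd (zero_step [5, 1, 8, 4, 0, 8, 2, 4, 0, 8, 3, 4, 2, 5, 0, 2, 4, 0, 4, 3] : gz • T [5, 1, 8, 4, 0, 8, 2, 4, 0, 8, 3, 4, 2, 5, 0, 2, 4, 0, 4, 3] • P0 = T [] • P1) (by decide +kernel)
  have c0 := f0
  have f1 : mv [2, 0, 3, 1, 3, 3, 1, 3, 4, 2, 2, 4, 2, 6, 4, 3, 3, 6, 4, 2, 4] (T [] • P1) = T [1, 3, 0, 5, 3, 3, 4, 3, 0] • P2 := fwd (step (gens := S1) fix1 e3 (h := [8, 2, 4, 0, 8, 3, 3, 4, 1, 5, 2, 5, 2, 2]) (g := [1, 3, 0, 5, 3, 3, 4, 3, 0]) (kw := [7, 6, 2, 7, 4, 6, 5]) (sl := [(2, true), (3, true), (3, true), (3, true), (1, true), (3, false), (2, false), (7, false)]) (by decide +kernel) (by decide +kernel) (by decide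 +kernel) (by decide +kernel)) (by decide +kernel)
  have c1 : mv [2, 0, 3, 1, 3, 3, 1, 3, 4, 2, 2, 4, 2, 6, 4, 3, 3, 6, 4, 2, 4] (mv [0, 3, 3, 1, 4, 2, 5, 2, 1, 5, 5, 6, 4, 0, 4, 1, 4, 3, 7, 1, 1] (T [3, 5, 1, 1, 2, 1, 8, 2, 8, 4, 0, 3, 0] • P0)) = T [1, 3, 0, 5, 3, 3, 4, 3, 0] • P2 := (congrArg (mv [2, 0, 3, 1, 3, 3, 1, 3, 4, 2, 2, 4, 2, 6, 4, 3, 3, 6, 4, 2, 4]) c0).trans f1
  have b0 : mv [5, 3, 5, 7, 2, 2, 5, 7, 3, 5, 3, 3, 5, 2, 0, 2, 2, 0, 2, 1, 3, 1, 1] (T [8, 0, 3, 0, 8, 3, 3, 4, 0, 5, 3, 0, 2, 0, 5] • P1) = T [3, 5, 1, 1, 2, 1, 8, 2, 8, 4, 0, 3, 0] • P0 := bwd (zero_step [3, 5, 1, 1, 2, 1, 8, 2, 8, 4, 0, 3, 0] : gz • T [3, 5, 1, 1, 2, 1, 8, 2, 8, 4, 0, 3, 0] • P0 = T [] • P1) (by decide +kernel)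
  have d0 : T [3, 5, 1, 1, 2, 1, 8, 2, 8, 4, 0, 3, 0] • P0 = mv [5, 3, 5, 7, 2, 2, 5, 7, 3, 5, 3, 3, 5, 2, 0, 2, 2, 0, 2, 1, 3, 1, 1] (T [8, 0, 3, 0, 8, 3, 3, 4, 0, 5, 3, 0, 2, 0, 5] • P1) := b0.symm
  have q2 : mv [7, 0, 4, 2, 4, 1, 5, 7, 0, 3, 1, 4, 1, 3, 3, 1, 2, 1] (T [1, 3, 0, 5, 3, 3, 4, 3, 0] • P2) = T [8, 0, 3, 0, 8, 3, 3, 4, 0, 5, 3, 0, 2, 0, 5] • P1 := (mv_inj _ (((congrArg (fun p => mv [5, 3, 5, 7, 2, 2, 5, 7, 3, 5, 3, 3, 5, 2, 0, 2, 2, 0, 2, 1, 3, 1, 1] (mv [7, 0, 4, 2, 4, 1, 5, 7, 0, 3, 1, 4, 1, 3, 3, 1, 2, 1] (p))) c1).symm.trans q0).trans d0))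
  have c : gz • T [3, 5, 8, 1, 8, 5, 0, 8, 3, 0, 0, 5, 0, 3, 3, 0, 5, 3, 0] • P2 = T [8, 0, 3, 0, 8, 3, 3, 4, 0, 5, 3, 0, 2, 0, 5] • P1 := by
    rw [T_congr (show sameWord [3, 5, 8, 1, 8, 5, 0, 8, 3, 0, 0, 5, 0, 3, 3, 0, 5, 3, 0] ([7, 0, 4, 2, 4, 1, 5, 7, 0, 3, 1, 4, 1, 3, 3, 1, 2, 1] ++ [1, 3, 0, 5, 3, 3, 4, 3, 0]) = true by decide +kernel), T_append, mul_smul]
    exact q2
  exact c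

theorem s7 : T [2, 0, 8, 3, 5, 0, 8, 4, 0, 8, 2, 1, 2, 0, 4, 4, 2, 2, 5, 2, 0] • P2 = P2 := by
  have c : gz • T [8, 0, 3, 0, 8, 3, 3, 4, 0, 5, 3, 0, 2, 0, 5] • P1 = T [0, 0, 3, 5, 8, 1, 8, 5, 0, 8, 3, 0, 0, 5, 0, 3, 3, 0, 5, 3, 0] • P2 := by
    rw [T_congr (show sameWord [8, 0, 3, 0, 8, 3, 3, 4, 0, 5, 3, 0, 2, 0, 5] [8, 0, 3, 0, 8, 3, 3, 4, 0, 5, 3, 0, 2, 0, 5] = true by decide +kernel)]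
    exact edge_symm e6 (by decide +kernel)
  exact fix_of_eq (c.symm.trans (step (gens := S1) fix1 e3 (h := [8, 0, 3, 0, 8, 3, 3, 4, 0, 5, 3, 0, 2, 0, 5]) (g := [5, 5, 0, 3, 0, 5, 2, 1, 5, 2, 2, 0]) (kw := [1, 5, 6, 5, 7, 1, 6, 5]) (sl := [(2, true), (3, true), (3, true), (3, true), (1, true), (3, false), (2, false), (7, false)]) (by decide +kernel) (by decide +kernel) (by decide +kernel) (by decide +kernel))) (by decide +kernel)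

def S2_2 : List (List ℕ) := [[4, 4], [2, 0, 8, 3, 5, 0, 8, 4, 0, 8, 2, 1, 2, 0, 4, 4, 2, 2, 5, 2, 0]]

theorem fix2_2 : Fix S2_2 P2 := by
  intro w hw
  simp only [S2_2, List.mem_cons, List.not_mem_nil, or_false] at hw
  rcases hw with rfl | rfl
  exacts [s5, s7]

theorem e8 : gz • T [3, 1, 8, 0, 3, 8, 1, 8, 4, 3, 5, 3, 4, 4, 1, 2, 5] • P2 = T [1, 3, 3, 5, 1, 3, 1, 5, 2, 1, 2] • P2 := by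
  have q0 : mv [3, 3, 0, 2, 2] (mv [3, 3, 0, 2, 2] (mv [0, 0, 3, 3, 0, 2, 2] (T [3, 5, 8, 1, 8, 5, 0, 8, 3, 0, 0, 5, 0, 3, 3, 0, 5, 3, 0] • P2))) = T [3, 5, 8, 1, 8, 5, 0, 8, 3, 0, 0, 5, 0, 3, 3, 0, 5, 3, 0] • P2 := seq3 (seq_rot seg0_one 0) _
  have b0 : mv [3, 3, 0, 2, 2] (T [3, 3, 1, 8, 2, 1, 8, 4, 1, 4, 3, 3, 0, 2, 5, 0] • P1) = T [3, 5, 8, 1, 8, 5, 0, 8, 3, 0, 0, 5, 0, 3, 3, 0, 5, 3, 0] • P2 := bwd (step (gens := S2_2) fix2_2 e4 (h := [3, 5, 8, 1, 8, 5, 0, 8, 3, 0, 0, 5, 0, 3, 3, 0, 5, 3, 0]) (g := [8, 0, 3, 0, 8, 1, 3, 5, 1, 2, 0, 2, 2, 0]) (kw := [6, 7, 5, 5, 2, 5, 6, 7, 1, 5]) (sl := [(1, false)]) (by decide +kernel) (by decide +kernel) (by decide +kernel) (by decide +kernel)) (by decide +kernel)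
  have d0 : T [3, 5, 8, 1, 8, 5, 0, 8, 3, 0, 0, 5, 0, 3, 3, 0, 5, 3, 0] • P2 = mv [3, 3, 0, 2, 2] (T [3, 3, 1, 8, 2, 1, 8, 4, 1, 4, 3, 3, 0, 2, 5, 0] • P1) := b0.symm
  have b1 : mv [3, 3, 0, 2, 2] (T [1, 3, 3, 5, 1, 3, 1, 5, 2, 1, 2] • P2) = T [3, 3, 1, 8, 2, 1, 8, 4, 1, 4, 3, 3, 0, 2, 5, 0] • P1 := bwd (step (gens := S1) fix1 e3 (h := [3, 3, 1, 8, 2, 1, 8, 4, 1, 4, 3, 3, 0, 2, 5, 0]) (g := [2, 1, 4, 3, 0, 2, 4, 1, 3]) (kw := [7, 5, 1, 6, 7, 2, 6, 5, 7, 0]) (sl := [(2, true), (3, true), (3, true), (3, true), (1, true), (1, false), (2, false), (3, false), (2, false), (1, false)]) (by decide +kernel) (by decide +kernel) (by decide +kernel) (by decide +kernel)) (by decide +kernel)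
  have d1 : T [3, 5, 8, 1, 8, 5, 0, 8, 3, 0, 0, 5, 0, 3, 3, 0, 5, 3, 0] • P2 = mv [3, 3, 0, 2, 2] (mv [3, 3, 0, 2, 2] (T [1, 3, 3, 5, 1, 3, 1, 5, 2, 1, 2] • P2)) := d0.trans (congrArg (fun p => mv [3, 3, 0, 2, 2] (p)) b1.symm)
  have q2 : mv [0, 0, 3, 3, 0, 2, 2] (T [3, 5, 8, 1, 8, 5, 0, 8, 3, 0, 0, 5, 0, 3, 3, 0, 5, 3, 0] • P2) = T [1, 3, 3, 5, 1, 3, 1, 5, 2, 1, 2] • P2 := (mv_inj _ (mv_inj _ (q0.trans d1)))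
  have c : gz • T [3, 1, 8, 0, 3, 8, 1, 8, 4, 3, 5, 3, 4, 4, 1, 2, 5] • P2 = T [1, 3, 3, 5, 1, 3, 1, 5, 2, 1, 2] • P2 := by
    rw [T_congr (show sameWord [3, 1, 8, 0, 3, 8, 1, 8, 4, 3, 5, 3, 4, 4, 1, 2, 5] ([0, 0, 3, 3, 0, 2, 2] ++ [3, 5, 8, 1, 8, 5, 0, 8, 3, 0, 0, 5, 0, 3, 3, 0, 5, 3, 0]) = true by decide +kernel), T_append, mul_smul]
    exact q2
  exact c

theorem e9 : gz • T [2, 4, 0, 8, 4, 0, 3, 5, 1, 5, 2, 0, 2, 4] • P2 = T [8, 0, 3, 0, 8, 3, 3, 4, 0, 5, 3, 0, 2, 0, 5] • P1 := by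
  have q0 : mv [2, 0, 3, 1, 3, 3, 1, 3, 4, 2, 2, 4, 2, 6, 4, 3, 3, 6, 4, 2, 4] (mv [0, 3, 3, 1, 4, 2, 5, 2, 1, 5, 5, 6, 4, 0, 4, 1, 4, 3, 7, 1, 1] (mv [5, 3, 5, 7, 2, 2, 5, 7, 3, 5, 3, 3, 5, 2, 0, 2, 2, 0, 2, 1, 3, 1, 1] (mv [7, 0, 4, 2, 4, 1, 5, 7, 0, 3, 1, 4, 1, 3, 3, 1, 2, 1] (T [3, 5, 8, 1, 8, 5, 0, 8, 3, 0, 0, 5, 0, 3, 3, 0, 5, 3, 0] • P2)))) = T [3, 5, 8, 1, 8, 5, 0, 8, 3, 0, 0, 5, 0, 3, 3, 0, 5, 3, 0] • P2 := seq4 (seq_rot seg3_one 0) _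
  have b0 : mv [2, 0, 3, 1, 3, 3, 1, 3, 4, 2, 2, 4, 2, 6, 4, 3, 3, 6, 4, 2, 4] (T [5, 1, 2, 2, 1, 3, 4, 3, 5, 0] • P1) = T [3, 5, 8, 1, 8, 5, 0, 8, 3, 0, 0, 5, 0, 3, 3, 0, 5, 3, 0] • P2 := bwd (step (gens := S2_2) fix2_2 e4 (h := [3, 5, 8, 1, 8, 5, 0, 8, 3, 0, 0, 5, 0, 3, 3, 0, 5, 3, 0]) (g := [8, 0, 3, 0, 8, 1, 3, 5, 1, 2, 0, 2, 2, 0]) (kw := [6, 7, 5, 5, 2, 5, 6, 7, 1, 5]) (sl := [(1, false)]) (by decide +kernel) (by decide +kernel) (by decide +kernel) (by decide +kernel)) (by decide +kernel)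
  have d0 : T [3, 5, 8, 1, 8, 5, 0, 8, 3, 0, 0, 5, 0, 3, 3, 0, 5, 3, 0] • P2 = mv [2, 0, 3, 1, 3, 3, 1, 3, 4, 2, 2, 4, 2, 6, 4, 3, 3, 6, 4, 2, 4] (T [5, 1, 2, 2, 1, 3, 4, 3, 5, 0] • P1) := b0.symm
  have b1 : mv [0, 3, 3, 1, 4, 2, 5, 2, 1, 5, 5, 6, 4, 0, 4, 1, 4, 3, 7, 1, 1] (T [5, 0, 5, 1, 8, 0, 8, 0, 8, 3, 5, 5, 1, 4, 2, 4, 2, 4] • P0) = T [5, 1, 2, 2, 1, 3, 4, 3, 5, 0] • P1 := bwd (step (gens := S1) fix1 e0 (h := [5, 1, 2, 2, 1, 3, 4, 3, 5, 0]) (g := [3, 5, 3, 3, 4, 0, 3, 3]) (kw := [5, 2, 7, 5, 4, 1, 1]) (sl := []) (by decide +kernel) (by decide +kernel) (by decide +kernel) (by decide +kernel)) (by decide +kernel)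
  have d1 : T [3, 5, 8, 1, 8, 5, 0, 8, 3, 0, 0, 5, 0, 3, 3, 0, 5, 3, 0] • P2 = mv [2, 0, 3, 1, 3, 3, 1, 3, 4, 2, 2, 4, 2, 6, 4, 3, 3, 6, 4, 2, 4] (mv [0, 3, 3, 1, 4, 2, 5, 2, 1, 5, 5, 6, 4, 0, 4, 1, 4, 3, 7, 1, 1] (T [5, 0, 5, 1, 8, 0, 8, 0, 8, 3, 5, 5, 1, 4, 2, 4, 2, 4] • P0)) := d0.trans (congrArg (fun p => mv [2, 0, 3, 1, 3, 3, 1, 3, 4, 2, 2, 4, 2, 6, 4, 3, 3, 6, 4, 2, 4] (p)) b1.symm)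
  have b2 : mv [5, 3, 5, 7, 2, 2, 5, 7, 3, 5, 3, 3, 5, 2, 0, 2, 2, 0, 2, 1, 3, 1, 1] (T [8, 0, 3, 0, 8, 3, 3, 4, 0, 5, 3, 0, 2, 0, 5] • P1) = T [5, 0, 5, 1, 8, 0, 8, 0, 8, 3, 5, 5, 1, 4, 2, 4, 2, 4] • P0 := bwd (zero_step [5, 0, 5, 1, 8, 0, 8, 0, 8, 3, 5, 5, 1, 4, 2, 4, 2, 4] : gz • T [5, 0, 5, 1, 8, 0, 8, 0, 8, 3, 5, 5, 1, 4, 2, 4, 2, 4] • P0 = T [] • P1) (by decide +kernel)
  have d2 : T [3, 5, 8, 1, 8, 5, 0, 8, 3, 0, 0, 5, 0, 3, 3, 0, 5, 3, 0] • P2 = mv [2, 0, 3, 1, 3, 3, 1, 3, 4, 2, 2, 4, 2, 6, 4, 3, 3, 6, 4, 2, 4] (mv [0, 3, 3, 1, 4, 2, 5, 2, 1, 5, 5, 6, 4, 0, 4, 1, 4, 3, 7, 1, 1] (mv [5, 3, 5, 7, 2, 2, 5, 7, 3, 5, 3, 3, 5, 2, 0, 2, 2, 0, 2, 1, 3, 1, 1] (T [8, 0, 3, 0, 8, 3, 3, 4, 0, 5, 3, 0, 2, 0, 5] • P1))) := d1.trans (congrArg (fun p => mv [2, 0, 3,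 1, 3, 3, 1, 3, 4, 2, 2, 4, 2, 6, 4, 3, 3, 6, 4, 2, 4] (mv [0, 3, 3, 1, 4, 2, 5, 2, 1, 5, 5, 6, 4, 0, 4, 1, 4, 3, 7, 1, 1] (p))) b2.symm)
  have q2 : mv [7, 0, 4, 2, 4, 1, 5, 7, 0, 3, 1, 4, 1, 3, 3, 1, 2, 1] (T [3, 5, 8, 1, 8, 5, 0, 8, 3, 0, 0, 5, 0, 3, 3, 0, 5, 3, 0] • P2) = T [8, 0, 3, 0, 8, 3, 3, 4, 0, 5, 3, 0, 2, 0, 5] • P1 := (mv_inj _ (mv_inj _ (mv_inj _ (q0.trans d2))))
  have c : gz • T [2, 4, 0, 8, 4, 0, 3, 5, 1, 5, 2, 0, 2, 4] • P2 = T [8, 0, 3, 0, 8, 3, 3, 4, 0, 5, 3, 0, 2, 0, 5] • P1 := by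
    rw [T_congr (show sameWord [2, 4, 0, 8, 4, 0, 3, 5, 1, 5, 2, 0, 2, 4] ([7, 0, 4, 2, 4, 1, 5, 7, 0, 3, 1, 4, 1, 3, 3, 1, 2, 1] ++ [3, 5, 8, 1, 8, 5, 0, 8, 3, 0, 0, 5, 0, 3, 3, 0, 5, 3, 0]) = true by decide +kernel), T_append, mul_smul]
    exact q2
  exact c

theorem s10 : T [2, 5, 5, 1, 8, 5, 3, 1, 3, 5, 1, 4, 4, 2] • P2 = P2 := by
  have c : gz • T [8, 0, 3, 0, 8, 3, 3, 4, 0, 5, 3, 0, 2, 0, 5] • P1 = T [0, 0, 2, 4, 0, 8, 4, 0, 3, 5, 1, 5, 2, 0, 2, 4] • P2 := by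
    rw [T_congr (show sameWord [8, 0, 3, 0, 8, 3, 3, 4, 0, 5, 3, 0, 2, 0, 5] [8, 0, 3, 0, 8, 3, 3, 4, 0, 5, 3, 0, 2, 0, 5] = true by decide +kernel)]
    exact edge_symm e9 (by decide +kernel)
  exact fix_of_eq (c.symm.trans (step (gens := S1) fix1 e3 (h := [8, 0, 3, 0, 8, 3, 3, 4, 0, 5, 3, 0, 2, 0, 5]) (g := [5, 5, 0, 3, 0, 5, 2, 1, 5, 2, 2, 0]) (kw := [1, 5, 6, 5, 7, 1, 6, 5]) (sl := [(2, true), (3, true), (3, true), (3, true), (1, true), (3, false), (2, false), (7, false)]) (by decide +kernel) (by decide +kernel) (by decide +kernel) (by decide +kernel))) (by decide +kernel)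

def S2_3 : List (List ℕ) := [[4, 4], [2, 0, 8, 3, 5, 0, 8, 4, 0, 8, 2, 1, 2, 0, 4, 4, 2, 2, 5, 2, 0], [2, 5, 5, 1, 8, 5, 3, 1, 3, 5, 1, 4, 4, 2]]

theorem fix2_3 : Fix S2_3 P2 := by
  intro w hw
  simp only [S2_3, List.mem_cons, List.not_mem_nil, or_false] at hw
  rcases hw with rfl | rfl | rfl
  exacts [s5, s7, s10]

theorem e11 : gz • T [8, 3, 1, 4, 8, 1, 8, 1, 3, 5, 3, 4, 1, 3, 1] • P2 = T [2, 4, 1, 4, 8, 0, 8, 0, 8, 4, 3, 0, 4, 3, 3, 1, 3, 3] • P2 := by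
  have q0 : mv [2, 2, 1, 3, 1, 2, 2, 5, 0, 4, 1, 5, 6, 5, 2, 2, 1, 4, 2, 1, 1] (mv [7, 3, 1, 1] (mv [5, 1, 4, 2, 5, 7, 4, 1, 4, 0, 4, 3, 1, 3, 1, 2] (mv [2, 6] (T [2, 1, 2, 4, 5, 0, 1, 3, 2, 8, 2, 1, 3, 0, 3, 2, 4, 4, 4, 2, 8] • P1)))) = T [2, 1, 2, 4, 5, 0, 1, 3, 2, 8, 2, 1, 3, 0, 3, 2, 4, 4, 4, 2, 8] • P1 := seq4 (seq_rot seg4_one 1) _
  have f0 : mv [2, 6] (T [2, 1, 2, 4, 5, 0, 1, 3, 2, 8, 2, 1, 3, 0, 3, 2, 4, 4, 4, 2, 8] • P1) = T [4, 0, 8, 5, 3, 1, 5, 2, 1, 3, 4, 3, 3] • P1 := fwd (step (gens := S1) fix1 e1 (h := [2, 2, 0, 8, 4, 1, 4, 3, 0, 3, 3, 0, 5, 3]) (g := [4, 0, 8, 5, 3, 1, 5, 2, 1, 3, 4, 3, 3]) (kw := [7, 1, 7, 3, 0]) (sl := [(0, true), (6, true), (1, false), (5, false), (6, false), (3, false)]) (by decide +kernel) (by decide +kernel) (by decide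 +kernel) (by decide +kernel)) (by decide +kernel)
  have c0 := f0
  have f1 : mv [5, 1, 4, 2, 5, 7, 4, 1, 4, 0, 4, 3, 1, 3, 1, 2] (T [4, 0, 8, 5, 3, 1, 5, 2, 1, 3, 4, 3, 3] • P1) = T [3, 3, 0, 3, 5, 1, 2, 4, 1, 5, 0] • P2 := fwd (step (gens := S1) fix1 e3 (h := [2, 4, 1, 4, 8, 1, 8, 2, 2, 1, 4, 3, 0, 3, 5, 1, 5, 0]) (g := [3, 3, 0, 3, 5, 1, 2, 4, 1, 5, 0]) (kw := [6, 7, 5, 2, 0, 1, 6, 2]) (sl := [(2, true), (3, true), (3, true), (3, true), (1, true), (7, false), (4, false), (6, false), (3, false)]) (by decide +kernel) (by decide +kernel) (by decide +kernel) (by decide +kernel)) (by decide +kernel)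
  have c1 : mv [5, 1, 4, 2, 5, 7, 4, 1, 4, 0, 4, 3, 1, 3, 1, 2] (mv [2, 6] (T [2, 1, 2, 4, 5, 0, 1, 3, 2, 8, 2, 1, 3, 0, 3, 2, 4, 4, 4, 2, 8] • P1)) = T [3, 3, 0, 3, 5, 1, 2, 4, 1, 5, 0] • P2 := (congrArg (mv [5, 1, 4, 2, 5, 7, 4, 1, 4, 0, 4, 3, 1, 3, 1, 2]) c0).trans f1
  have b0 : mv [2, 2, 1, 3, 1, 2, 2, 5, 0, 4, 1, 5, 6, 5, 2, 2, 1, 4, 2, 1, 1] (T [2, 4, 1, 4, 8, 0, 8, 0, 8, 4, 3, 0, 4, 3, 3, 1, 3, 3] • P2) = T [2, 1, 2, 4, 5, 0, 1, 3, 2, 8, 2, 1, 3, 0, 3, 2, 4, 4, 4, 2, 8] • P1 := bwd (step (gens := S1) fix1 e3 (h := [2, 1, 2, 4, 5, 0, 1, 3, 2, 8, 2, 1, 3, 0, 3, 2, 4, 4, 4, 2, 8]) (g := [2, 1, 4, 3, 0, 5, 0, 5]) (kw := [3, 2, 0, 6, 1, 1]) (sl := [(2, true), (3, true), (3, true), (3, true), (1, true), (3, false), (0, false), (1, false), (3, false)]) (by decide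 +kernel) (by decide +kernel) (by decide +kernel) (by decide +kernel)) (by decide +kernel)
  have d0 : T [2, 1, 2, 4, 5, 0, 1, 3, 2, 8, 2, 1, 3, 0, 3, 2, 4, 4, 4, 2, 8] • P1 = mv [2, 2, 1, 3, 1, 2, 2, 5, 0, 4, 1, 5, 6, 5, 2, 2, 1, 4, 2, 1, 1] (T [2, 4, 1, 4, 8, 0, 8, 0, 8, 4, 3, 0, 4, 3, 3, 1, 3, 3] • P2) := b0.symm
  have q2 : mv [7, 3, 1, 1] (T [3, 3, 0, 3, 5, 1, 2, 4, 1, 5, 0] • P2) = T [2, 4, 1, 4, 8, 0, 8, 0, 8, 4, 3, 0, 4, 3, 3, 1, 3, 3] • P2 := (mv_inj _ (((congrArg (fun p => mv [2, 2, 1, 3, 1, 2, 2, 5, 0, 4, 1, 5, 6, 5, 2, 2, 1, 4, 2, 1, 1] (mv [7, 3, 1, 1] (p))) c1).symm.trans q0).trans d0))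
  have c : gz • T [8, 3, 1, 4, 8, 1, 8, 1, 3, 5, 3, 4, 1, 3, 1] • P2 = T [2, 4, 1, 4, 8, 0, 8, 0, 8, 4, 3, 0, 4, 3, 3, 1, 3, 3] • P2 := by
    rw [T_congr (show sameWord [8, 3, 1, 4, 8, 1, 8, 1, 3, 5, 3, 4, 1, 3, 1] ([7, 3, 1, 1] ++ [3, 3, 0, 3, 5, 1, 2, 4, 1, 5, 0]) = true by decide +kernel), T_append, mul_smul]
    exact q2
  exact c

theorem e12 : gz • T [8, 3, 1, 4, 8, 0, 8, 5, 1, 5, 2, 1, 4, 3, 0, 3, 3, 0] • P2 = T [1, 8, 1, 2, 0, 8, 0, 8, 4, 0, 2, 2, 5, 0, 2, 5, 2, 4, 0] • P2 := by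
  have q0 : mv [0, 2, 1, 2, 2, 1, 2, 2, 5, 0, 4, 2, 4, 3, 6, 4, 3, 3, 6, 4, 2, 4, 1, 1] (mv [7, 1, 1] (mv [1, 5, 7, 2, 1, 3, 5, 7, 2, 1, 3, 5, 3, 0, 3, 3, 0, 3] (mv [6] (T [] • P2)))) = T [] • P2 := seq4 (seq_rot seg2_one 3) _
  have b0 : mv [0, 2, 1, 2, 2, 1, 2, 2, 5, 0, 4, 2, 4, 3, 6, 4, 3, 3, 6, 4, 2, 4, 1, 1] (T [0, 5, 3, 0, 8, 3, 1, 8, 5, 0, 2, 4, 3, 4, 2, 0, 3] • P1) = T [] • P2 := bwd (step (gens := S2_3) fix2_3 e4 (h := []) (g := [5, 5, 8, 1, 8, 3, 3, 4, 1, 2, 2, 0, 3, 0, 4]) (kw := []) (sl := []) (by decide +kernel) (by decide +kernel) (by decide +kernel) (by decide +kernel)) (by decide +kernel)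
  have d0 : T [] • P2 = mv [0, 2, 1, 2, 2, 1, 2, 2, 5, 0, 4, 2, 4, 3, 6, 4, 3, 3, 6, 4, 2, 4, 1, 1] (T [0, 5, 3, 0, 8, 3, 1, 8, 5, 0, 2, 4, 3, 4, 2, 0, 3] • P1) := b0.symm
  have b1 : mv [7, 1, 1] (T [8, 3, 1, 4, 8, 0, 8, 2, 0, 3, 0, 0, 4, 3, 0, 2, 4] • P2) = T [0, 5, 3, 0, 8, 3, 1, 8, 5, 0, 2, 4, 3, 4, 2, 0, 3] • P1 := bwd (step (gens := S1) fix1 e3 (h := [0, 5, 3, 0, 8, 3, 1, 8, 5, 0, 2, 4, 3, 4, 2, 0, 3]) (g := [2, 4, 1, 4, 2, 0, 4, 3, 3]) (kw := [3, 6, 5, 7, 4, 5, 0]) (sl := [(2, true), (3, true), (3, true), (3, true), (1, true), (6, false), (7, false), (4, false), (6, false), (3, false)]) (by decide +kernel) (by decide +kernel) (by decide +kernel) (by decide +kernel)) (by decide +kernel)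
  have d1 : T [] • P2 = mv [0, 2, 1, 2, 2, 1, 2, 2, 5, 0, 4, 2, 4, 3, 6, 4, 3, 3, 6, 4, 2, 4, 1, 1] (mv [7, 1, 1] (T [8, 3, 1, 4, 8, 0, 8, 2, 0, 3, 0, 0, 4, 3, 0, 2, 4] • P2)) := d0.trans (congrArg (fun p => mv [0, 2, 1, 2, 2, 1, 2, 2, 5, 0, 4, 2, 4, 3, 6, 4, 3, 3, 6, 4, 2, 4, 1, 1] (p)) b1.symm)
  have b2 : mv [1, 5, 7, 2, 1, 3, 5, 7, 2, 1, 3, 5, 3, 0, 3, 3, 0, 3] (T [1, 8, 1, 2, 0, 8, 0, 8, 4, 0, 2, 2, 5, 0, 2, 5, 2, 4, 0] • P2) = T [8, 3, 1, 4, 8, 0, 8, 2, 0, 3, 0, 0, 4, 3, 0, 2, 4] • P2 := bwd (step (gens := S2_3) fix2_3 e11 (h := [8, 3, 1, 4, 8, 0, 8, 2, 0, 3, 0, 0, 4, 3, 0, 2, 4]) (g := [5, 1, 2, 8, 1, 8, 1, 8, 2, 1, 3, 3, 0, 3, 0, 5, 2, 1]) (kw := [5, 7, 5, 3, 5, 0, 3]) (sl := [(2, true), (1, true), (1, true), (0, true), (2, false), (1, false), (2, false),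 (2, false), (0, false), (2, false), (1, false)]) (by decide +kernel) (by decide +kernel) (by decide +kernel) (by decide +kernel)) (by decide +kernel)
  have d2 : T [] • P2 = mv [0, 2, 1, 2, 2, 1, 2, 2, 5, 0, 4, 2, 4, 3, 6, 4, 3, 3, 6, 4, 2, 4, 1, 1] (mv [7, 1, 1] (mv [1, 5, 7, 2, 1, 3, 5, 7, 2, 1, 3, 5, 3, 0, 3, 3, 0, 3] (T [1, 8, 1, 2, 0, 8, 0, 8, 4, 0, 2, 2, 5, 0, 2, 5, 2, 4, 0] • P2))) := d1.trans (congrArg (fun p => mv [0, 2, 1, 2, 2, 1, 2, 2, 5, 0, 4, 2, 4, 3, 6, 4, 3, 3, 6, 4, 2, 4, 1, 1] (mv [7, 1, 1] (p))) b2.symm)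
  have q2 : mv [6] (T [] • P2) = T [1, 8, 1, 2, 0, 8, 0, 8, 4, 0, 2, 2, 5, 0, 2, 5, 2, 4, 0] • P2 := (mv_inj _ (mv_inj _ (mv_inj _ (q0.trans d2))))
  have c : gz • T [8, 3, 1, 4, 8, 0, 8, 5, 1, 5, 2, 1, 4, 3, 0, 3, 3, 0] • P2 = T [1, 8, 1, 2, 0, 8, 0, 8, 4, 0, 2, 2, 5, 0, 2, 5, 2, 4, 0] • P2 := by
    rw [T_congr (show sameWord [8, 3, 1, 4, 8, 0, 8, 5, 1, 5, 2, 1, 4, 3, 0, 3, 3, 0] ([6] ++ []) = true by decide +kernel), T_append, mul_smul]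
    exact q2
  exact c

theorem e13 : gz • T [8, 4, 3, 1, 5, 8, 0, 8, 3, 0, 3, 3, 4, 1, 5, 0, 3] • P2 = T [0, 8, 2, 1, 3, 8, 0, 8, 0, 8, 5, 5, 1, 2, 4, 3, 4, 0] • P2 := by
  have q0 : mv [2, 0, 3, 1, 3, 3, 1, 3, 4, 2, 2, 4, 2, 6, 4, 3, 3, 6, 4, 2, 4] (mv [0, 3, 3, 1, 4, 2, 5, 2, 1, 5, 5, 6, 4, 0, 4, 1, 4, 3, 7, 1, 1] (mv [5, 3, 5, 7, 2, 2, 5, 7, 3, 5, 3, 3, 5, 2, 0, 2, 2, 0, 2, 1, 3, 1, 1] (mv [7, 0, 4, 2, 4, 1, 5, 7, 0, 3, 1, 4, 1, 3, 3, 1, 2, 1] (T [5, 2, 5, 2, 5, 0, 0, 5, 5, 4, 0, 4] • P2)))) = T [5, 2, 5, 2, 5, 0, 0, 5, 5, 4, 0, 4] • P2 := seq4 (seq_rot seg3_one 0) _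
  have f0 : mv [7, 0, 4, 2, 4, 1, 5, 7, 0, 3, 1, 4, 1, 3, 3, 1, 2, 1] (T [5, 2, 5, 2, 5, 0, 0, 5, 5, 4, 0, 4] • P2) = T [8, 2, 4, 1, 4, 8, 0, 8, 4, 4, 0, 3, 3, 0, 4, 2, 0] • P2 := fwd (step (gens := S2_3) fix2_3 e11 (h := [8, 3, 3, 0, 8, 4, 0, 8, 5, 1, 4, 1, 5, 3, 1, 2, 4, 0]) (g := [8, 2, 4, 1, 4, 8, 0, 8, 4, 4, 0, 3, 3, 0, 4, 2, 0]) (kw := [6, 3, 6, 3, 7]) (sl := [(2, true), (1, true), (1, true), (0, true), (0, false), (1, false), (2, false), (2, false), (2, false), (0, false), (2, false)]) (by decide +kernel) (by decide +kernel) (by decide +kernel) (by decide +kernel)) (by decide +kernel)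
  have c0 := f0
  have b0 : mv [2, 0, 3, 1, 3, 3, 1, 3, 4, 2, 2, 4, 2, 6, 4, 3, 3, 6, 4, 2, 4] (T [1, 2, 0, 8, 3, 0, 8, 0, 3, 5, 5, 0, 4, 2, 4, 2, 1] • P2) = T [5, 2, 5, 2, 5, 0, 0, 5, 5, 4, 0, 4] • P2 := bwd (step (gens := S2_3) fix2_3 e8 (h := [5, 2, 5, 2, 5, 0, 0, 5, 5, 4, 0, 4]) (g := [5, 5, 1, 2, 2, 1, 3, 4, 1]) (kw := [6, 5, 3, 7, 4, 5, 5]) (sl := [(1, true), (2, false), (2, false)]) (by decide +kernel) (by decide +kernel) (by decide +kernel) (by decide +kernel)) (by decide +kernel)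
  have d0 : T [5, 2, 5, 2, 5, 0, 0, 5, 5, 4, 0, 4] • P2 = mv [2, 0, 3, 1, 3, 3, 1, 3, 4, 2, 2, 4, 2, 6, 4, 3, 3, 6, 4, 2, 4] (T [1, 2, 0, 8, 3, 0, 8, 0, 3, 5, 5, 0, 4, 2, 4, 2, 1] • P2) := b0.symm
  have b1 : mv [0, 3, 3, 1, 4, 2, 5, 2, 1, 5, 5, 6, 4, 0, 4, 1, 4, 3, 7, 1, 1] (T [0, 8, 2, 1, 3, 8, 0, 8, 0, 8, 5, 5, 1, 2, 4, 3, 4, 0] • P2) = T [1, 2, 0, 8, 3, 0, 8, 0, 3, 5, 5, 0, 4, 2, 4, 2, 1] • P2 := bwd (step (gens := S2_3) fix2_3 e11 (h := [1, 2, 0, 8, 3, 0, 8, 0, 3, 5, 5, 0, 4, 2, 4, 2, 1]) (g := [4, 2, 0, 5, 8, 0, 8, 0, 8, 4, 3, 3, 0, 2, 5, 0, 4, 0]) (kw := [6, 7, 5, 3, 6, 7, 0, 6, 5, 0]) (sl := [(2, true), (1, true), (1, true), (0, true), (0, false), (1, false), (0, false), (2, false), (0, false), (1, false), (0, false)]) (by decide +kernel) (by decide +kernel)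 (by decide +kernel) (by decide +kernel)) (by decide +kernel)
  have d1 : T [5, 2, 5, 2, 5, 0, 0, 5, 5, 4, 0, 4] • P2 = mv [2, 0, 3, 1, 3, 3, 1, 3, 4, 2, 2, 4, 2, 6, 4, 3, 3, 6, 4, 2, 4] (mv [0, 3, 3, 1, 4, 2, 5, 2, 1, 5, 5, 6, 4, 0, 4, 1, 4, 3, 7, 1, 1] (T [0, 8, 2, 1, 3, 8, 0, 8, 0, 8, 5, 5, 1, 2, 4, 3, 4, 0] • P2)) := d0.trans (congrArg (fun p => mv [2, 0, 3, 1, 3, 3, 1, 3, 4, 2, 2, 4, 2, 6, 4, 3, 3, 6, 4, 2, 4] (p)) b1.symm)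
  have q2 : mv [5, 3, 5, 7, 2, 2, 5, 7, 3, 5, 3, 3, 5, 2, 0, 2, 2, 0, 2, 1, 3, 1, 1] (T [8, 2, 4, 1, 4, 8, 0, 8, 4, 4, 0, 3, 3, 0, 4, 2, 0] • P2) = T [0, 8, 2, 1, 3, 8, 0, 8, 0, 8, 5, 5, 1, 2, 4, 3, 4, 0] • P2 := (mv_inj _ (mv_inj _ (((congrArg (fun p => mv [2, 0, 3, 1, 3, 3, 1, 3, 4, 2, 2, 4, 2, 6, 4, 3, 3, 6, 4, 2, 4] (mv [0, 3, 3, 1, 4, 2, 5, 2, 1, 5, 5, 6, 4, 0, 4, 1, 4, 3, 7, 1, 1] (mv [5, 3, 5, 7, 2, 2, 5, 7, 3, 5, 3, 3, 5, 2, 0, 2, 2, 0, 2, 1, 3, 1, 1] (p)))) c0).symm.trans q0).trans d1)))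
  have c : gz • T [8, 4, 3, 1, 5, 8, 0, 8, 3, 0, 3, 3, 4, 1, 5, 0, 3] • P2 = T [0, 8, 2, 1, 3, 8, 0, 8, 0, 8, 5, 5, 1, 2, 4, 3, 4, 0] • P2 := by
    rw [T_congr (show sameWord [8, 4, 3, 1, 5, 8, 0, 8, 3, 0, 3, 3, 4, 1, 5, 0, 3] ([5, 3, 5, 7, 2, 2, 5, 7, 3, 5, 3, 3, 5, 2, 0, 2, 2, 0, 2, 1, 3, 1, 1] ++ [8, 2, 4, 1, 4, 8, 0, 8, 4, 4, 0, 3, 3, 0, 4, 2, 0]) = true by decide +kernel), T_append, mul_smul]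
    exact q2
  exact c

theorem e14 : gz • T [4, 8, 3, 0, 3, 0, 8, 0, 8, 2, 0, 2, 4, 2, 2, 1, 2, 4, 2] • P1 = T [] • P3 := by
  rw [T_nil, one_smul]
  rfl

theorem e15 : gz • T [] • P3 = T [5, 3, 8, 2, 1, 8, 1, 8, 1, 5, 3, 4, 0, 5, 3, 3, 4, 4] • P1 := by
  rw [T_congr (show sameWord [] [] = true by decide +kernel)]
  exact edge_symm e14 (by decide +kernel)

theorem s16 : T [0, 5, 0, 4, 2, 4, 1, 4, 3] • P3 = P3 := by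
  exact transport (gens := S1) fix1 e14 (kw := [2, 3, 1, 6, 1, 1, 0]) (sl := [(3, false), (6, false), (2, true), (0, true), (1, true)]) (by decide +kernel) (by decide +kernel) (by decide +kernel) (by decide +kernel)

def S3_1 : List (List ℕ) := [[0, 5, 0, 4, 2, 4, 1, 4, 3]]

theorem fix3_1 : Fix S3_1 P3 := by
  intro w hw
  simp only [S3_1, List.mem_cons, List.not_mem_nil, or_false] at hw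
  subst hw
  exact s16

theorem s17 : T [0, 2, 2, 5, 0, 3, 3, 5, 0] • P3 = P3 := by
  exact transport (gens := S1) fix1 e14 (kw := [3, 5, 7, 4, 1, 5, 2, 1]) (sl := [(2, false), (4, false), (0, true), (7, true), (2, true)]) (by decide +kernel) (by decide +kernel) (by decide +kernel) (by decide +kernel)

def S3_2 : List (List ℕ) := [[0, 5, 0, 4, 2, 4, 1, 4, 3], [0, 2, 2, 5, 0, 3, 3, 5, 0]]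

theorem fix3_2 : Fix S3_2 P3 := by
  intro w hw
  simp only [S3_2, List.mem_cons, List.not_mem_nil, or_false] at hw
  rcases hw with rfl | rfl
  exacts [s16, s17]

theorem e18 : gz • T [8, 3, 1, 4, 8, 1, 8, 0, 4, 2, 5, 0, 2, 5, 2] • P3 = T [2, 4, 1, 4, 8, 0, 8, 0, 8, 5, 3, 4, 0, 3, 0, 2, 0, 4, 4] • P1 := by
  have q0 : mv [2, 2, 1, 3, 1, 2, 2, 5, 0, 4, 1, 5, 6, 5, 2, 2, 1, 4, 2, 1, 1] (mv [7, 3, 1, 1] (mv [5, 1, 4, 2, 5, 7, 4, 1, 4, 0, 4, 3, 1, 3, 1, 2] (mv [2, 6] (T [3, 4, 0, 8, 8, 2, 5, 0, 8, 2, 2] • P0)))) = T [3, 4, 0, 8, 8, 2, 5, 0, 8, 2, 2] • P0 := seq4 (seq_rot seg4_one 1) _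
  have f0 : mv [2, 6] (T [3, 4, 0, 8, 8, 2, 5, 0, 8, 2, 2] • P0) = T [] • P1 := fwd (zero_step [0, 2, 0, 8, 3, 0, 8, 1, 2, 5, 0, 4, 2, 5, 3, 3, 0] : gz • T [0, 2, 0, 8, 3, 0, 8, 1, 2, 5, 0, 4, 2, 5, 3, 3, 0] • P0 = T [] • P1) (by decide +kernel)
  have c0 := f0
  have f1 : mv [5, 1, 4, 2, 5, 7, 4, 1, 4, 0, 4, 3, 1, 3, 1, 2] (T [] • P1) = T [5, 2, 5, 1, 5, 3, 1, 1] • P3 := fwd (step (gens := S1) fix1 e14 (h := [5, 0, 4, 4, 8, 1, 8, 1, 8, 5, 1, 3, 4, 3, 5, 5, 1, 3, 0]) (g := [5, 2, 5, 1, 5, 3, 1, 1]) (kw := [5, 6, 3, 5, 6, 1, 5, 0]) (sl := [(5, true), (6, true), (1, true), (2, true), (5, true), (1, false), (6, false), (0, false), (2, false), (5, false), (3, false)]) (by decide +kernel) (by decide +kernel) (by decide +kernel) (by decide +kernel)) (by decide +kernel)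
  have c1 : mv [5, 1, 4, 2, 5, 7, 4, 1, 4, 0, 4, 3, 1, 3, 1, 2] (mv [2, 6] (T [3, 4, 0, 8, 8, 2, 5, 0, 8, 2, 2] • P0)) = T [5, 2, 5, 1, 5, 3, 1, 1] • P3 := (congrArg (mv [5, 1, 4, 2, 5, 7, 4, 1, 4, 0, 4, 3, 1, 3, 1, 2]) c0).trans f1
  have b0 : mv [2, 2, 1, 3, 1, 2, 2, 5, 0, 4, 1, 5, 6, 5, 2, 2, 1, 4, 2, 1, 1] (T [2, 4, 1, 4, 8, 0, 8, 0, 8, 5, 3, 4, 0, 3, 0, 2, 0, 4, 4] • P1) = T [3, 4, 0, 8, 8, 2, 5, 0, 8, 2, 2] • P0 := bwd (zero_step [3, 4, 0, 8, 8, 2, 5, 0, 8, 2, 2] : gz • T [3, 4, 0, 8, 8, 2, 5, 0, 8, 2, 2] • P0 = T [] • P1) (by decide +kernel)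
  have d0 : T [3, 4, 0, 8, 8, 2, 5, 0, 8, 2, 2] • P0 = mv [2, 2, 1, 3, 1, 2, 2, 5, 0, 4, 1, 5, 6, 5, 2, 2, 1, 4, 2, 1, 1] (T [2, 4, 1, 4, 8, 0, 8, 0, 8, 5, 3, 4, 0, 3, 0, 2, 0, 4, 4] • P1) := b0.symm
  have q2 : mv [7, 3, 1, 1] (T [5, 2, 5, 1, 5, 3, 1, 1] • P3) = T [2, 4, 1, 4, 8, 0, 8, 0, 8, 5, 3, 4, 0, 3, 0, 2, 0, 4, 4] • P1 := (mv_inj _ (((congrArg (fun p => mv [2, 2, 1, 3, 1, 2, 2, 5, 0, 4, 1, 5, 6, 5, 2, 2, 1, 4, 2, 1, 1] (mv [7, 3, 1, 1] (p))) c1).symm.trans q0).trans d0))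
  have c : gz • T [8, 3, 1, 4, 8, 1, 8, 0, 4, 2, 5, 0, 2, 5, 2] • P3 = T [2, 4, 1, 4, 8, 0, 8, 0, 8, 5, 3, 4, 0, 3, 0, 2, 0, 4, 4] • P1 := by
    rw [T_congr (show sameWord [8, 3, 1, 4, 8, 1, 8, 0, 4, 2, 5, 0, 2, 5, 2] ([7, 3, 1, 1] ++ [5, 2, 5, 1, 5, 3, 1, 1]) = true by decide +kernel), T_append, mul_smul]
    exact q2
  exact c

theorem s19 : T [4, 1, 8, 3, 1, 8, 5, 1, 8, 4, 3, 5, 1, 3, 3, 4, 0, 3, 4, 0] • P3 = P3 := by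
  have c : gz • T [2, 4, 1, 4, 8, 0, 8, 0, 8, 5, 3, 4, 0, 3, 0, 2, 0, 4, 4] • P1 = T [0, 0, 8, 3, 1, 4, 8, 1, 8, 0, 4, 2, 5, 0, 2, 5, 2] • P3 := by
    rw [T_congr (show sameWord [2, 4, 1, 4, 8, 0, 8, 0, 8, 5, 3, 4, 0, 3, 0, 2, 0, 4, 4] [2, 4, 1, 4, 8, 0, 8, 0, 8, 5, 3, 4, 0, 3, 0, 2, 0, 4, 4] = true by decide +kernel)]
    exact edge_symm e18 (by decide +kernel)
  exact fix_of_eq (c.symm.trans (step (gens := S1) fix1 e14 (h := [2, 4, 1, 4, 8, 0, 8, 0, 8, 5, 3, 4, 0, 3, 0, 2, 0, 4, 4]) (g := [1, 3, 5, 5, 3, 1, 5, 2]) (kw := [7, 1, 5, 6, 5, 5, 5, 2]) (sl := [(5, true), (6, true), (1, true), (2, true), (5, true), (2, false), (5, false), (5, false), (7, false), (4, false)]) (by decide +kernel) (by decide +kernel) (by decide +kernel) (by decide +kernel))) (by decide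 +kernel)

def S3_3 : List (List ℕ) := [[0, 5, 0, 4, 2, 4, 1, 4, 3], [0, 2, 2, 5, 0, 3, 3, 5, 0], [4, 1, 8, 3, 1, 8, 5, 1, 8, 4, 3, 5, 1, 3, 3, 4, 0, 3, 4, 0]]

theorem fix3_3 : Fix S3_3 P3 := by
  intro w hw
  simp only [S3_3, List.mem_cons, List.not_mem_nil, or_false] at hw
  rcases hw with rfl | rfl | rfl
  exacts [s16, s17, s19]

theorem e20 : gz • T [1, 4, 0, 8, 5, 2, 1, 5, 3, 1, 4, 2, 0, 2, 2, 0] • P3 = T [2, 5, 5, 0, 8, 3, 3, 1, 5, 3, 0, 2, 4, 1] • P3 := by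
  have q0 : mv [1, 5, 7, 0, 5, 3, 0, 5, 7, 1, 5, 0, 4, 3, 3, 5, 3, 1, 3, 3] (mv [5, 7, 1, 5, 1, 2, 5, 7] (mv [1, 6, 3, 5, 1, 2, 5, 7, 2, 5, 3, 1, 5, 0, 3, 0, 2, 0, 3] (T [] • P3))) = T [] • P3 := seq3 (seq_rot seg1_one 1) _
  have b0 : mv [1, 5, 7, 0, 5, 3, 0, 5, 7, 1, 5, 0, 4, 3, 3, 5, 3, 1, 3, 3] (T [2, 5, 2, 8, 0, 8, 0, 8, 2, 5, 0, 5, 0, 3, 5] • P1) = T [] • P3 := bwd (step (gens := S3_3) fix3_3 e15 (h := []) (g := [5, 3, 8, 2, 1, 8, 1, 8, 1, 5, 3, 4, 0, 5, 3, 3, 4, 4]) (kw := []) (sl := []) (by decide +kernel) (by decide +kernel) (by decide +kernel) (by decide +kernel)) (by decide +kernel)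
  have d0 : T [] • P3 = mv [1, 5, 7, 0, 5, 3, 0, 5, 7, 1, 5, 0, 4, 3, 3, 5, 3, 1, 3, 3] (T [2, 5, 2, 8, 0, 8, 0, 8, 2, 5, 0, 5, 0, 3, 5] • P1) := b0.symm
  have b1 : mv [5, 7, 1, 5, 1, 2, 5, 7] (T [2, 5, 5, 0, 8, 3, 3, 1, 5, 3, 0, 2, 4, 1] • P3) = T [2, 5, 2, 8, 0, 8, 0, 8, 2, 5, 0, 5, 0, 3, 5] • P1 := bwd (step (gens := S1) fix1 e14 (h := [2, 5, 2, 8, 0, 8, 0, 8, 2, 5, 0, 5, 0, 3, 5]) (g := [3, 0, 4, 2, 5, 1, 4, 1, 5, 2]) (kw := [5, 0, 1, 6, 1, 7, 0]) (sl := [(5, true), (6, true), (1, true), (2, true), (5, true), (0, false), (0, false), (5, false), (6, false), (5, false), (7, false)]) (by decide +kernel) (by decide +kernel) (by decide +kernel) (by decide +kernel)) (by decide +kernel)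
  have d1 : T [] • P3 = mv [1, 5, 7, 0, 5, 3, 0, 5, 7, 1, 5, 0, 4, 3, 3, 5, 3, 1, 3, 3] (mv [5, 7, 1, 5, 1, 2, 5, 7] (T [2, 5, 5, 0, 8, 3, 3, 1, 5, 3, 0, 2, 4, 1] • P3)) := d0.trans (congrArg (fun p => mv [1, 5, 7, 0, 5, 3, 0, 5, 7, 1, 5, 0, 4, 3, 3, 5, 3, 1, 3, 3] (p)) b1.symm)
  have q2 : mv [1, 6, 3, 5, 1, 2, 5, 7, 2, 5, 3, 1, 5, 0, 3, 0, 2, 0, 3] (T [] • P3) = T [2, 5, 5, 0, 8, 3, 3, 1, 5, 3, 0, 2, 4, 1] • P3 := (mv_inj _ (mv_inj _ (q0.trans d1)))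
  have c : gz • T [1, 4, 0, 8, 5, 2, 1, 5, 3, 1, 4, 2, 0, 2, 2, 0] • P3 = T [2, 5, 5, 0, 8, 3, 3, 1, 5, 3, 0, 2, 4, 1] • P3 := by
    rw [T_congr (show sameWord [1, 4, 0, 8, 5, 2, 1, 5, 3, 1, 4, 2, 0, 2, 2, 0] ([1, 6, 3, 5, 1, 2, 5, 7, 2, 5, 3, 1, 5, 0, 3, 0, 2, 0, 3] ++ []) = true by decide +kernel), T_append, mul_smul]
    exact q2
  exact c

theorem e21 : gz • T [2, 2, 0, 8, 3, 1, 5, 3, 0, 2, 4, 1, 2] • P3 = T [4, 0, 8, 3, 5, 1, 3, 4, 3, 5, 5, 1, 3] • P3 := by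
  have q0 : mv [1, 6, 3, 5, 1, 2, 5, 7, 2, 5, 3, 1, 5, 0, 3, 0, 2, 0, 3] (mv [1, 5, 7, 0, 5, 3, 0, 5, 7, 1, 5, 0, 4, 3, 3, 5, 3, 1, 3, 3] (mv [5, 7, 1, 5, 1, 2, 5, 7] (T [] • P3))) = T [] • P3 := seq3 (seq_rot seg1_one 0) _
  have b0 : mv [1, 6, 3, 5, 1, 2, 5, 7, 2, 5, 3, 1, 5, 0, 3, 0, 2, 0, 3] (T [5, 0, 3, 8, 2, 0, 8, 1, 8, 0, 3, 0, 2, 5, 1, 2, 2, 5, 1, 4] • P1) = T [] • P3 := bwd (step (gens := S3_3) fix3_3 e15 (h := []) (g := [5, 3, 8, 2, 1, 8, 1, 8, 1, 5, 3, 4, 0, 5, 3, 3, 4, 4]) (kw := []) (sl := []) (by decide +kernel) (by decide +kernel) (by decide +kernel) (by decide +kernel)) (by decide +kernel)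
  have d0 : T [] • P3 = mv [1, 6, 3, 5, 1, 2, 5, 7, 2, 5, 3, 1, 5, 0, 3, 0, 2, 0, 3] (T [5, 0, 3, 8, 2, 0, 8, 1, 8, 0, 3, 0, 2, 5, 1, 2, 2, 5, 1, 4] • P1) := b0.symm
  have b1 : mv [1, 5, 7, 0, 5, 3, 0, 5, 7, 1, 5, 0, 4, 3, 3, 5, 3, 1, 3, 3] (T [4, 0, 8, 3, 5, 1, 3, 4, 3, 5, 5, 1, 3] • P3) = T [5, 0, 3, 8, 2, 0, 8, 1, 8, 0, 3, 0, 2, 5, 1, 2, 2, 5, 1, 4] • P1 := bwd (step (gens := S1) fix1 e14 (h := [5, 0, 3, 8, 2, 0, 8, 1, 8, 0, 3, 0, 2, 5, 1, 2, 2, 5, 1, 4]) (g := [1, 5, 1, 4, 2, 5, 3, 0]) (kw := [3, 7, 5, 2, 3, 7]) (sl := [(5, true), (6, true), (1, true), (2, true), (5, true), (7, false), (3, false), (4, false), (5, false)]) (by decide +kernel) (by decide +kernel) (by decide +kernel) (by decide +kernel)) (by decide +kernel)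
  have d1 : T [] • P3 = mv [1, 6, 3, 5, 1, 2, 5, 7, 2, 5, 3, 1, 5, 0, 3, 0, 2, 0, 3] (mv [1, 5, 7, 0, 5, 3, 0, 5, 7, 1, 5, 0, 4, 3, 3, 5, 3, 1, 3, 3] (T [4, 0, 8, 3, 5, 1, 3, 4, 3, 5, 5, 1, 3] • P3)) := d0.trans (congrArg (fun p => mv [1, 6, 3, 5, 1, 2, 5, 7, 2, 5, 3, 1, 5, 0, 3, 0, 2, 0, 3] (p)) b1.symm)
  have q2 : mv [5, 7, 1, 5, 1, 2, 5, 7] (T [] • P3) = T [4, 0, 8, 3, 5, 1, 3, 4, 3, 5, 5, 1, 3] • P3 := (mv_inj _ (mv_inj _ (q0.trans d1)))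
  have c : gz • T [2, 2, 0, 8, 3, 1, 5, 3, 0, 2, 4, 1, 2] • P3 = T [4, 0, 8, 3, 5, 1, 3, 4, 3, 5, 5, 1, 3] • P3 := by
    rw [T_congr (show sameWord [2, 2, 0, 8, 3, 1, 5, 3, 0, 2, 4, 1, 2] ([5, 7, 1, 5, 1, 2, 5, 7] ++ []) = true by decide +kernel), T_append, mul_smul]
    exact q2
  exact c

theorem e22 : gz • T [4, 0, 8, 3, 5, 1, 3, 4, 3, 5, 5, 1, 3] • P3 = T [0, 2, 0, 8, 5, 5, 3, 1, 4, 3, 3, 0, 3, 4, 0] • P3 := by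
  rw [T_congr (show sameWord [4, 0, 8, 3, 5, 1, 3, 4, 3, 5, 5, 1, 3] [4, 0, 8, 3, 5, 1, 3, 4, 3, 5, 5, 1, 3] = true by decide +kernel)]
  exact edge_symm e21 (by decide +kernel)

theorem e23 : gz • T [4, 8, 0, 5, 3, 8, 1, 8, 0, 8, 4, 3, 3, 4, 0, 4, 2, 4] • P2 = T [8, 3, 1, 4, 8, 1, 8, 3, 3, 4, 0, 2, 5, 2, 4, 2, 0, 0] • P3 := by
  have q0 : mv [5, 1, 4, 2, 5, 7, 4, 1, 4, 0, 4, 3, 1, 3, 1, 2] (mv [2, 6] (mv [2, 2, 1, 3, 1, 2, 2, 5, 0, 4, 1, 5, 6, 5, 2, 2, 1, 4, 2, 1, 1] (mv [7, 3, 1, 1] (T [3, 5, 8, 1, 8, 5, 0, 8, 3, 0, 0, 5, 0, 3, 3, 0, 5, 3, 0] • P2)))) = T [3, 5, 8, 1, 8, 5, 0, 8, 3, 0, 0, 5, 0, 3, 3, 0, 5, 3, 0] • P2 := seq4 (seq_rot seg4_one 3) _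
  have f0 : mv [7, 3, 1, 1] (T [3, 5, 8, 1, 8, 5, 0, 8, 3, 0, 0, 5, 0, 3, 3, 0, 5, 3, 0] • P2) = T [4, 0, 5, 3, 3, 4, 1, 5, 2, 2] • P2 := fwd (step (gens := S2_3) fix2_3 e8 (h := [8, 3, 1, 3, 8, 0, 8, 0, 8, 3, 0, 4, 1, 3, 1, 4, 3, 0, 4, 2]) (g := [4, 0, 5, 3, 3, 4, 1, 5, 2, 2]) (kw := [6, 7, 5, 7, 0, 1, 0]) (sl := [(1, true), (2, false), (1, false), (2, false), (0, false)]) (by decide +kernel) (by decide +kernel) (by decide +kernel) (by decide +kernel)) (by decide +kernel)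
  have c0 := f0
  have b0 : mv [5, 1, 4, 2, 5, 7, 4, 1, 4, 0, 4, 3, 1, 3, 1, 2] (T [2, 4, 8, 0, 8, 5, 1, 8, 1, 3, 1, 2, 1, 4, 2, 2] • P1) = T [3, 5, 8, 1, 8, 5, 0, 8, 3, 0, 0, 5, 0, 3, 3, 0, 5, 3, 0] • P2 := bwd (step (gens := S2_3) fix2_3 e4 (h := [3, 5, 8, 1, 8, 5, 0, 8, 3, 0, 0, 5, 0, 3, 3, 0, 5, 3, 0]) (g := [8, 0, 3, 0, 8, 1, 3, 5, 1, 2, 0, 2, 2, 0]) (kw := [6, 7, 5, 5, 2, 5, 6, 7, 1, 5]) (sl := [(1, false)]) (by decide +kernel) (by decide +kernel) (by decide +kernel) (by decide +kernel)) (by decide +kernel)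
  have d0 : T [3, 5, 8, 1, 8, 5, 0, 8, 3, 0, 0, 5, 0, 3, 3, 0, 5, 3, 0] • P2 = mv [5, 1, 4, 2, 5, 7, 4, 1, 4, 0, 4, 3, 1, 3, 1, 2] (T [2, 4, 8, 0, 8, 5, 1, 8, 1, 3, 1, 2, 1, 4, 2, 2] • P1) := b0.symm
  have b1 : mv [2, 6] (T [8, 3, 1, 4, 8, 1, 8, 3, 3, 4, 0, 2, 5, 2, 4, 2, 0, 0] • P3) = T [2, 4, 8, 0, 8, 5, 1, 8, 1, 3, 1, 2, 1, 4, 2, 2] • P1 := bwd (step (gens := S1) fix1 e14 (h := [2, 4, 8, 0, 8, 5, 1, 8, 1, 3, 1, 2, 1, 4, 2, 2]) (g := [5, 3, 4, 0, 3, 3, 0, 4, 3]) (kw := [6, 3, 5, 6, 5, 0, 7, 6, 1]) (sl := [(5, true), (6, true), (1, true), (2, true), (5, true), (3, false), (0, false), (1, false), (5, false), (3, false)]) (by decide +kernel) (by decide +kernel) (by decide +kernel) (by decide +kernel)) (by decide +kernel)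
  have d1 : T [3, 5, 8, 1, 8, 5, 0, 8, 3, 0, 0, 5, 0, 3, 3, 0, 5, 3, 0] • P2 = mv [5, 1, 4, 2, 5, 7, 4, 1, 4, 0, 4, 3, 1, 3, 1, 2] (mv [2, 6] (T [8, 3, 1, 4, 8, 1, 8, 3, 3, 4, 0, 2, 5, 2, 4, 2, 0, 0] • P3)) := d0.trans (congrArg (fun p => mv [5, 1, 4, 2, 5, 7, 4, 1, 4, 0, 4, 3, 1, 3, 1, 2] (p)) b1.symm)
  have q2 : mv [2, 2, 1, 3, 1, 2, 2, 5, 0, 4, 1, 5, 6, 5, 2, 2, 1, 4, 2, 1, 1] (T [4, 0, 5, 3, 3, 4, 1, 5, 2, 2] • P2) = T [8, 3, 1, 4, 8, 1, 8, 3, 3, 4, 0, 2, 5, 2, 4, 2, 0, 0] • P3 := (mv_inj _ (mv_inj _ (((congrArg (fun p => mv [5, 1, 4, 2, 5, 7, 4, 1, 4, 0, 4, 3, 1, 3, 1, 2] (mv [2, 6] (mv [2, 2, 1, 3, 1, 2, 2, 5, 0, 4, 1, 5, 6, 5, 2, 2, 1, 4, 2, 1, 1] (p)))) c0).symm.trans q0).trans d1)))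
  have c : gz • T [4, 8, 0, 5, 3, 8, 1, 8, 0, 8, 4, 3, 3, 4, 0, 4, 2, 4] • P2 = T [8, 3, 1, 4, 8, 1, 8, 3, 3, 4, 0, 2, 5, 2, 4, 2, 0, 0] • P3 := by
    rw [T_congr (show sameWord [4, 8, 0, 5, 3, 8, 1, 8, 0, 8, 4, 3, 3, 4, 0, 4, 2, 4] ([2, 2, 1, 3, 1, 2, 2, 5, 0, 4, 1, 5, 6, 5, 2, 2, 1, 4, 2, 1, 1] ++ [4, 0, 5, 3, 3, 4, 1, 5, 2, 2]) = true by decide +kernel), T_append, mul_smul]
    exact q2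
  exact c

theorem e24 : gz • T [8, 3, 1, 4, 8, 1, 8, 3, 3, 4, 0, 2, 5, 2, 4, 2, 0, 0] • P3 = T [4, 2, 5, 0, 8, 0, 8, 0, 8, 4, 1, 2, 0, 4, 0, 2, 4, 2] • P2 := by
  rw [T_congr (show sameWord [8, 3, 1, 4, 8, 1, 8, 3, 3, 4, 0, 2, 5, 2, 4, 2, 0, 0] [8, 3, 1, 4, 8, 1, 8, 3, 3, 4, 0, 2, 5, 2, 4, 2, 0, 0] = true by decide +kernel)]
  exact edge_symm e23 (by decide +kernel)

theorem e25 : gz • T [8, 2, 4, 1, 8, 2, 1, 8, 1, 1, 5, 3, 4, 3, 1, 4, 3, 3] • P3 = T [5, 3, 8, 0, 8, 4, 0, 8, 5, 2, 0, 2, 4, 3, 3] • P3 := by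
  have q0 : mv [7, 0, 4, 2, 4, 1, 5, 7, 0, 3, 1, 4, 1, 3, 3, 1, 2, 1] (mv [2, 0, 3, 1, 3, 3, 1, 3, 4, 2, 2, 4, 2, 6, 4, 3, 3, 6, 4, 2, 4] (mv [0, 3, 3, 1, 4, 2, 5, 2, 1, 5, 5, 6, 4, 0, 4, 1, 4, 3, 7, 1, 1] (mv [5, 3, 5, 7, 2, 2, 5, 7, 3, 5, 3, 3, 5, 2, 0, 2, 2, 0, 2, 1, 3, 1, 1] (T [4, 8, 3, 0, 3, 0, 8, 0, 8, 2, 0, 2, 4, 2, 2, 1, 2, 4, 2] • P1)))) = T [4, 8, 3, 0, 3, 0, 8, 0, 8, 2, 0, 2, 4, 2, 2, 1, 2, 4, 2] • P1 := seq4 (seq_rot seg3_one 3) _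
  have f0 : mv [5, 3, 5, 7, 2, 2, 5, 7, 3, 5, 3, 3, 5, 2, 0, 2, 2, 0, 2, 1, 3, 1, 1] (T [4, 8, 3, 0, 3, 0, 8, 0, 8, 2, 0, 2, 4, 2, 2, 1, 2, 4, 2] • P1) = T [5, 0, 3, 0, 4, 4, 2, 4, 2, 0] • P3 := fwd (step (gens := S1) fix1 e14 (h := [5, 3, 0, 8, 4, 0, 8, 1, 8, 3, 4, 4, 0, 3, 3, 0, 3, 4, 1]) (g := [5, 0, 3, 0, 4, 4, 2, 4, 2, 0]) (kw := [6, 5, 0, 3, 7, 2, 1]) (sl := [(5, true), (6, true), (1, true), (2, true), (5, true), (1, false), (1, false), (1, false), (2, false), (6, false)]) (by decide +kernel) (by decide +kernel) (by decide +kernel) (by decide +kernel)) (by decide +kernel)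
  have c0 := f0
  have f1 : mv [0, 3, 3, 1, 4, 2, 5, 2, 1, 5, 5, 6, 4, 0, 4, 1, 4, 3, 7, 1, 1] (T [5, 0, 3, 0, 4, 4, 2, 4, 2, 0] • P3) = T [0, 3, 0, 8, 2, 4, 0, 5, 3, 0, 0, 5, 0] • P3 := fwd (step (gens := S3_3) fix3_3 e21 (h := [1, 8, 0, 8, 3, 0, 8, 2, 0, 8, 0, 2, 5, 3, 3, 5, 2, 0, 0, 0]) (g := [0, 3, 0, 8, 2, 4, 0, 5, 3, 0, 0, 5, 0]) (kw := [5, 6, 2, 5, 7, 5, 6, 5, 3]) (sl := [(1, true), (0, false), (0, false), (0, false), (2, false), (0, false), (2, false), (2, false), (2, false), (1, false)]) (by decide +kernel) (by decide +kernel) (by decide +kernel) (by decide +kernel)) (by decide +kernel)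
  have c1 : mv [0, 3, 3, 1, 4, 2, 5, 2, 1, 5, 5, 6, 4, 0, 4, 1, 4, 3, 7, 1, 1] (mv [5, 3, 5, 7, 2, 2, 5, 7, 3, 5, 3, 3, 5, 2, 0, 2, 2, 0, 2, 1, 3, 1, 1] (T [4, 8, 3, 0, 3, 0, 8, 0, 8, 2, 0, 2, 4, 2, 2, 1, 2, 4, 2] • P1)) = T [0, 3, 0, 8, 2, 4, 0, 5, 3, 0, 0, 5, 0] • P3 := (congrArg (mv [0, 3, 3, 1, 4, 2, 5, 2, 1, 5, 5, 6, 4, 0, 4, 1, 4, 3, 7, 1, 1]) c0).trans f1
  have b0 : mv [7, 0, 4, 2, 4, 1, 5, 7, 0, 3, 1, 4, 1, 3, 3, 1, 2, 1] (T [5, 3, 8, 0, 8, 4, 0, 8, 5, 2, 0, 2, 4, 3, 3] • P3) = T [4, 8, 3, 0, 3, 0, 8, 0, 8, 2, 0, 2, 4, 2, 2, 1, 2, 4, 2] • P1 := bwd (step (gens := S1) fix1 e14 (h := [4, 8, 3, 0, 3, 0, 8, 0, 8, 2, 0, 2, 4, 2, 2, 1, 2, 4, 2]) (g := []) (kw := []) (sl := [(5, true), (6, true), (1, true), (2, true), (5, true), (5, false), (2, false), (1,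 false), (6, false), (5, false)]) (by decide +kernel) (by decide +kernel) (by decide +kernel) (by decide +kernel)) (by decide +kernel)
  have d0 : T [4, 8, 3, 0, 3, 0, 8, 0, 8, 2, 0, 2, 4, 2, 2, 1, 2, 4, 2] • P1 = mv [7, 0, 4, 2, 4, 1, 5, 7, 0, 3, 1, 4, 1, 3, 3, 1, 2, 1] (T [5, 3, 8, 0, 8, 4, 0, 8, 5, 2, 0, 2, 4, 3, 3] • P3) := b0.symm
  have q2 : mv [2, 0, 3, 1, 3, 3, 1, 3, 4, 2, 2, 4, 2, 6, 4, 3, 3, 6, 4, 2, 4] (T [0, 3, 0, 8, 2, 4, 0, 5, 3, 0, 0, 5, 0] • P3) = T [5, 3, 8, 0, 8, 4, 0, 8, 5, 2, 0, 2, 4, 3, 3] • P3 := (mv_inj _ (((congrArg (fun p => mv [7, 0, 4, 2, 4, 1, 5, 7, 0, 3, 1, 4, 1, 3, 3, 1, 2, 1] (mv [2, 0, 3, 1, 3, 3, 1, 3, 4, 2, 2, 4, 2, 6, 4, 3, 3, 6, 4, 2, 4] (p))) c1).symm.trans q0).trans d0))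
  have c : gz • T [8, 2, 4, 1, 8, 2, 1, 8, 1, 1, 5, 3, 4, 3, 1, 4, 3, 3] • P3 = T [5, 3, 8, 0, 8, 4, 0, 8, 5, 2, 0, 2, 4, 3, 3] • P3 := by
    rw [T_congr (show sameWord [8, 2, 4, 1, 8, 2, 1, 8, 1, 1, 5, 3, 4, 3, 1, 4, 3, 3] ([2, 0, 3, 1, 3, 3, 1, 3, 4, 2, 2, 4, 2, 6, 4, 3, 3, 6, 4, 2, 4] ++ [0, 3, 0, 8, 2, 4, 0, 5, 3, 0, 0, 5, 0]) = true by decide +kernel), T_append, mul_smul]
    exact q2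
  exact c

theorem e26 : gz • T [5, 3, 8, 0, 8, 4, 0, 8, 5, 2, 0, 2, 4, 3, 3] • P3 = T [8, 1, 3, 1, 8, 5, 0, 8, 3, 3, 1, 2, 5, 2, 2, 1, 4, 0] • P3 := by
  rw [T_congr (show sameWord [5, 3, 8, 0, 8, 4, 0, 8, 5, 2, 0, 2, 4, 3, 3] [5, 3, 8, 0, 8, 4, 0, 8, 5, 2, 0, 2, 4, 3, 3] = true by decide +kernel)]
  exact edge_symm e25 (by decide +kernel)

theorem e27 : gz • T [8, 3, 1, 4, 8, 0, 8, 2, 5, 3, 4, 3, 4, 1, 2, 0, 4] • P3 = T [0, 2, 0, 8, 3, 1, 8, 1, 2, 0, 4, 2, 2, 5, 0, 4] • P2 := by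
  have q0 : mv [7, 1, 1] (mv [1, 5, 7, 2, 1, 3, 5, 7, 2, 1, 3, 5, 3, 0, 3, 3, 0, 3] (mv [6] (mv [0, 2, 1, 2, 2, 1, 2, 2, 5, 0, 4, 2, 4, 3, 6, 4, 3, 3, 6, 4, 2, 4, 1, 1] (T [0, 3, 2, 4, 0, 3, 1, 1, 0, 0, 8] • P1)))) = T [0, 3, 2, 4, 0, 3, 1, 1, 0, 0, 8] • P1 := seq4 (seq_rot seg2_one 0) _
  have f0 : mv [0, 2, 1, 2, 2, 1, 2, 2, 5, 0, 4, 2, 4, 3, 6, 4, 3, 3, 6, 4, 2, 4, 1, 1] (T [0, 3, 2, 4, 0, 3, 1, 1, 0, 0, 8] • P1) = T [2, 4, 1, 4, 3, 4, 3, 3, 0, 2] • P3 := fwd (step (gens := S1) fix1 e14 (h := [0, 8, 3, 1, 2, 8, 0, 8, 5, 0, 3, 4, 2, 0, 2]) (g := [2, 4, 1, 4, 3, 4, 3, 3, 0, 2]) (kw := [1, 6, 7, 6, 5, 2, 3]) (sl := [(5, true), (6, true), (1, true), (2, true), (5, true), (2, false), (7, false), (0, false), (1, false), (0, false)]) (by decide +kernel) (by decide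 +kernel) (by decide +kernel) (by decide +kernel)) (by decide +kernel)
  have c0 := f0
  have b0 : mv [7, 1, 1] (T [2, 0, 8, 3, 0, 8, 5, 2, 4, 0, 4, 3, 0, 4] • P1) = T [0, 3, 2, 4, 0, 3, 1, 1, 0, 0, 8] • P1 := bwd (step (gens := S1) fix1 e1 (h := [0, 3, 2, 4, 0, 3, 1, 1, 0, 0, 8]) (g := [2, 1, 8, 1, 4, 2, 4, 1, 2, 2, 0, 2, 5]) (kw := [6, 7, 5, 5, 2, 7, 5, 0, 0]) (sl := [(0, true), (6, true), (1, false), (1, false), (2, false)]) (by decide +kernel) (by decide +kernel) (by decide +kernel) (by decide +kernel)) (by decide +kernel)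
  have d0 : T [0, 3, 2, 4, 0, 3, 1, 1, 0, 0, 8] • P1 = mv [7, 1, 1] (T [2, 0, 8, 3, 0, 8, 5, 2, 4, 0, 4, 3, 0, 4] • P1) := b0.symm
  have b1 : mv [1, 5, 7, 2, 1, 3, 5, 7, 2, 1, 3, 5, 3, 0, 3, 3, 0, 3] (T [0, 2, 0, 8, 3, 1, 8, 1, 2, 0, 4, 2, 2, 5, 0, 4] • P2) = T [2, 0, 8, 3, 0, 8, 5, 2, 4, 0, 4, 3, 0, 4] • P1 := bwd (step (gens := S1) fix1 e3 (h := [2, 0, 8, 3, 0, 8, 5, 2, 4, 0, 4, 3, 0, 4]) (g := [3, 5, 3, 3, 0, 4, 3, 5, 3, 1]) (kw := [5, 4, 3, 6, 3, 6, 7]) (sl := [(2, true), (3, true), (3, true), (3, true), (1, true), (4, false), (7, false), (1, false), (2, false)]) (by decide +kernel) (by decide +kernel) (by decide +kernel) (by decide +kernel)) (by decide +kernel)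
  have d1 : T [0, 3, 2, 4, 0, 3, 1, 1, 0, 0, 8] • P1 = mv [7, 1, 1] (mv [1, 5, 7, 2, 1, 3, 5, 7, 2, 1, 3, 5, 3, 0, 3, 3, 0, 3] (T [0, 2, 0, 8, 3, 1, 8, 1, 2, 0, 4, 2, 2, 5, 0, 4] • P2)) := d0.trans (congrArg (fun p => mv [7, 1, 1] (p)) b1.symm)
  have q2 : mv [6] (T [2, 4, 1, 4, 3, 4, 3, 3, 0, 2] • P3) = T [0, 2, 0, 8, 3, 1, 8, 1, 2, 0, 4, 2, 2, 5, 0, 4] • P2 := (mv_inj _ (mv_inj _ (((congrArg (fun p => mv [7, 1, 1] (mv [1, 5, 7, 2, 1, 3, 5, 7, 2, 1, 3, 5, 3, 0, 3, 3, 0, 3] (mv [6] (p)))) c0).symm.trans q0).trans d1)))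
  have c : gz • T [8, 3, 1, 4, 8, 0, 8, 2, 5, 3, 4, 3, 4, 1, 2, 0, 4] • P3 = T [0, 2, 0, 8, 3, 1, 8, 1, 2, 0, 4, 2, 2, 5, 0, 4] • P2 := by
    rw [T_congr (show sameWord [8, 3, 1, 4, 8, 0, 8, 2, 5, 3, 4, 3, 4, 1, 2, 0, 4] ([6] ++ [2, 4, 1, 4, 3, 4, 3, 3, 0, 2]) = true by decide +kernel), T_append, mul_smul]
    exact q2
  exact c

theorem e28 : gz • T [0, 2, 0, 8, 3, 1, 8, 1, 2, 0, 4, 2, 2, 5, 0, 4] • P2 = T [8, 3, 1, 4, 8, 0, 8, 4, 4, 3, 1, 2, 1, 4] • P3 := by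
  rw [T_congr (show sameWord [0, 2, 0, 8, 3, 1, 8, 1, 2, 0, 4, 2, 2, 5, 0, 4] [0, 2, 0, 8, 3, 1, 8, 1, 2, 0, 4, 2, 2, 5, 0, 4] = true by decide +kernel)]
  exact edge_symm e27 (by decide +kernel)

theorem e29 : gz • T [0, 8, 3, 1, 8, 5, 5, 3, 4, 0, 2, 4, 0] • P3 = T [8, 3, 1, 4, 8, 0, 8, 3, 4, 1, 3, 0, 3, 4, 1, 5, 2, 0] • P2 := by
  have q0 : mv [0, 2, 1, 2, 2, 1, 2, 2, 5, 0, 4, 2, 4, 3, 6, 4, 3, 3, 6, 4, 2, 4, 1, 1] (mv [7, 1, 1] (mv [1, 5, 7, 2, 1, 3, 5, 7, 2, 1, 3, 5, 3, 0, 3, 3, 0, 3] (mv [6] (T [3, 3, 0, 2, 2] • P1)))) = T [3, 3, 0, 2, 2] • P1 := seq4 (seq_rot seg2_one 3) _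
  have f0 : mv [6] (T [3, 3, 0, 2, 2] • P1) = T [5, 1, 3, 3, 1, 2, 5, 0, 4, 0] • P3 := fwd (step (gens := S1) fix1 e14 (h := [8, 3, 1, 4, 8, 1, 8, 3, 0, 4, 0, 5, 5, 0, 2, 0, 4]) (g := [5, 1, 3, 3, 1, 2, 5, 0, 4, 0]) (kw := [5, 7, 6, 4, 5, 0, 0]) (sl := [(5, true), (6, true), (1, true), (2, true), (5, true), (3, false), (7, false), (3, false), (3, false), (0, false)]) (by decide +kernel) (by decide +kernel) (by decide +kernel) (by decide +kernel)) (by decide +kernel)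
  have c0 := f0
  have b0 : mv [0, 2, 1, 2, 2, 1, 2, 2, 5, 0, 4, 2, 4, 3, 6, 4, 3, 3, 6, 4, 2, 4, 1, 1] (T [2, 2, 1, 8, 3, 0, 8, 5, 2, 1, 2, 2, 4, 0, 2, 4, 0] • P1) = T [3, 3, 0, 2, 2] • P1 := bwd (step (gens := S1) fix1 e2 (h := [3, 3, 0, 2, 2]) (g := [1, 3, 3, 0, 2, 2, 0]) (kw := []) (sl := [(7, true), (6, true), (5, true), (5, false), (6, false), (7, false)]) (by decide +kernel) (by decide +kernel) (by decide +kernel) (by decide +kernel)) (by decide +kernel)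
  have d0 : T [3, 3, 0, 2, 2] • P1 = mv [0, 2, 1, 2, 2, 1, 2, 2, 5, 0, 4, 2, 4, 3, 6, 4, 3, 3, 6, 4, 2, 4, 1, 1] (T [2, 2, 1, 8, 3, 0, 8, 5, 2, 1, 2, 2, 4, 0, 2, 4, 0] • P1) := b0.symm
  have b1 : mv [7, 1, 1] (T [8, 3, 1, 4, 8, 0, 8, 3, 4, 1, 3, 0, 3, 4, 1, 5, 2, 0] • P2) = T [2, 2, 1, 8, 3, 0, 8, 5, 2, 1, 2, 2, 4, 0, 2, 4, 0] • P1 := bwd (step (gens := S1) fix1 e3 (h := [2, 2, 1, 8, 3, 0, 8, 5, 2, 1, 2, 2, 4, 0, 2, 4, 0]) (g := [1, 4, 2, 4, 1, 3, 1, 4, 1]) (kw := [3, 5, 5, 5, 3, 6, 3]) (sl := [(2, true), (3, true), (3, true), (3, true), (1, true), (3, false), (2, false), (5, false), (6, false)]) (by decide +kernel) (by decide +kernel) (by decide +kernel) (by decide +kernel)) (by decide +kernel)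
  have d1 : T [3, 3, 0, 2, 2] • P1 = mv [0, 2, 1, 2, 2, 1, 2, 2, 5, 0, 4, 2, 4, 3, 6, 4, 3, 3, 6, 4, 2, 4, 1, 1] (mv [7, 1, 1] (T [8, 3, 1, 4, 8, 0, 8, 3, 4, 1, 3, 0, 3, 4, 1, 5, 2, 0] • P2)) := d0.trans (congrArg (fun p => mv [0, 2, 1, 2, 2, 1, 2, 2, 5, 0, 4, 2, 4, 3, 6, 4, 3, 3, 6, 4, 2, 4, 1, 1] (p)) b1.symm)
  have q2 : mv [1, 5, 7, 2, 1, 3, 5, 7, 2, 1, 3, 5, 3, 0, 3, 3, 0, 3] (T [5, 1, 3, 3, 1, 2, 5, 0, 4, 0] • P3) = T [8, 3, 1, 4, 8, 0, 8, 3, 4, 1, 3, 0, 3, 4, 1, 5, 2, 0] • P2 := (mv_inj _ (mv_inj _ (((congrArg (fun p => mv [0, 2, 1, 2, 2, 1, 2, 2, 5, 0, 4, 2, 4, 3, 6, 4, 3, 3, 6, 4, 2, 4, 1, 1] (mv [7, 1, 1] (mv [1, 5, 7, 2, 1, 3, 5, 7, 2, 1, 3, 5, 3, 0, 3, 3, 0, 3] (p)))) c0).symm.trans q0).trans d1)))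
  have c : gz • T [0, 8, 3, 1, 8, 5, 5, 3, 4, 0, 2, 4, 0] • P3 = T [8, 3, 1, 4, 8, 0, 8, 3, 4, 1, 3, 0, 3, 4, 1, 5, 2, 0] • P2 := by
    rw [T_congr (show sameWord [0, 8, 3, 1, 8, 5, 5, 3, 4, 0, 2, 4, 0] ([1, 5, 7, 2, 1, 3, 5, 7, 2, 1, 3, 5, 3, 0, 3, 3, 0, 3] ++ [5, 1, 3, 3, 1, 2, 5, 0, 4, 0]) = true by decide +kernel), T_append, mul_smul]
    exact q2
  exact c

theorem e30 : gz • T [8, 3, 1, 4, 8, 0, 8, 3, 4, 1, 3, 0, 3, 4, 1, 5, 2, 0] • P2 = T [0, 8, 3, 1, 8, 0, 2, 4, 2, 0, 4, 2, 4, 3, 0] • P3 := by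
  rw [T_congr (show sameWord [8, 3, 1, 4, 8, 0, 8, 3, 4, 1, 3, 0, 3, 4, 1, 5, 2, 0] [8, 3, 1, 4, 8, 0, 8, 3, 4, 1, 3, 0, 3, 4, 1, 5, 2, 0] = true by decide +kernel)]
  exact edge_symm e29 (by decide +kernel)

theorem e31 : gz • T [4, 0, 4, 8, 4, 0, 8, 1, 8, 4, 0, 4, 2, 0, 4, 4, 3, 0] • P2 = T [4, 1, 8, 3, 5, 0, 8, 3, 1, 5, 3, 3, 1, 3, 5, 0, 4] • P3 := by
  have q0 : mv [1, 6, 3, 5, 1, 2, 5, 7, 2, 5, 3, 1, 5, 0, 3, 0, 2, 0, 3] (mv [1, 5, 7, 0, 5, 3, 0, 5, 7, 1, 5, 0, 4, 3, 3, 5, 3, 1, 3, 3] (mv [5, 7, 1, 5, 1, 2, 5, 7] (T [0, 2, 0, 8, 3, 1, 8, 1, 2, 0, 4, 2, 2, 5, 0, 4] • P2))) = T [0, 2, 0, 8, 3, 1, 8, 1, 2, 0, 4, 2, 2, 5, 0, 4] • P2 := seq3 (seq_rot seg1_one 0) _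
  have b0 : mv [1, 6, 3, 5, 1, 2, 5, 7, 2, 5, 3, 1, 5, 0, 3, 0, 2, 0, 3] (T [1, 8, 3, 1, 2, 8, 0, 8, 1, 1, 4, 3, 3, 5, 2, 4, 3, 1] • P3) = T [0, 2, 0, 8, 3, 1, 8, 1, 2, 0, 4, 2, 2, 5, 0, 4] • P2 := bwd (step (gens := S2_3) fix2_3 e28 (h := [0, 2, 0, 8, 3, 1, 8, 1, 2, 0, 4, 2, 2, 5, 0, 4]) (g := [8, 3, 1, 4, 8, 0, 8, 4, 4, 3, 1, 2, 1, 4]) (kw := []) (sl := [(0, true), (2, true), (1, true), (2, true), (1, true), (1, true), (0, true), (2, true), (0, true), (1, true), (1, false), (0, false), (2, false), (0, false), (1, false), (1, false), (2, false), (1, false), (2, false), (0, false)]) (by decide +kernel) (by decide +kernel) (by decide +kernel) (by decide +kernel)) (by decide +kernel)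
  have d0 : T [0, 2, 0, 8, 3, 1, 8, 1, 2, 0, 4, 2, 2, 5, 0, 4] • P2 = mv [1, 6, 3, 5, 1, 2, 5, 7, 2, 5, 3, 1, 5, 0, 3, 0, 2, 0, 3] (T [1, 8, 3, 1, 2, 8, 0, 8, 1, 1, 4, 3, 3, 5, 2, 4, 3, 1] • P3) := b0.symm
  have b1 : mv [1, 5, 7, 0, 5, 3, 0, 5, 7, 1, 5, 0, 4, 3, 3, 5, 3, 1, 3, 3] (T [4, 1, 8, 3, 5, 0, 8, 3, 1, 5, 3, 3, 1, 3, 5, 0, 4] • P3) = T [1, 8, 3, 1, 2, 8, 0, 8, 1, 1, 4, 3, 3, 5, 2, 4, 3, 1] • P3 := bwd (step (gens := S3_3) fix3_3 e22 (h := [1, 8, 3, 1, 2, 8, 0, 8, 1, 1, 4, 3, 3, 5, 2, 4, 3, 1]) (g := [2, 2, 0, 8, 1, 5, 3, 1, 2, 0, 2, 5, 5]) (kw := [5, 5, 5, 5, 5, 2, 5, 0, 0]) (sl := [(1, true), (1, true), (0, false), (0, false), (1, false), (0, false), (2, false), (2, false), (2, false)]) (by decide +kernel) (by decide +kernel) (by decide +kernel) (by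 decide +kernel)) (by decide +kernel)
  have d1 : T [0, 2, 0, 8, 3, 1, 8, 1, 2, 0, 4, 2, 2, 5, 0, 4] • P2 = mv [1, 6, 3, 5, 1, 2, 5, 7, 2, 5, 3, 1, 5, 0, 3, 0, 2, 0, 3] (mv [1, 5, 7, 0, 5, 3, 0, 5, 7, 1, 5, 0, 4, 3, 3, 5, 3, 1, 3, 3] (T [4, 1, 8, 3, 5, 0, 8, 3, 1, 5, 3, 3, 1, 3, 5, 0, 4] • P3)) := d0.trans (congrArg (fun p => mv [1, 6, 3, 5, 1, 2, 5, 7, 2, 5, 3, 1, 5, 0, 3, 0, 2, 0, 3] (p)) b1.symm)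
  have q2 : mv [5, 7, 1, 5, 1, 2, 5, 7] (T [0, 2, 0, 8, 3, 1, 8, 1, 2, 0, 4, 2, 2, 5, 0, 4] • P2) = T [4, 1, 8, 3, 5, 0, 8, 3, 1, 5, 3, 3, 1, 3, 5, 0, 4] • P3 := (mv_inj _ (mv_inj _ (q0.trans d1)))
  have c : gz • T [4, 0, 4, 8, 4, 0, 8, 1, 8, 4, 0, 4, 2, 0, 4, 4, 3, 0] • P2 = T [4, 1, 8, 3, 5, 0, 8, 3, 1, 5, 3, 3, 1, 3, 5, 0, 4] • P3 := by
    rw [T_congr (show sameWord [4, 0, 4, 8, 4, 0, 8, 1, 8, 4, 0, 4, 2, 0, 4, 4, 3, 0] ([5, 7, 1, 5, 1, 2, 5, 7] ++ [0, 2, 0, 8, 3, 1, 8, 1, 2, 0, 4, 2, 2, 5, 0, 4]) = true by decide +kernel), T_append, mul_smul]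
    exact q2
  exact c

theorem e32 : gz • T [4, 1, 8, 3, 5, 0, 8, 3, 1, 5, 3, 3, 1, 3, 5, 0, 4] • P3 = T [3, 1, 8, 1, 4, 8, 0, 8, 4, 2, 1, 2, 5, 2, 2, 1, 2, 1] • P2 := by
  rw [T_congr (show sameWord [4, 1, 8, 3, 5, 0, 8, 3, 1, 5, 3, 3, 1, 3, 5, 0, 4] [4, 1, 8, 3, 5, 0, 8, 3, 1, 5, 3, 3, 1, 3, 5, 0, 4] = true by decide +kernel)]
  exact edge_symm e31 (by decide +kernel)

theorem e33 : gz • T [0, 8, 1, 5, 8, 0, 8, 2, 0, 8, 5, 1, 5, 3, 5, 5, 2, 5] • P2 = T [8, 3, 1, 4, 8, 1, 8, 5, 2, 5, 2, 0, 3, 0, 4, 0] • P3 := by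
  have q0 : mv [5, 1, 4, 2, 5, 7, 4, 1, 4, 0, 4, 3, 1, 3, 1, 2] (mv [2, 6] (mv [2, 2, 1, 3, 1, 2, 2, 5, 0, 4, 1, 5, 6, 5, 2, 2, 1, 4, 2, 1, 1] (mv [7, 3, 1, 1] (T [2, 8, 3, 5, 8, 8, 2, 5, 4, 5, 2, 5, 1, 3] • P1)))) = T [2, 8, 3, 5, 8, 8, 2, 5, 4, 5, 2, 5, 1, 3] • P1 := seq4 (seq_rot seg4_one 3) _
  have f0 : mv [7, 3, 1, 1] (T [2, 8, 3, 5, 8, 8, 2, 5, 4, 5, 2, 5, 1, 3] • P1) = T [2, 4, 3, 0, 2, 5, 3, 5, 0] • P2 := fwd (step (gens := S1) fix1 e3 (h := [8, 3, 0, 8, 2, 4, 0, 5, 5, 2, 4, 3, 4]) (g := [2, 4, 3, 0, 2, 5, 3, 5, 0]) (kw := [5, 1, 5, 3, 2]) (sl := [(2, true), (3, true), (3, true), (3, true), (1, true), (3, false), (5, false), (2, false), (0, false)]) (by decide +kernel) (by decide +kernel) (by decide +kernel) (by decide +kernel)) (by decide +kernel)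
  have c0 := f0
  have b0 : mv [5, 1, 4, 2, 5, 7, 4, 1, 4, 0, 4, 3, 1, 3, 1, 2] (T [8, 1, 3, 4, 1, 8, 0, 8, 0, 5, 2, 1, 5, 2, 2, 1] • P1) = T [2, 8, 3, 5, 8, 8, 2, 5, 4, 5, 2, 5, 1, 3] • P1 := bwd (step (gens := S1) fix1 e1 (h := [2, 8, 3, 5, 8, 8, 2, 5, 4, 5, 2, 5, 1, 3]) (g := [2, 4, 0, 8, 1, 2, 1, 5, 2, 2, 1, 5, 0]) (kw := [3, 6, 5, 0, 3, 3]) (sl := [(0, true), (6, true), (7, false), (5, false)]) (by decide +kernel) (by decide +kernel) (by decide +kernel) (by decide +kernel)) (by decide +kernel)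
  have d0 : T [2, 8, 3, 5, 8, 8, 2, 5, 4, 5, 2, 5, 1, 3] • P1 = mv [5, 1, 4, 2, 5, 7, 4, 1, 4, 0, 4, 3, 1, 3, 1, 2] (T [8, 1, 3, 4, 1, 8, 0, 8, 0, 5, 2, 1, 5, 2, 2, 1] • P1) := b0.symm
  have b1 : mv [2, 6] (T [8, 3, 1, 4, 8, 1, 8, 5, 2, 5, 2, 0, 3, 0, 4, 0] • P3) = T [8, 1, 3, 4, 1, 8, 0, 8, 0, 5, 2, 1, 5, 2, 2, 1] • P1 := bwd (step (gens := S1) fix1 e14 (h := [8, 1, 3, 4, 1, 8, 0, 8, 0, 5, 2, 1, 5, 2, 2, 1]) (g := [5, 2, 4, 2, 4, 0, 4, 3, 3, 0]) (kw := [7, 3, 0, 3, 5]) (sl := [(5, true), (6, true), (1, true), (2, true), (5, true), (4, false), (6, false), (7, false), (5, false), (2, false), (6, false)]) (by decide +kernel) (by decide +kernel) (by decide +kernel) (by decide +kernel)) (by decide +kernel)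
  have d1 : T [2, 8, 3, 5, 8, 8, 2, 5, 4, 5, 2, 5, 1, 3] • P1 = mv [5, 1, 4, 2, 5, 7, 4, 1, 4, 0, 4, 3, 1, 3, 1, 2] (mv [2, 6] (T [8, 3, 1, 4, 8, 1, 8, 5, 2, 5, 2, 0, 3, 0, 4, 0] • P3)) := d0.trans (congrArg (fun p => mv [5, 1, 4, 2, 5, 7, 4, 1, 4, 0, 4, 3, 1, 3, 1, 2] (p)) b1.symm)
  have q2 : mv [2, 2, 1, 3, 1, 2, 2, 5, 0, 4, 1, 5, 6, 5, 2, 2, 1, 4, 2, 1, 1] (T [2, 4, 3, 0, 2, 5, 3, 5, 0] • P2) = T [8, 3, 1, 4, 8, 1, 8, 5, 2, 5, 2, 0, 3, 0, 4, 0] • P3 := (mv_inj _ (mv_inj _ (((congrArg (fun p => mv [5, 1, 4, 2, 5, 7, 4, 1, 4, 0, 4, 3, 1, 3, 1, 2] (mv [2, 6] (mv [2, 2, 1, 3, 1, 2, 2, 5, 0, 4, 1, 5, 6, 5, 2, 2, 1, 4, 2, 1, 1] (p)))) c0).symm.trans q0).trans d1)))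
  have c : gz • T [0, 8, 1, 5, 8, 0, 8, 2, 0, 8, 5, 1, 5, 3, 5, 5, 2, 5] • P2 = T [8, 3, 1, 4, 8, 1, 8, 5, 2, 5, 2, 0, 3, 0, 4, 0] • P3 := by
    rw [T_congr (show sameWord [0, 8, 1, 5, 8, 0, 8, 2, 0, 8, 5, 1, 5, 3, 5, 5, 2, 5] ([2, 2, 1, 3, 1, 2, 2, 5, 0, 4, 1, 5, 6, 5, 2, 2, 1, 4, 2, 1, 1] ++ [2, 4, 3, 0, 2, 5, 3, 5, 0]) = true by decide +kernel), T_append, mul_smul]
    exact q2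
  exact c

theorem e34 : gz • T [8, 3, 1, 4, 8, 1, 8, 5, 2, 5, 2, 0, 3, 0, 4, 0] • P3 = T [4, 2, 5, 0, 8, 0, 8, 0, 8, 4, 3, 5, 1, 3, 1, 2, 0, 4] • P2 := by
  rw [T_congr (show sameWord [8, 3, 1, 4, 8, 1, 8, 5, 2, 5, 2, 0, 3, 0, 4, 0] [8, 3, 1, 4, 8, 1, 8, 5, 2, 5, 2, 0, 3, 0, 4, 0] = true by decide +kernel)]
  exact edge_symm e33 (by decide +kernel)

theorem e35 : gz • T [2, 2, 4, 1, 8, 3, 0, 8, 2, 0, 2, 2, 5, 3, 5, 2, 0, 2] • P3 = T [1, 4, 8, 1, 8, 4, 1, 8, 0, 3, 4, 1, 4, 4, 3, 5, 3, 4, 0] • P2 := by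
  have q0 : mv [5, 3, 5, 7, 2, 2, 5, 7, 3, 5, 3, 3, 5, 2, 0, 2, 2, 0, 2, 1, 3, 1, 1] (mv [7, 0, 4, 2, 4, 1, 5, 7, 0, 3, 1, 4, 1, 3, 3, 1, 2, 1] (mv [2, 0, 3, 1, 3, 3, 1, 3, 4, 2, 2, 4, 2, 6, 4, 3, 3, 6, 4, 2, 4] (mv [0, 3, 3, 1, 4, 2, 5, 2, 1, 5, 5, 6, 4, 0, 4, 1, 4, 3, 7, 1, 1] (T [2, 5, 4, 8, 1, 1, 2, 1, 2] • P2)))) = T [2, 5, 4, 8, 1, 1, 2, 1, 2] • P2 := seq4 (seq_rot seg3_one 2) _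
  have f0 : mv [0, 3, 3, 1, 4, 2, 5, 2, 1, 5, 5, 6, 4, 0, 4, 1, 4, 3, 7, 1, 1] (T [2, 5, 4, 8, 1, 1, 2, 1, 2] • P2) = T [4, 1, 8, 0, 8, 0, 8, 1, 8, 0, 2, 4, 4, 2, 5, 0, 4, 3, 3] • P3 := fwd (step (gens := S2_3) fix2_3 e33 (h := [5, 5, 1, 8, 1, 8, 5, 0, 8, 4, 0, 4, 2, 0, 2, 2, 4, 1, 2, 0]) (g := [4, 1, 8, 0, 8, 0, 8, 1, 8, 0, 2, 4, 4, 2, 5, 0, 4, 3, 3]) (kw := [6, 3, 7, 3, 7, 5, 1]) (sl := [(0, true), (2, true), (2, true), (1, true), (0, true), (0, true), (1, true), (1, true), (0, false), (0, false), (1, false), (0, false), (2, false), (1, false), (1, false), (2, false), (1, false), (2, false)]) (by decide +kernel) (by decide +kernel) (by decide +kernel) (by decide +kernel)) (by decide +kernel)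
  have c0 := f0
  have b0 : mv [5, 3, 5, 7, 2, 2, 5, 7, 3, 5, 3, 3, 5, 2, 0, 2, 2, 0, 2, 1, 3, 1, 1] (T [4, 2, 4, 0, 8, 0, 8, 2, 0, 8, 5, 5, 3, 1, 2, 2, 1, 4] • P3) = T [2, 5, 4, 8, 1, 1, 2, 1, 2] • P2 := bwd (step (gens := S2_3) fix2_3 e33 (h := [2, 5, 4, 8, 1, 1, 2, 1, 2]) (g := [8, 0, 8, 5, 3, 0, 8, 2, 0, 8, 2, 0, 4, 3, 3, 5, 2, 4, 0]) (kw := [7, 6, 3, 5, 0, 2, 7]) (sl := [(0, true), (2, true), (2, true), (1, true), (0, true), (0, true), (1, true), (1, true), (2, false), (2, false), (2, false), (2, false), (2, false), (2, false)]) (by decide +kernel) (by decide +kernel) (by decide +kernel) (by decide +kernel)) (by decide +kernel)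
  have d0 : T [2, 5, 4, 8, 1, 1, 2, 1, 2] • P2 = mv [5, 3, 5, 7, 2, 2, 5, 7, 3, 5, 3, 3, 5, 2, 0, 2, 2, 0, 2, 1, 3, 1, 1] (T [4, 2, 4, 0, 8, 0, 8, 2, 0, 8, 5, 5, 3, 1, 2, 2, 1, 4] • P3) := b0.symm
  have b1 : mv [7, 0, 4, 2, 4, 1, 5, 7, 0, 3, 1, 4, 1, 3, 3, 1, 2, 1] (T [1, 4, 8, 1, 8, 4, 1, 8, 0, 3, 4, 1, 4, 4, 3, 5, 3, 4, 0] • P2) = T [4, 2, 4, 0, 8, 0, 8, 2, 0, 8, 5, 5, 3, 1, 2, 2, 1, 4] • P3 := bwd (step (gens := S3_3) fix3_3 e27 (h := [4, 2, 4, 0, 8, 0, 8, 2, 0, 8, 5, 5, 3, 1, 2, 2, 1, 4]) (g := [3, 3, 1, 8, 0, 8, 5, 3, 0, 3, 4, 3, 0, 3, 5, 5]) (kw := [5, 5, 3, 5, 7, 6, 1, 0]) (sl := [(2, true), (0, true), (2, true), (2, true), (2, true), (0, true), (2, true), (0, true), (0, true), (0, true), (2, false), (0, false), (2, false), (0, false), (2, false), (2,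 false), (1, false)]) (by decide +kernel) (by decide +kernel) (by decide +kernel) (by decide +kernel)) (by decide +kernel)
  have d1 : T [2, 5, 4, 8, 1, 1, 2, 1, 2] • P2 = mv [5, 3, 5, 7, 2, 2, 5, 7, 3, 5, 3, 3, 5, 2, 0, 2, 2, 0, 2, 1, 3, 1, 1] (mv [7, 0, 4, 2, 4, 1, 5, 7, 0, 3, 1, 4, 1, 3, 3, 1, 2, 1] (T [1, 4, 8, 1, 8, 4, 1, 8, 0, 3, 4, 1, 4, 4, 3, 5, 3, 4, 0] • P2)) := d0.trans (congrArg (fun p => mv [5, 3, 5, 7, 2, 2, 5, 7, 3, 5, 3, 3, 5, 2, 0, 2, 2, 0, 2, 1, 3, 1, 1] (p)) b1.symm)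
  have q2 : mv [2, 0, 3, 1, 3, 3, 1, 3, 4, 2, 2, 4, 2, 6, 4, 3, 3, 6, 4, 2, 4] (T [4, 1, 8, 0, 8, 0, 8, 1, 8, 0, 2, 4, 4, 2, 5, 0, 4, 3, 3] • P3) = T [1, 4, 8, 1, 8, 4, 1, 8, 0, 3, 4, 1, 4, 4, 3, 5, 3, 4, 0] • P2 := (mv_inj _ (mv_inj _ (((congrArg (fun p => mv [5, 3, 5, 7, 2, 2, 5, 7, 3, 5, 3, 3, 5, 2, 0, 2, 2, 0, 2, 1, 3, 1, 1] (mv [7, 0, 4, 2, 4, 1, 5, 7, 0, 3, 1, 4, 1, 3, 3, 1, 2, 1] (mv [2, 0, 3, 1, 3, 3, 1, 3, 4, 2, 2, 4, 2, 6, 4, 3, 3, 6, 4, 2, 4] (p)))) c0).symm.trans q0).trans d1)))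
  have c : gz • T [2, 2, 4, 1, 8, 3, 0, 8, 2, 0, 2, 2, 5, 3, 5, 2, 0, 2] • P3 = T [1, 4, 8, 1, 8, 4, 1, 8, 0, 3, 4, 1, 4, 4, 3, 5, 3, 4, 0] • P2 := by
    rw [T_congr (show sameWord [2, 2, 4, 1, 8, 3, 0, 8, 2, 0, 2, 2, 5, 3, 5, 2, 0, 2] ([2, 0, 3, 1, 3, 3, 1, 3, 4, 2, 2, 4, 2, 6, 4, 3, 3, 6, 4, 2, 4] ++ [4, 1, 8, 0, 8, 0, 8, 1, 8, 0, 2, 4, 4, 2, 5, 0, 4, 3, 3]) = true by decide +kernel), T_append, mul_smul]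
    exact q2
  exact c

theorem e36 : gz • T [1, 4, 8, 1, 8, 4, 1, 8, 0, 3, 4, 1, 4, 4, 3, 5, 3, 4, 0] • P2 = T [2, 8, 2, 8, 2, 0, 8, 0, 8, 4, 2, 0, 5, 2, 2, 5, 0, 4, 4, 2] • P3 := by
  rw [T_congr (show sameWord [1, 4, 8, 1, 8, 4, 1, 8, 0, 3, 4, 1, 4, 4, 3, 5, 3, 4, 0] [1, 4, 8, 1, 8, 4, 1, 8, 0, 3, 4, 1, 4, 4, 3, 5, 3, 4, 0] = true by decide +kernel)]
  exact edge_symm e35 (by decide +kernel)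

theorem e37 : gz • T [8, 3, 1, 8, 4, 0, 8, 2, 5, 1, 3, 3, 1, 5, 2, 1, 4, 0] • P3 = T [1, 4, 0, 8, 1, 8, 2, 1, 8, 5, 1, 5, 1, 2, 1, 4, 2, 2, 0, 2] • P3 := by
  have q0 : mv [5, 7, 1, 5, 1, 2, 5, 7] (mv [1, 6, 3, 5, 1, 2, 5, 7, 2, 5, 3, 1, 5, 0, 3, 0, 2, 0, 3] (mv [1, 5, 7, 0, 5, 3, 0, 5, 7, 1, 5, 0, 4, 3, 3, 5, 3, 1, 3, 3] (T [3, 3, 3, 3, 5, 3, 3, 8, 1, 5, 5] • P2))) = T [3, 3, 3, 3, 5, 3, 3, 8, 1, 5, 5] • P2 := seq3 (seq_rot seg1_one 2) _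
  have f0 : mv [1, 5, 7, 0, 5, 3, 0, 5, 7, 1, 5, 0, 4, 3, 3, 5, 3, 1, 3, 3] (T [3, 3, 3, 3, 5, 3, 3, 8, 1, 5, 5] • P2) = T [3, 1, 8, 1, 8, 0, 8, 0, 8, 5, 2, 5, 2, 1, 3, 4, 3, 0] • P3 := fwd (step (gens := S2_3) fix2_3 e33 (h := [2, 0, 8, 5, 1, 8, 5, 0, 4, 3, 0, 0, 5, 2]) (g := [3, 1, 8, 1, 8, 0, 8, 0, 8, 5, 2, 5, 2, 1, 3, 4, 3, 0]) (kw := [1, 6, 5, 7, 6, 3, 2]) (sl := [(0, true), (2, true), (2, true), (1, true), (0, true), (0, true), (1, true), (1, true), (2, false), (0, false), (1, false), (2, false), (0, false), (1, false), (1, false), (2, false), (1, false)]) (by decide +kernel) (by decide +kernel) (by decide +kernel) (by decide +kernel)) (by decide +kernel)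
  have c0 := f0
  have b0 : mv [5, 7, 1, 5, 1, 2, 5, 7] (T [1, 4, 0, 8, 1, 8, 2, 1, 8, 5, 1, 5, 1, 2, 1, 4, 2, 2, 0, 2] • P3) = T [3, 3, 3, 3, 5, 3, 3, 8, 1, 5, 5] • P2 := bwd (step (gens := S2_3) fix2_3 e33 (h := [3, 3, 3, 3, 5, 3, 3, 8, 1, 5, 5]) (g := [5, 1, 4, 8, 4, 0, 8, 1, 8, 4, 3, 3, 4, 3, 0, 4, 3]) (kw := [3, 7, 6, 3, 5, 5, 3]) (sl := [(0, true), (2, true), (2, true), (1, true), (0, true), (0, true), (1, true), (1, true), (0, false)]) (by decide +kernel) (by decide +kernel) (by decide +kernel) (by decide +kernel)) (by decide +kernel)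
  have d0 : T [3, 3, 3, 3, 5, 3, 3, 8, 1, 5, 5] • P2 = mv [5, 7, 1, 5, 1, 2, 5, 7] (T [1, 4, 0, 8, 1, 8, 2, 1, 8, 5, 1, 5, 1, 2, 1, 4, 2, 2, 0, 2] • P3) := b0.symm
  have q2 : mv [1, 6, 3, 5, 1, 2, 5, 7, 2, 5, 3, 1, 5, 0, 3, 0, 2, 0, 3] (T [3, 1, 8, 1, 8, 0, 8, 0, 8, 5, 2, 5, 2, 1, 3, 4, 3, 0] • P3) = T [1, 4, 0, 8, 1, 8, 2, 1, 8, 5, 1, 5, 1, 2, 1, 4, 2, 2, 0, 2] • P3 := (mv_inj _ (((congrArg (fun p => mv [5, 7, 1, 5, 1, 2, 5, 7] (mv [1, 6, 3, 5, 1, 2, 5, 7, 2, 5, 3, 1, 5, 0, 3, 0, 2, 0, 3] (p))) c0).symm.trans q0).trans d0))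
  have c : gz • T [8, 3, 1, 8, 4, 0, 8, 2, 5, 1, 3, 3, 1, 5, 2, 1, 4, 0] • P3 = T [1, 4, 0, 8, 1, 8, 2, 1, 8, 5, 1, 5, 1, 2, 1, 4, 2, 2, 0, 2] • P3 := by
    rw [T_congr (show sameWord [8, 3, 1, 8, 4, 0, 8, 2, 5, 1, 3, 3, 1, 5, 2, 1, 4, 0] ([1, 6, 3, 5, 1, 2, 5, 7, 2, 5, 3, 1, 5, 0, 3, 0, 2, 0, 3] ++ [3, 1, 8, 1, 8, 0, 8, 0, 8, 5, 2, 5, 2, 1, 3, 4, 3, 0]) = true by decide +kernel), T_append, mul_smul]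
    exact q2
  exact c

theorem e38 : gz • T [2, 8, 0, 8, 1, 8, 4, 0, 8, 3, 1, 4, 3, 4, 4, 1, 4, 2, 1] • P2 = T [8, 5, 1, 8, 5, 2, 1, 8, 0, 8, 5, 2, 0, 5, 2, 1, 2, 2, 4, 2, 0] • P2 := by
  have q0 : mv [6] (mv [0, 2, 1, 2, 2, 1, 2, 2, 5, 0, 4, 2, 4, 3, 6, 4, 3, 3, 6, 4, 2, 4, 1, 1] (mv [7, 1, 1] (mv [1, 5, 7, 2, 1, 3, 5, 7, 2, 1, 3, 5, 3, 0, 3, 3, 0, 3] (T [8, 3, 1, 4, 8, 1, 8, 3, 3, 4, 0, 2, 5, 2, 4, 2, 0, 0] • P3)))) = T [8, 3, 1, 4, 8, 1, 8, 3, 3, 4, 0, 2, 5, 2, 4, 2, 0, 0] • P3 := seq4 (seq_rot seg2_one 2) _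
  have f0 : mv [1, 5, 7, 2, 1, 3, 5, 7, 2, 1, 3, 5, 3, 0, 3, 3, 0, 3] (T [8, 3, 1, 4, 8, 1, 8, 3, 3, 4, 0, 2, 5, 2, 4, 2, 0, 0] • P3) = T [1, 4, 0, 8, 1, 8, 1, 8, 5, 1, 3, 3, 1, 2, 4, 0, 5, 0] • P2 := fwd (step (gens := S3_3) fix3_3 e29 (h := [0, 2, 0, 8, 5, 1, 5, 3, 3, 4, 0, 4, 2, 0]) (g := [1, 4, 0, 8, 1, 8, 1, 8, 5, 1, 3, 3, 1, 2, 4, 0, 5, 0]) (kw := [5, 6, 0, 6, 7, 0, 6, 7, 6, 1]) (sl := [(2, true), (2, true), (1, true)]) (by decide +kernel) (by decide +kernel) (by decide +kernel) (by decide +kernel)) (by decide +kernel)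
  have c0 := f0
  have b0 : mv [6] (T [1, 5, 1, 3, 8, 0, 8, 0, 8, 5, 2, 0, 5, 2, 1, 5, 3, 0, 3] • P2) = T [8, 3, 1, 4, 8, 1, 8, 3, 3, 4, 0, 2, 5, 2, 4, 2, 0, 0] • P3 := bwd (step (gens := S3_3) fix3_3 e24 (h := [8, 3, 1, 4, 8, 1, 8, 3, 3, 4, 0, 2, 5, 2, 4, 2, 0, 0]) (g := [4, 2, 5, 0, 8, 0, 8, 0, 8, 4, 1, 2, 0, 4, 0, 2, 4, 2]) (kw := []) (sl := [(1, true), (2, true), (0, true), (2, true), (1, true), (2, true), (1, true), (1, true), (0, true), (0, false), (1, false), (1, false), (2, false), (1, false), (2, false), (0, false), (2, false), (1, false)]) (by decide +kernel) (by decide +kernel) (by decide +kernel) (by decide +kernel)) (by decide +kernel)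
  have d0 : T [8, 3, 1, 4, 8, 1, 8, 3, 3, 4, 0, 2, 5, 2, 4, 2, 0, 0] • P3 = mv [6] (T [1, 5, 1, 3, 8, 0, 8, 0, 8, 5, 2, 0, 5, 2, 1, 5, 3, 0, 3] • P2) := b0.symm
  have b1 : mv [0, 2, 1, 2, 2, 1, 2, 2, 5, 0, 4, 2, 4, 3, 6, 4, 3, 3, 6, 4, 2, 4, 1, 1] (T [8, 5, 1, 8, 5, 2, 1, 8, 0, 8, 5, 2, 0, 5, 2, 1, 2, 2, 4, 2, 0] • P2) = T [1, 5, 1, 3, 8, 0, 8, 0, 8, 5, 2, 0, 5, 2, 1, 5, 3, 0, 3] • P2 := bwd (step (gens := S2_3) fix2_3 e11 (h := [1, 5, 1, 3, 8, 0, 8, 0, 8, 5, 2, 0, 5, 2, 1, 5, 3, 0, 3]) (g := [4, 3, 0, 5, 2, 8, 0, 8, 1, 8, 1, 4, 3, 3, 0, 3, 0, 2, 5, 1, 4]) (kw := [7, 1, 6, 2, 7, 6, 5, 0]) (sl := [(2, true), (1, true), (1, true), (0, true), (2, false), (1, false), (1, false), (2, false), (1, false), (2, false), (0, false), (1, false), (1, false)]) (by decide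 +kernel) (by decide +kernel) (by decide +kernel) (by decide +kernel)) (by decide +kernel)
  have d1 : T [8, 3, 1, 4, 8, 1, 8, 3, 3, 4, 0, 2, 5, 2, 4, 2, 0, 0] • P3 = mv [6] (mv [0, 2, 1, 2, 2, 1, 2, 2, 5, 0, 4, 2, 4, 3, 6, 4, 3, 3, 6, 4, 2, 4, 1, 1] (T [8, 5, 1, 8, 5, 2, 1, 8, 0, 8, 5, 2, 0, 5, 2, 1, 2, 2, 4, 2, 0] • P2)) := d0.trans (congrArg (fun p => mv [6] (p)) b1.symm)
  have q2 : mv [7, 1, 1] (T [1, 4, 0, 8, 1, 8, 1, 8, 5, 1, 3, 3, 1, 2, 4, 0, 5, 0] • P2) = T [8, 5, 1, 8, 5, 2, 1, 8, 0, 8, 5, 2, 0, 5, 2, 1, 2, 2, 4, 2, 0] • P2 := (mv_inj _ (mv_inj _ (((congrArg (fun p => mv [6] (mv [0, 2, 1, 2, 2, 1, 2, 2, 5, 0, 4, 2, 4, 3, 6, 4, 3, 3, 6, 4, 2, 4, 1, 1] (mv [7, 1, 1] (p)))) c0).symm.trans q0).trans d1)))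
  have c : gz • T [2, 8, 0, 8, 1, 8, 4, 0, 8, 3, 1, 4, 3, 4, 4, 1, 4, 2, 1] • P2 = T [8, 5, 1, 8, 5, 2, 1, 8, 0, 8, 5, 2, 0, 5, 2, 1, 2, 2, 4, 2, 0] • P2 := by
    rw [T_congr (show sameWord [2, 8, 0, 8, 1, 8, 4, 0, 8, 3, 1, 4, 3, 4, 4, 1, 4, 2, 1] ([7, 1, 1] ++ [1, 4, 0, 8, 1, 8, 1, 8, 5, 1, 3, 3, 1, 2, 4, 0, 5, 0]) = true by decide +kernel), T_append, mul_smul]
    exact q2
  exact c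

theorem e39 : gz • T [3, 3, 5, 0, 8, 1, 8, 0, 8, 2, 1, 5, 3, 0, 4, 2, 1, 4] • P3 = T [2, 0, 4, 8, 1, 8, 2, 0, 8, 5, 3, 3, 0, 3, 5, 0, 2, 0, 4, 0] • P2 := by
  have q0 : mv [2, 6] (mv [2, 2, 1, 3, 1, 2, 2, 5, 0, 4, 1, 5, 6, 5, 2, 2, 1, 4, 2, 1, 1] (mv [7, 3, 1, 1] (mv [5, 1, 4, 2, 5, 7, 4, 1, 4, 0, 4, 3, 1, 3, 1, 2] (T [8, 3, 1, 4, 8, 0, 8, 2, 5, 3, 4, 3, 4, 1, 2, 0, 4] • P3)))) = T [8, 3, 1, 4, 8, 0, 8, 2, 5, 3, 4, 3, 4, 1, 2, 0, 4] • P3 := seq4 (seq_rot seg4_one 0) _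
  have b0 : mv [2, 6] (T [2, 0, 8, 5, 2, 1, 2, 2, 0, 2, 5, 2, 0, 4, 2] • P2) = T [8, 3, 1, 4, 8, 0, 8, 2, 5, 3, 4, 3, 4, 1, 2, 0, 4] • P3 := bwd (step (gens := S3_3) fix3_3 e27 (h := [8, 3, 1, 4, 8, 0, 8, 2, 5, 3, 4, 3, 4, 1, 2, 0, 4]) (g := [0, 2, 0, 8, 3, 1, 8, 1, 2, 0, 4, 2, 2, 5, 0, 4]) (kw := []) (sl := [(2, true), (0, true), (2, true), (2, true), (2, true), (0, true), (2, true), (0, true), (0, true), (0, true), (0, false), (0, false), (0, false), (2, false), (0, false), (2, false), (2, false), (2, false), (0, false), (2, false)]) (by decide +kernel) (by decide +kernel) (by decide +kernel) (by decide +kernel)) (by decide +kernel)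
  have d0 : T [8, 3, 1, 4, 8, 0, 8, 2, 5, 3, 4, 3, 4, 1, 2, 0, 4] • P3 = mv [2, 6] (T [2, 0, 8, 5, 2, 1, 2, 2, 0, 2, 5, 2, 0, 4, 2] • P2) := b0.symm
  have b1 : mv [2, 2, 1, 3, 1, 2, 2, 5, 0, 4, 1, 5, 6, 5, 2, 2, 1, 4, 2, 1, 1] (T [8, 3, 0, 3, 8, 1, 8, 2, 5, 0, 4, 2, 2, 1, 2, 4, 2, 2] • P3) = T [2, 0, 8, 5, 2, 1, 2, 2, 0, 2, 5, 2, 0, 4, 2] • P2 := bwd (step (gens := S2_3) fix2_3 e33 (h := [2, 0, 8, 5, 2, 1, 2, 2, 0, 2, 5, 2, 0, 4, 2]) (g := [2, 1, 8, 4, 1, 8, 0, 8, 2, 4, 4, 3, 3, 5, 1, 2, 5, 2, 0]) (kw := [4, 2, 7, 6, 5, 3, 3]) (sl := [(0, true), (2, true), (2, true), (1, true), (0, true), (0, true), (1, true), (1, true), (1, false), (2, false), (1, false), (0, false), (1, false), (2, false), (0, false), (1, false)]) (by decide +kernel) (by decide +kernel) (by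 decide +kernel) (by decide +kernel)) (by decide +kernel)
  have d1 : T [8, 3, 1, 4, 8, 0, 8, 2, 5, 3, 4, 3, 4, 1, 2, 0, 4] • P3 = mv [2, 6] (mv [2, 2, 1, 3, 1, 2, 2, 5, 0, 4, 1, 5, 6, 5, 2, 2, 1, 4, 2, 1, 1] (T [8, 3, 0, 3, 8, 1, 8, 2, 5, 0, 4, 2, 2, 1, 2, 4, 2, 2] • P3)) := d0.trans (congrArg (fun p => mv [2, 6] (p)) b1.symm)
  have b2 : mv [7, 3, 1, 1] (T [2, 0, 4, 8, 1, 8, 2, 0, 8, 5, 3, 3, 0, 3, 5, 0, 2, 0, 4, 0] • P2) = T [8, 3, 0, 3, 8, 1, 8, 2, 5, 0, 4, 2, 2, 1, 2, 4, 2, 2] • P3 := bwd (step (gens := S3_3) fix3_3 e29 (h := [8, 3, 0, 3, 8, 1, 8, 2, 5, 0, 4, 2, 2, 1, 2, 4, 2, 2]) (g := [2, 1, 8, 0, 8, 2, 1, 8, 3, 1, 1, 4, 3, 5, 1, 3, 4, 3]) (kw := [5, 0, 7, 5, 1, 6, 3]) (sl := [(2, true), (2, true), (1, true), (2, false), (0, false), (0, false), (0, false),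 (2, false), (1, false), (2, false), (1, false)]) (by decide +kernel) (by decide +kernel) (by decide +kernel) (by decide +kernel)) (by decide +kernel)
  have d2 : T [8, 3, 1, 4, 8, 0, 8, 2, 5, 3, 4, 3, 4, 1, 2, 0, 4] • P3 = mv [2, 6] (mv [2, 2, 1, 3, 1, 2, 2, 5, 0, 4, 1, 5, 6, 5, 2, 2, 1, 4, 2, 1, 1] (mv [7, 3, 1, 1] (T [2, 0, 4, 8, 1, 8, 2, 0, 8, 5, 3, 3, 0, 3, 5, 0, 2, 0, 4, 0] • P2))) := d1.trans (congrArg (fun p => mv [2, 6] (mv [2, 2, 1, 3, 1, 2, 2, 5, 0, 4, 1, 5, 6, 5, 2, 2, 1, 4, 2, 1, 1] (p))) b2.symm)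
  have q2 : mv [5, 1, 4, 2, 5, 7, 4, 1, 4, 0, 4, 3, 1, 3, 1, 2] (T [8, 3, 1, 4, 8, 0, 8, 2, 5, 3, 4, 3, 4, 1, 2, 0, 4] • P3) = T [2, 0, 4, 8, 1, 8, 2, 0, 8, 5, 3, 3, 0, 3, 5, 0, 2, 0, 4, 0] • P2 := (mv_inj _ (mv_inj _ (mv_inj _ (q0.trans d2))))
  have c : gz • T [3, 3, 5, 0, 8, 1, 8, 0, 8, 2, 1, 5, 3, 0, 4, 2, 1, 4] • P3 = T [2, 0, 4, 8, 1, 8, 2, 0, 8, 5, 3, 3, 0, 3, 5, 0, 2, 0, 4, 0] • P2 := by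
    rw [T_congr (show sameWord [3, 3, 5, 0, 8, 1, 8, 0, 8, 2, 1, 5, 3, 0, 4, 2, 1, 4] ([5, 1, 4, 2, 5, 7, 4, 1, 4, 0, 4, 3, 1, 3, 1, 2] ++ [8, 3, 1, 4, 8, 0, 8, 2, 5, 3, 4, 3, 4, 1, 2, 0, 4]) = true by decide +kernel), T_append, mul_smul]
    exact q2
  exact c

theorem e40 : gz • T [2, 0, 4, 8, 1, 8, 2, 0, 8, 5, 3, 3, 0, 3, 5, 0, 2, 0, 4, 0] • P2 = T [4, 8, 0, 8, 4, 1, 8, 0, 8, 2, 5, 2, 5, 1, 3, 1, 1, 4] • P3 := by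
  rw [T_congr (show sameWord [2, 0, 4, 8, 1, 8, 2, 0, 8, 5, 3, 3, 0, 3, 5, 0, 2, 0, 4, 0] [2, 0, 4, 8, 1, 8, 2, 0, 8, 5, 3, 3, 0, 3, 5, 0, 2, 0, 4, 0] = true by decide +kernel)]
  exact edge_symm e39 (by decide +kernel)

theorem e41 : gz • T [0, 5, 0, 8, 5, 0, 8, 0, 8, 0, 3, 3, 5, 0, 3, 3, 0, 3, 4, 1, 2] • P3 = T [0, 8, 3, 0, 5, 8, 0, 8, 1, 2, 0, 2, 2, 0, 4, 0, 5] • P3 := by
  have q0 : mv [2, 6] (mv [2, 2, 1, 3, 1, 2, 2, 5, 0, 4, 1, 5, 6, 5, 2, 2, 1, 4, 2, 1, 1] (mv [7, 3, 1, 1] (mv [5, 1, 4, 2, 5, 7, 4, 1, 4, 0, 4, 3, 1, 3, 1, 2] (T [2, 2, 0, 8, 3, 1, 5, 3, 0, 2, 4, 1, 2] • P3)))) = T [2, 2, 0, 8, 3, 1, 5, 3, 0, 2, 4, 1, 2] • P3 := seq4 (seq_rot seg4_one 0) _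
  have b0 : mv [2, 6] (T [8, 0, 5, 0, 2, 8, 1, 8, 0, 8, 5, 1, 5, 3, 4, 1, 3, 3, 0, 3, 0] • P3) = T [2, 2, 0, 8, 3, 1, 5, 3, 0, 2, 4, 1, 2] • P3 := bwd (step (gens := S3_3) fix3_3 e21 (h := [2, 2, 0, 8, 3, 1, 5, 3, 0, 2, 4, 1, 2]) (g := [4, 0, 8, 3, 5, 1, 3, 4, 3, 5, 5, 1, 3]) (kw := []) (sl := [(1, true), (1, false)]) (by decide +kernel) (by decide +kernel) (by decide +kernel) (by decide +kernel)) (by decide +kernel)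
  have d0 : T [2, 2, 0, 8, 3, 1, 5, 3, 0, 2, 4, 1, 2] • P3 = mv [2, 6] (T [8, 0, 5, 0, 2, 8, 1, 8, 0, 8, 5, 1, 5, 3, 4, 1, 3, 3, 0, 3, 0] • P3) := b0.symm
  have b1 : mv [2, 2, 1, 3, 1, 2, 2, 5, 0, 4, 1, 5, 6, 5, 2, 2, 1, 4, 2, 1, 1] (T [5, 1, 8, 4, 1, 3, 8, 0, 8, 3, 4, 0, 5, 2, 2, 4, 4, 0] • P3) = T [8, 0, 5, 0, 2, 8, 1, 8, 0, 8, 5, 1, 5, 3, 4, 1, 3, 3, 0, 3, 0] • P3 := bwd (step (gens := S3_3) fix3_3 e25 (h := [8, 0, 5, 0, 2, 8, 1, 8, 0, 8, 5, 1, 5, 3, 4, 1, 3, 3, 0, 3, 0]) (g := [8, 5, 3, 0, 8, 3, 0, 8, 3, 5, 2, 2, 4, 3, 4, 1, 1]) (kw := [7, 6, 5, 0, 6, 5, 1, 7, 5]) (sl := [(0, true), (2, true), (0, true), (0, true), (0, true), (2, true), (0, true), (2, false), (2, false), (2, false), (0, false)]) (by decide +kernel) (by decide +kernel) (by decide +kernel)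 (by decide +kernel)) (by decide +kernel)
  have d1 : T [2, 2, 0, 8, 3, 1, 5, 3, 0, 2, 4, 1, 2] • P3 = mv [2, 6] (mv [2, 2, 1, 3, 1, 2, 2, 5, 0, 4, 1, 5, 6, 5, 2, 2, 1, 4, 2, 1, 1] (T [5, 1, 8, 4, 1, 3, 8, 0, 8, 3, 4, 0, 5, 2, 2, 4, 4, 0] • P3)) := d0.trans (congrArg (fun p => mv [2, 6] (p)) b1.symm)
  have b2 : mv [7, 3, 1, 1] (T [0, 8, 3, 0, 5, 8, 0, 8, 1, 2, 0, 2, 2, 0, 4, 0, 5] • P3) = T [5, 1, 8, 4, 1, 3, 8, 0, 8, 3, 4, 0, 5, 2, 2, 4, 4, 0] • P3 := bwd (step (gens := S3_3) fix3_3 e22 (h := [5, 1, 8, 4, 1, 3, 8, 0, 8, 3, 4, 0, 5, 2, 2, 4, 4, 0]) (g := [3, 4, 0, 8, 2, 0, 5, 0, 2, 4, 4, 0, 3]) (kw := [7, 3, 5, 6, 5, 7, 5, 5, 4]) (sl := [(1, true), (1, true), (2, false), (0, false), (0, false), (2, false), (0, false)]) (by decide +kernel) (by decide +kernel)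 (by decide +kernel) (by decide +kernel)) (by decide +kernel)
  have d2 : T [2, 2, 0, 8, 3, 1, 5, 3, 0, 2, 4, 1, 2] • P3 = mv [2, 6] (mv [2, 2, 1, 3, 1, 2, 2, 5, 0, 4, 1, 5, 6, 5, 2, 2, 1, 4, 2, 1, 1] (mv [7, 3, 1, 1] (T [0, 8, 3, 0, 5, 8, 0, 8, 1, 2, 0, 2, 2, 0, 4, 0, 5] • P3))) := d1.trans (congrArg (fun p => mv [2, 6] (mv [2, 2, 1, 3, 1, 2, 2, 5, 0, 4, 1, 5, 6, 5, 2, 2, 1, 4, 2, 1, 1] (p))) b2.symm)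
  have q2 : mv [5, 1, 4, 2, 5, 7, 4, 1, 4, 0, 4, 3, 1, 3, 1, 2] (T [2, 2, 0, 8, 3, 1, 5, 3, 0, 2, 4, 1, 2] • P3) = T [0, 8, 3, 0, 5, 8, 0, 8, 1, 2, 0, 2, 2, 0, 4, 0, 5] • P3 := (mv_inj _ (mv_inj _ (mv_inj _ (q0.trans d2))))
  have c : gz • T [0, 5, 0, 8, 5, 0, 8, 0, 8, 0, 3, 3, 5, 0, 3, 3, 0, 3, 4, 1, 2] • P3 = T [0, 8, 3, 0, 5, 8, 0, 8, 1, 2, 0, 2, 2, 0, 4, 0, 5] • P3 := by
    rw [T_congr (show sameWord [0, 5, 0, 8, 5, 0, 8, 0, 8, 0, 3, 3, 5, 0, 3, 3, 0, 3, 4, 1, 2] ([5, 1, 4, 2, 5, 7, 4, 1, 4, 0, 4, 3, 1, 3, 1, 2] ++ [2, 2, 0, 8, 3, 1, 5, 3, 0, 2, 4, 1, 2]) = true by decide +kernel), T_append, mul_smul]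
    exact q2
  exact c

theorem e42 : gz • T [0, 8, 3, 0, 5, 8, 0, 8, 1, 2, 0, 2, 2, 0, 4, 0, 5] • P3 = T [5, 0, 5, 8, 0, 8, 2, 0, 8, 3, 3, 0, 2, 2, 4, 2, 4, 0, 5, 0] • P3 := by
  rw [T_congr (show sameWord [0, 8, 3, 0, 5, 8, 0, 8, 1, 2, 0, 2, 2, 0, 4, 0, 5] [0, 8, 3, 0, 5, 8, 0, 8, 1, 2, 0, 2, 2, 0, 4, 0, 5] = true by decide +kernel)]
  exact edge_symm e41 (by decide +kernel)

theorem e43 : gz • T [0, 8, 1, 5, 8, 0, 8, 2, 0, 8, 4, 0, 4, 0, 5, 2, 1, 4, 3, 0] • P3 = T [8, 3, 1, 4, 8, 1, 8, 3, 1, 3, 3, 1, 4, 2, 5, 0, 2] • P3 := by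
  have q0 : mv [5, 1, 4, 2, 5, 7, 4, 1, 4, 0, 4, 3, 1, 3, 1, 2] (mv [2, 6] (mv [2, 2, 1, 3, 1, 2, 2, 5, 0, 4, 1, 5, 6, 5, 2, 2, 1, 4, 2, 1, 1] (mv [7, 3, 1, 1] (T [3, 3, 0, 2, 2] • P1)))) = T [3, 3, 0, 2, 2] • P1 := seq4 (seq_rot seg4_one 3) _
  have f0 : mv [7, 3, 1, 1] (T [3, 3, 0, 2, 2] • P1) = T [1, 4, 2, 5, 2, 0, 4, 2, 0, 2] • P3 := fwd (step (gens := S1) fix1 e14 (h := [8, 3, 1, 4, 8, 0, 8, 3, 3, 0, 4, 2, 0, 3, 5, 0, 4]) (g := [1, 4, 2, 5, 2, 0, 4, 2, 0, 2]) (kw := [5, 6, 5, 5, 4, 5, 0, 0]) (sl := [(5, true), (6, true), (1, true), (2, true), (5, true), (0, false), (6, false), (3, false), (5, false), (3, false)]) (by decide +kernel) (by decide +kernel) (by decide +kernel) (by decide +kernel)) (by decide +kernel)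
  have c0 := f0
  have b0 : mv [5, 1, 4, 2, 5, 7, 4, 1, 4, 0, 4, 3, 1, 3, 1, 2] (T [3, 3, 5, 0, 8, 1, 8, 1, 8, 3, 5, 3, 5, 0, 5, 3, 4, 3, 0] • P1) = T [3, 3, 0, 2, 2] • P1 := bwd (step (gens := S1) fix1 e2 (h := [3, 3, 0, 2, 2]) (g := [1, 3, 3, 0, 2, 2, 0]) (kw := []) (sl := [(7, true), (6, true), (5, true), (5, false), (6, false), (7, false)]) (by decide +kernel) (by decide +kernel) (by decide +kernel) (by decide +kernel)) (by decide +kernel)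
  have d0 : T [3, 3, 0, 2, 2] • P1 = mv [5, 1, 4, 2, 5, 7, 4, 1, 4, 0, 4, 3, 1, 3, 1, 2] (T [3, 3, 5, 0, 8, 1, 8, 1, 8, 3, 5, 3, 5, 0, 5, 3, 4, 3, 0] • P1) := b0.symm
  have b1 : mv [2, 6] (T [8, 3, 1, 4, 8, 1, 8, 3, 1, 3, 3, 1, 4, 2, 5, 0, 2] • P3) = T [3, 3, 5, 0, 8, 1, 8, 1, 8, 3, 5, 3, 5, 0, 5, 3, 4, 3, 0] • P1 := bwd (step (gens := S1) fix1 e14 (h := [3, 3, 5, 0, 8, 1, 8, 1, 8, 3, 5, 3, 5, 0, 5, 3, 4, 3, 0]) (g := [0, 4, 3, 5, 0, 2, 5, 1, 4, 2, 2, 0]) (kw := [1, 7, 5, 0, 6, 7, 5, 6, 0]) (sl := [(5, true), (6, true), (1, true), (2, true), (5, true), (1, false), (2, false), (6, false), (2, false), (0, false), (5, false)]) (by decide +kernel) (by decide +kernel) (by decide +kernel) (by decide +kernel)) (by decide +kernel)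
  have d1 : T [3, 3, 0, 2, 2] • P1 = mv [5, 1, 4, 2, 5, 7, 4, 1, 4, 0, 4, 3, 1, 3, 1, 2] (mv [2, 6] (T [8, 3, 1, 4, 8, 1, 8, 3, 1, 3, 3, 1, 4, 2, 5, 0, 2] • P3)) := d0.trans (congrArg (fun p => mv [5, 1, 4, 2, 5, 7, 4, 1, 4, 0, 4, 3, 1, 3, 1, 2] (p)) b1.symm)
  have q2 : mv [2, 2, 1, 3, 1, 2, 2, 5, 0, 4, 1, 5, 6, 5, 2, 2, 1, 4, 2, 1, 1] (T [1, 4, 2, 5, 2, 0, 4, 2, 0, 2] • P3) = T [8, 3, 1, 4, 8, 1, 8, 3, 1, 3, 3, 1, 4, 2, 5, 0, 2] • P3 := (mv_inj _ (mv_inj _ (((congrArg (fun p => mv [5, 1, 4, 2, 5, 7, 4, 1, 4, 0, 4, 3, 1, 3, 1, 2] (mv [2, 6] (mv [2, 2, 1, 3, 1, 2, 2, 5, 0, 4, 1, 5, 6, 5, 2, 2, 1, 4, 2, 1, 1] (p)))) c0).symm.trans q0).trans d1)))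
  have c : gz • T [0, 8, 1, 5, 8, 0, 8, 2, 0, 8, 4, 0, 4, 0, 5, 2, 1, 4, 3, 0] • P3 = T [8, 3, 1, 4, 8, 1, 8, 3, 1, 3, 3, 1, 4, 2, 5, 0, 2] • P3 := by
    rw [T_congr (show sameWord [0, 8, 1, 5, 8, 0, 8, 2, 0, 8, 4, 0, 4, 0, 5, 2, 1, 4, 3, 0] ([2, 2, 1, 3, 1, 2, 2, 5, 0, 4, 1, 5, 6, 5, 2, 2, 1, 4, 2, 1, 1] ++ [1, 4, 2, 5, 2, 0, 4, 2, 0, 2]) = true by decide +kernel), T_append, mul_smul]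
    exact q2
  exact c

theorem e44 : gz • T [5, 2, 4, 2, 0, 5, 3, 0, 4, 2] • P3 = T [0, 3, 5, 1, 3, 3, 1, 2, 5, 0, 4] • P3 := by
  have q0 : mv [3, 3, 0, 2, 2] (mv [3, 3, 0, 2, 2] (mv [0, 0, 3, 3, 0, 2, 2] (T [4, 8, 2, 0, 8, 3, 2, 4, 2, 3, 2, 0, 0, 1, 3, 5, 3, 1, 5, 4, 8, 2] • P1))) = T [4, 8, 2, 0, 8, 3, 2, 4, 2, 3, 2, 0, 0, 1, 3, 5, 3, 1, 5, 4, 8, 2] • P1 := seq3 (seq_rot seg0_one 0) _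
  have f0 : mv [0, 0, 3, 3, 0, 2, 2] (T [4, 8, 2, 0, 8, 3, 2, 4, 2, 3, 2, 0, 0, 1, 3, 5, 3, 1, 5, 4, 8, 2] • P1) = T [3, 5, 1, 2, 2, 1, 2, 5, 3, 1] • P3 := fwd (step (gens := S1) fix1 e14 (h := [3, 3, 1, 3, 8, 1, 8, 1, 8, 4, 1, 3, 0, 2, 4, 2, 0, 4]) (g := [3, 5, 1, 2, 2, 1, 2, 5, 3, 1]) (kw := [5, 0, 6, 4, 5, 7, 5]) (sl := [(5, true), (6, true), (1, true), (2, true), (5, true), (0, false), (1, false), (5, false), (6, false)]) (by decide +kernel) (by decide +kernel) (by decide +kernel) (by decide +kernel)) (by decide +kernel)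
  have c0 := f0
  have b0 : mv [3, 3, 0, 2, 2] (T [0, 3, 5, 1, 3, 3, 1, 2, 5, 0, 4] • P3) = T [4, 8, 2, 0, 8, 3, 2, 4, 2, 3, 2, 0, 0, 1, 3, 5, 3, 1, 5, 4, 8, 2] • P1 := bwd (step (gens := S1) fix1 e14 (h := [4, 8, 2, 0, 8, 3, 2, 4, 2, 3, 2, 0, 0, 1, 3, 5, 3, 1, 5, 4, 8, 2]) (g := [5, 0, 5, 0, 5, 5, 3, 0, 2, 2]) (kw := [5, 6, 7, 1, 5, 5, 5, 5, 4]) (sl := [(5, true), (6, true), (1, true), (2, true), (5, true), (5, false), (2, false), (0, false), (0, false)]) (by decide +kernel) (by decide +kernel) (by decide +kernel) (by decide +kernel)) (by decide +kernel)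
  have d0 : T [4, 8, 2, 0, 8, 3, 2, 4, 2, 3, 2, 0, 0, 1, 3, 5, 3, 1, 5, 4, 8, 2] • P1 = mv [3, 3, 0, 2, 2] (T [0, 3, 5, 1, 3, 3, 1, 2, 5, 0, 4] • P3) := b0.symm
  have q2 : mv [3, 3, 0, 2, 2] (T [3, 5, 1, 2, 2, 1, 2, 5, 3, 1] • P3) = T [0, 3, 5, 1, 3, 3, 1, 2, 5, 0, 4] • P3 := (mv_inj _ (((congrArg (fun p => mv [3, 3, 0, 2, 2] (mv [3, 3, 0, 2, 2] (p))) c0).symm.trans q0).trans d0))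
  have c : gz • T [5, 2, 4, 2, 0, 5, 3, 0, 4, 2] • P3 = T [0, 3, 5, 1, 3, 3, 1, 2, 5, 0, 4] • P3 := by
    rw [T_congr (show sameWord [5, 2, 4, 2, 0, 5, 3, 0, 4, 2] ([3, 3, 0, 2, 2] ++ [3, 5, 1, 2, 2, 1, 2, 5, 3, 1]) = true by decide +kernel), T_append, mul_smul]
    exact q2
  exact c

theorem e45 : gz • T [8, 2, 4, 0, 8, 2, 5, 2, 2, 1, 2, 4, 0, 2, 0] • P3 = T [5, 3, 8, 0, 8, 4, 0, 8, 5, 5, 2, 4, 3, 0, 4, 0] • P3 := by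
  have q0 : mv [5, 3, 5, 7, 2, 2, 5, 7, 3, 5, 3, 3, 5, 2, 0, 2, 2, 0, 2, 1, 3, 1, 1] (mv [7, 0, 4, 2, 4, 1, 5, 7, 0, 3, 1, 4, 1, 3, 3, 1, 2, 1] (mv [2, 0, 3, 1, 3, 3, 1, 3, 4, 2, 2, 4, 2, 6, 4, 3, 3, 6, 4, 2, 4] (mv [0, 3, 3, 1, 4, 2, 5, 2, 1, 5, 5, 6, 4, 0, 4, 1, 4, 3, 7, 1, 1] (T [8, 4, 1, 8, 4, 5, 3, 5, 2, 8, 0, 8, 8, 4, 4, 2, 2] • P1)))) = T [8, 4, 1, 8, 4, 5, 3, 5, 2, 8, 0, 8, 8, 4, 4, 2, 2] • P1 := seq4 (seq_rot seg3_one 2) _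
  have f0 : mv [0, 3, 3, 1, 4, 2, 5, 2, 1, 5, 5, 6, 4, 0, 4, 1, 4, 3, 7, 1, 1] (T [8, 4, 1, 8, 4, 5, 3, 5, 2, 8, 0, 8, 8, 4, 4, 2, 2] • P1) = T [3, 4, 3, 0, 2, 0, 5] • P3 := fwd (step (gens := S1) fix1 e14 (h := [0, 8, 0, 8, 1, 8, 4, 0, 8, 3, 5, 3, 4, 3, 0, 5, 5, 3, 3]) (g := [3, 4, 3, 0, 2, 0, 5]) (kw := [5, 2, 5, 7, 6, 5, 5, 3]) (sl := [(5, true), (6, true), (1, true), (2, true), (5, true), (5, false), (1, false), (2, false), (4, false), (6, false)]) (by decide +kernel) (by decide +kernel) (by decide +kernel) (by decide +kernel)) (by decide +kernel)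
  have c0 := f0
  have b0 : mv [5, 3, 5, 7, 2, 2, 5, 7, 3, 5, 3, 3, 5, 2, 0, 2, 2, 0, 2, 1, 3, 1, 1] (T [8, 1, 3, 0, 8, 0, 8, 5, 2, 0, 0, 4, 2, 5, 0, 3] • P1) = T [8, 4, 1, 8, 4, 5, 3, 5, 2, 8, 0, 8, 8, 4, 4, 2, 2] • P1 := bwd (step (gens := S1) fix1 e1 (h := [8, 4, 1, 8, 4, 5, 3, 5, 2, 8, 0, 8, 8, 4, 4, 2, 2]) (g := [2, 5, 5, 1, 8, 5, 5, 3, 0, 3, 5, 1, 2]) (kw := [7, 3, 7, 5, 5, 3, 7]) (sl := [(0, true), (6, true), (3, false), (6, false), (7, false), (6, false)]) (by decide +kernel) (by decide +kernel) (by decide +kernel) (by decide +kernel)) (by decide +kernel)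
  have d0 : T [8, 4, 1, 8, 4, 5, 3, 5, 2, 8, 0, 8, 8, 4, 4, 2, 2] • P1 = mv [5, 3, 5, 7, 2, 2, 5, 7, 3, 5, 3, 3, 5, 2, 0, 2, 2, 0, 2, 1, 3, 1, 1] (T [8, 1, 3, 0, 8, 0, 8, 5, 2, 0, 0, 4, 2, 5, 0, 3] • P1) := b0.symm
  have b1 : mv [7, 0, 4, 2, 4, 1, 5, 7, 0, 3, 1, 4, 1, 3, 3, 1, 2, 1] (T [5, 3, 8, 0, 8, 4, 0, 8, 5, 5, 2, 4, 3, 0, 4, 0] • P3) = T [8, 1, 3, 0, 8, 0, 8, 5, 2, 0, 0, 4, 2, 5, 0, 3] • P1 := bwd (step (gens := S1) fix1 e14 (h := [8, 1, 3, 0, 8, 0, 8, 5, 2, 0, 0, 4, 2, 5, 0, 3]) (g := [0, 5, 1, 2, 5, 0, 3, 5]) (kw := [0, 1, 6, 4, 1]) (sl := [(5, true), (6, true), (1, true), (2, true), (5, true), (5, false), (6, false), (7, false), (5, false), (1, false)]) (by decide +kernel) (by decide +kernel) (by decide +kernel) (by decide +kernel)) (by decide +kernel)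
  have d1 : T [8, 4, 1, 8, 4, 5, 3, 5, 2, 8, 0, 8, 8, 4, 4, 2, 2] • P1 = mv [5, 3, 5, 7, 2, 2, 5, 7, 3, 5, 3, 3, 5, 2, 0, 2, 2, 0, 2, 1, 3, 1, 1] (mv [7, 0, 4, 2, 4, 1, 5, 7, 0, 3, 1, 4, 1, 3, 3, 1, 2, 1] (T [5, 3, 8, 0, 8, 4, 0, 8, 5, 5, 2, 4, 3, 0, 4, 0] • P3)) := d0.trans (congrArg (fun p => mv [5, 3, 5, 7, 2, 2, 5, 7, 3, 5, 3, 3, 5, 2, 0, 2, 2, 0, 2, 1, 3, 1, 1] (p)) b1.symm)
  have q2 : mv [2, 0, 3, 1, 3, 3, 1, 3, 4, 2, 2, 4, 2, 6, 4, 3, 3, 6, 4, 2, 4] (T [3, 4, 3, 0, 2, 0, 5] • P3) = T [5, 3, 8, 0, 8, 4, 0, 8, 5, 5, 2, 4, 3, 0, 4, 0] • P3 := (mv_inj _ (mv_inj _ (((congrArg (fun p => mv [5, 3, 5, 7, 2, 2, 5, 7, 3, 5, 3, 3, 5, 2, 0, 2, 2, 0, 2, 1, 3, 1, 1] (mv [7, 0, 4, 2, 4, 1, 5, 7, 0, 3, 1, 4, 1, 3, 3, 1, 2, 1] (mv [2, 0, 3, 1, 3, 3, 1, 3, 4, 2, 2, 4,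 2, 6, 4, 3, 3, 6, 4, 2, 4] (p)))) c0).symm.trans q0).trans d1)))
  have c : gz • T [8, 2, 4, 0, 8, 2, 5, 2, 2, 1, 2, 4, 0, 2, 0] • P3 = T [5, 3, 8, 0, 8, 4, 0, 8, 5, 5, 2, 4, 3, 0, 4, 0] • P3 := by
    rw [T_congr (show sameWord [8, 2, 4, 0, 8, 2, 5, 2, 2, 1, 2, 4, 0, 2, 0] ([2, 0, 3, 1, 3, 3, 1, 3, 4, 2, 2, 4, 2, 6, 4, 3, 3, 6, 4, 2, 4] ++ [3, 4, 3, 0, 2, 0, 5]) = true by decide +kernel), T_append, mul_smul]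
    exact q2
  exact c

theorem e46 : gz • T [4, 1, 8, 0, 8, 4, 0, 8, 0, 5, 5, 2, 2, 0, 5, 3, 3] • P3 = T [8, 3, 3, 1, 8, 0, 8, 4, 3, 5, 3, 0, 3, 4, 0, 2, 0] • P3 := by
  have q0 : mv [5, 1, 4, 2, 5, 7, 4, 1, 4, 0, 4, 3, 1, 3, 1, 2] (mv [2, 6] (mv [2, 2, 1, 3, 1, 2, 2, 5, 0, 4, 1, 5, 6, 5, 2, 2, 1, 4, 2, 1, 1] (mv [7, 3, 1, 1] (T [8, 3, 3, 5, 4, 1, 8, 1, 5, 8, 0, 3, 4, 5, 0] • P3)))) = T [8, 3, 3, 5, 4, 1, 8, 1, 5, 8, 0, 3, 4, 5, 0] • P3 := seq4 (seq_rot seg4_one 3) _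
  have f0 : mv [7, 3, 1, 1] (T [8, 3, 3, 5, 4, 1, 8, 1, 5, 8, 0, 3, 4, 5, 0] • P3) = T [8, 2, 1, 3, 5, 5, 1, 5, 2, 0] • P3 := fwd (step (gens := S3_3) fix3_3 e20 (h := [3, 1, 5, 2, 8, 0, 8, 1, 8, 3, 5, 2, 5, 0, 2, 5, 0, 3, 4]) (g := [8, 2, 1, 3, 5, 5, 1, 5, 2, 0]) (kw := [7, 6, 2, 6, 2, 7, 6, 5, 5]) (sl := [(0, true), (0, true), (0, true), (0, true), (1, false), (0, false), (2, false), (0, false), (0, false), (0, false), (0, false)]) (by decide +kernel) (by decide +kernel) (by decide +kernel) (by decide +kernel)) (by decide +kernel)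
  have c0 := f0
  have f1 : mv [2, 2, 1, 3, 1, 2, 2, 5, 0, 4, 1, 5, 6, 5, 2, 2, 1, 4, 2, 1, 1] (T [8, 2, 1, 3, 5, 5, 1, 5, 2, 0] • P3) = T [0, 3, 0, 8, 0, 8, 2, 1, 8, 5, 3, 1, 5, 2, 1, 2, 4, 2, 4] • P3 := fwd (step (gens := S3_3) fix3_3 e26 (h := [4, 8, 0, 8, 0, 3, 0, 8, 4, 0, 5, 3, 3, 0, 3, 0, 2, 5, 0]) (g := [0, 3, 0, 8, 0, 8, 2, 1, 8, 5, 3, 1, 5, 2, 1, 2, 4, 2, 4]) (kw := [6, 2, 7, 5, 7, 2, 6, 7, 1]) (sl := [(1, true), (1, true), (1, true), (2, true), (1, true), (0, false), (2, false), (1, false), (2, false), (2, false), (2, false), (0, false)]) (by decide +kernel) (by decide +kernel) (by decide +kernel) (by decide +kernel)) (by decide +kernel)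
  have c1 : mv [2, 2, 1, 3, 1, 2, 2, 5, 0, 4, 1, 5, 6, 5, 2, 2, 1, 4, 2, 1, 1] (mv [7, 3, 1, 1] (T [8, 3, 3, 5, 4, 1, 8, 1, 5, 8, 0, 3, 4, 5, 0] • P3)) = T [0, 3, 0, 8, 0, 8, 2, 1, 8, 5, 3, 1, 5, 2, 1, 2, 4, 2, 4] • P3 := (congrArg (mv [2, 2, 1, 3, 1, 2, 2, 5, 0, 4, 1, 5, 6, 5, 2, 2, 1, 4, 2, 1, 1]) c0).trans f1
  have f2 : mv [2, 6] (T [0, 3, 0, 8, 0, 8, 2, 1, 8, 5, 3, 1, 5, 2, 1, 2, 4, 2, 4] • P3) = T [1, 2, 4, 1, 8, 3, 1, 2, 1, 5, 2, 1, 5, 3] • P3 := fwd (step (gens := S3_3) fix3_3 e20 (h := [1, 8, 0, 8, 2, 1, 8, 4, 1, 2, 2, 1, 2, 4, 0, 3, 0, 2]) (g := [1, 2, 4, 1, 8, 3, 1, 2, 1, 5, 2, 1, 5, 3]) (kw := [6, 7, 2, 5, 3, 6, 5, 5, 5]) (sl := [(0, true), (0, true), (0, true), (0, true), (0, false), (2, false), (0, false), (2, false), (0, false), (2, false)]) (by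 decide +kernel) (by decide +kernel) (by decide +kernel) (by decide +kernel)) (by decide +kernel)
  have c2 : mv [2, 6] (mv [2, 2, 1, 3, 1, 2, 2, 5, 0, 4, 1, 5, 6, 5, 2, 2, 1, 4, 2, 1, 1] (mv [7, 3, 1, 1] (T [8, 3, 3, 5, 4, 1, 8, 1, 5, 8, 0, 3, 4, 5, 0] • P3))) = T [1, 2, 4, 1, 8, 3, 1, 2, 1, 5, 2, 1, 5, 3] • P3 := (congrArg (mv [2, 6]) c1).trans f2
  have q2 : mv [5, 1, 4, 2, 5, 7, 4, 1, 4, 0, 4, 3, 1, 3, 1, 2] (T [1, 2, 4, 1, 8, 3, 1, 2, 1, 5, 2, 1, 5, 3] • P3) = T [8, 3, 3, 5, 4, 1, 8, 1, 5, 8, 0, 3, 4, 5, 0] • P3 := ((congrArg (fun p => mv [5, 1, 4, 2, 5, 7, 4, 1, 4, 0, 4, 3, 1, 3, 1, 2] (p)) c2).symm.trans q0)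
  have c : gz • T [4, 1, 8, 0, 8, 4, 0, 8, 0, 5, 5, 2, 2, 0, 5, 3, 3] • P3 = T [8, 3, 3, 5, 4, 1, 8, 1, 5, 8, 0, 3, 4, 5, 0] • P3 := by
    rw [T_congr (show sameWord [4, 1, 8, 0, 8, 4, 0, 8, 0, 5, 5, 2, 2, 0, 5, 3, 3] ([5, 1, 4, 2, 5, 7, 4, 1, 4, 0, 4, 3, 1, 3, 1, 2] ++ [1, 2, 4, 1, 8, 3, 1, 2, 1, 5, 2, 1, 5, 3]) = true by decide +kernel), T_append, mul_smul]
    exact q2
  rw [T_congr (show sameWord [8, 3, 3, 1, 8, 0, 8, 4, 3, 5, 3, 0, 3, 4, 0, 2, 0] [8, 3, 3, 5, 4, 1, 8, 1, 5, 8, 0, 3, 4, 5, 0] = true by decide +kernel)]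
  exact c

theorem e47 : gz • T [8, 5, 5, 0, 8, 1, 8, 3, 5, 0, 3, 4, 1, 2, 2, 5, 2] • P3 = T [8, 0, 3, 4, 8, 0, 8, 0, 8, 5, 1, 4, 3, 0, 2, 4, 2, 4] • P3 := by
  have q0 : mv [5, 1, 4, 2, 5, 7, 4, 1, 4, 0, 4, 3, 1, 3, 1, 2] (mv [2, 6] (mv [2, 2, 1, 3, 1, 2, 2, 5, 0, 4, 1, 5, 6, 5, 2, 2, 1, 4, 2, 1, 1] (mv [7, 3, 1, 1] (T [4, 8, 0, 0, 4, 2, 1] • P2)))) = T [4, 8, 0, 0, 4, 2, 1] • P2 := seq4 (seq_rot seg4_one 3) _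
  have f0 : mv [7, 3, 1, 1] (T [4, 8, 0, 0, 4, 2, 1] • P2) = T [4, 1, 3, 4, 8, 1, 8, 0, 8, 1, 3, 4, 1, 2, 4, 0, 4, 2] • P3 := fwd (step (gens := S2_3) fix2_3 e33 (h := [8, 3, 1, 8, 5, 2, 2, 4, 1, 3, 5, 1]) (g := [4, 1, 3, 4, 8, 1, 8, 0, 8, 1, 3, 4, 1, 2, 4, 0, 4, 2]) (kw := [5, 6, 7, 1, 5, 4, 1]) (sl := [(0, true), (2, true), (2, true), (1, true), (0, true), (0, true), (1, true), (1, true), (2, false), (2, false), (0, false), (1, false), (2, false), (2, false), (1, false), (0, false)]) (by decide +kernel) (by decide +kernel) (by decide +kernel) (by decide +kernel)) (by decide +kernel)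
  have c0 := f0
  have f1 : mv [2, 2, 1, 3, 1, 2, 2, 5, 0, 4, 1, 5, 6, 5, 2, 2, 1, 4, 2, 1, 1] (T [4, 1, 3, 4, 8, 1, 8, 0, 8, 1, 3, 4, 1, 2, 4, 0, 4, 2] • P3) = T [4, 8, 1, 8, 4, 0, 8, 1, 8, 0, 3, 3, 4, 3, 1, 2, 0, 5, 3, 4] • P3 := fwd (step (gens := S3_3) fix3_3 e43 (h := [0, 8, 4, 0, 3, 8, 0, 8, 2, 5, 1, 2, 5, 2, 1, 4, 2, 2, 0, 2]) (g := [4, 8, 1, 8, 4, 0, 8, 1, 8, 0, 3, 3, 4, 3, 1, 2, 0, 5, 3, 4]) (kw := [2, 6, 7, 6, 2, 6, 3]) (sl := [(0, true), (2, true), (1, true), (1, true), (1, true), (2, true), (1, false), (0, false), (1, false), (1, false), (2, false), (1, false)]) (by decide +kernel) (by decide +kernel) (by decide +kernel) (by decide +kernel)) (by decide +kernel)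
  have c1 : mv [2, 2, 1, 3, 1, 2, 2, 5, 0, 4, 1, 5, 6, 5, 2, 2, 1, 4, 2, 1, 1] (mv [7, 3, 1, 1] (T [4, 8, 0, 0, 4, 2, 1] • P2)) = T [4, 8, 1, 8, 4, 0, 8, 1, 8, 0, 3, 3, 4, 3, 1, 2, 0, 5, 3, 4] • P3 := (congrArg (mv [2, 2, 1, 3, 1, 2, 2, 5, 0, 4, 1, 5, 6, 5, 2, 2, 1, 4, 2, 1, 1]) c0).trans f1
  have b0 : mv [5, 1, 4, 2, 5, 7, 4, 1, 4, 0, 4, 3, 1, 3, 1, 2] (T [8, 0, 3, 4, 8, 0, 8, 0, 8, 5, 1, 4, 3, 0, 2, 4, 2, 4] • P3) = T [4, 8, 0, 0, 4, 2, 1] • P2 := bwd (step (gens := S2_3) fix2_3 e33 (h := [4, 8, 0, 0, 4, 2, 1]) (g := [2, 5, 0, 8, 0, 4, 8, 2, 0, 8, 4, 3, 5, 5, 1, 3, 3, 1, 3, 4]) (kw := [7, 3, 1, 6, 5, 7, 5, 5, 0]) (sl := [(0, true), (2, true), (2, true), (1, true), (0, true), (0, true), (1, true), (1, true), (1, false), (0, false), (2, false), (0, false), (1,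 false)]) (by decide +kernel) (by decide +kernel) (by decide +kernel) (by decide +kernel)) (by decide +kernel)
  have d0 : T [4, 8, 0, 0, 4, 2, 1] • P2 = mv [5, 1, 4, 2, 5, 7, 4, 1, 4, 0, 4, 3, 1, 3, 1, 2] (T [8, 0, 3, 4, 8, 0, 8, 0, 8, 5, 1, 4, 3, 0, 2, 4, 2, 4] • P3) := b0.symm
  have q2 : mv [2, 6] (T [4, 8, 1, 8, 4, 0, 8, 1, 8, 0, 3, 3, 4, 3, 1, 2, 0, 5, 3, 4] • P3) = T [8, 0, 3, 4, 8, 0, 8, 0, 8, 5, 1, 4, 3, 0, 2, 4, 2, 4] • P3 := (mv_inj _ (((congrArg (fun p => mv [5, 1, 4, 2, 5, 7, 4, 1, 4, 0, 4, 3, 1, 3, 1, 2] (mv [2, 6] (p))) c1).symm.trans q0).trans d0))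
  have c : gz • T [8, 5, 5, 0, 8, 1, 8, 3, 5, 0, 3, 4, 1, 2, 2, 5, 2] • P3 = T [8, 0, 3, 4, 8, 0, 8, 0, 8, 5, 1, 4, 3, 0, 2, 4, 2, 4] • P3 := by
    rw [T_congr (show sameWord [8, 5, 5, 0, 8, 1, 8, 3, 5, 0, 3, 4, 1, 2, 2, 5, 2] ([2, 6] ++ [4, 8, 1, 8, 4, 0, 8, 1, 8, 0, 3, 3, 4, 3, 1, 2, 0, 5, 3, 4]) = true by decide +kernel), T_append, mul_smul]
    exact q2
  exact c

theorem e48 : gz • T [4, 8, 1, 8, 1, 8, 1, 8, 2, 5, 0, 4, 0, 5, 0, 3, 4, 0] • P3 = T [2, 1, 8, 4, 0, 8, 2, 1, 3, 5, 3, 0, 5, 2] • P2 := by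
  have q0 : mv [5, 1, 4, 2, 5, 7, 4, 1, 4, 0, 4, 3, 1, 3, 1, 2] (mv [2, 6] (mv [2, 2, 1, 3, 1, 2, 2, 5, 0, 4, 1, 5, 6, 5, 2, 2, 1, 4, 2, 1, 1] (mv [7, 3, 1, 1] (T [8, 3, 1, 4, 8, 0, 8, 5, 1, 5, 2, 1, 4, 3, 0, 3, 3, 0] • P2)))) = T [8, 3, 1, 4, 8, 0, 8, 5, 1, 5, 2, 1, 4, 3, 0, 3, 3, 0] • P2 := seq4 (seq_rot seg4_one 3) _
  have f0 : mv [7, 3, 1, 1] (T [8, 3, 1, 4, 8, 0, 8, 5, 1, 5, 2, 1, 4, 3, 0, 3, 3, 0] • P2) = T [3, 3, 4, 1, 2, 2, 1, 5, 0] • P2 := fwd (step (gens := S2_3) fix2_3 e8 (h := [3, 0, 0]) (g := [3, 3, 4, 1, 2, 2, 1, 5, 0]) (kw := [7, 0, 7, 5, 5, 5, 3, 6, 5]) (sl := [(1, true)]) (by decide +kernel) (by decide +kernel) (by decide +kernel) (by decide +kernel)) (by decide +kernel)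
  have c0 := f0
  have f1 : mv [2, 2, 1, 3, 1, 2, 2, 5, 0, 4, 1, 5, 6, 5, 2, 2, 1, 4, 2, 1, 1] (T [3, 3, 4, 1, 2, 2, 1, 5, 0] • P2) = T [0, 2, 4, 4, 0, 8, 0, 8, 4, 4, 3, 4, 1, 2, 2, 1, 4, 0] • P3 := fwd (step (gens := S2_3) fix2_3 e36 (h := [4, 8, 0, 5, 3, 8, 1, 8, 0, 8, 2, 2, 0, 3, 4, 1, 4, 4, 3]) (g := [0, 2, 4, 4, 0, 8, 0, 8, 4, 4, 3, 4, 1, 2, 2, 1, 4, 0]) (kw := [6, 1, 6, 2, 0, 0]) (sl := [(2, true), (2, true), (0, true), (1, true), (1, true), (0, true), (0, true), (1, false), (1, false), (0, false), (2, false), (2, false), (1, false), (2, false)]) (by decide +kernel) (by decide +kernel) (by decide +kernel) (by decide +kernel)) (by decide +kernel)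
  have c1 : mv [2, 2, 1, 3, 1, 2, 2, 5, 0, 4, 1, 5, 6, 5, 2, 2, 1, 4, 2, 1, 1] (mv [7, 3, 1, 1] (T [8, 3, 1, 4, 8, 0, 8, 5, 1, 5, 2, 1, 4, 3, 0, 3, 3, 0] • P2)) = T [0, 2, 4, 4, 0, 8, 0, 8, 4, 4, 3, 4, 1, 2, 2, 1, 4, 0] • P3 := (congrArg (mv [2, 2, 1, 3, 1, 2, 2, 5, 0, 4, 1, 5, 6, 5, 2, 2, 1, 4, 2, 1, 1]) c0).trans f1
  have b0 : mv [5, 1, 4, 2, 5, 7, 4, 1, 4, 0, 4, 3, 1, 3, 1, 2] (T [2, 1, 8, 4, 0, 8, 2, 1, 3, 5, 3, 0, 5, 2] • P2) = T [8, 3, 1, 4, 8, 0, 8, 5, 1, 5, 2, 1, 4, 3, 0, 3, 3, 0] • P2 := bwd (step (gens := S2_3) fix2_3 e12 (h := [8, 3, 1, 4, 8, 0, 8, 5, 1, 5, 2, 1, 4, 3, 0, 3, 3, 0]) (g := [1, 8, 1, 2, 0, 8, 0, 8, 4, 0, 2, 2, 5, 0, 2, 5, 2, 4, 0]) (kw := []) (sl := [(1, true), (0, true), (0, true), (2, true), (2, false), (0, false), (0, false), (1,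 false)]) (by decide +kernel) (by decide +kernel) (by decide +kernel) (by decide +kernel)) (by decide +kernel)
  have d0 : T [8, 3, 1, 4, 8, 0, 8, 5, 1, 5, 2, 1, 4, 3, 0, 3, 3, 0] • P2 = mv [5, 1, 4, 2, 5, 7, 4, 1, 4, 0, 4, 3, 1, 3, 1, 2] (T [2, 1, 8, 4, 0, 8, 2, 1, 3, 5, 3, 0, 5, 2] • P2) := b0.symm
  have q2 : mv [2, 6] (T [0, 2, 4, 4, 0, 8, 0, 8, 4, 4, 3, 4, 1, 2, 2, 1, 4, 0] • P3) = T [2, 1, 8, 4, 0, 8, 2, 1, 3, 5, 3, 0, 5, 2] • P2 := (mv_inj _ (((congrArg (fun p => mv [5, 1, 4, 2, 5, 7, 4, 1, 4, 0, 4, 3, 1, 3, 1, 2] (mv [2, 6] (p))) c1).symm.trans q0).trans d0))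
  have c : gz • T [4, 8, 1, 8, 1, 8, 1, 8, 2, 5, 0, 4, 0, 5, 0, 3, 4, 0] • P3 = T [2, 1, 8, 4, 0, 8, 2, 1, 3, 5, 3, 0, 5, 2] • P2 := by
    rw [T_congr (show sameWord [4, 8, 1, 8, 1, 8, 1, 8, 2, 5, 0, 4, 0, 5, 0, 3, 4, 0] ([2, 6] ++ [0, 2, 4, 4, 0, 8, 0, 8, 4, 4, 3, 4, 1, 2, 2, 1, 4, 0]) = true by decide +kernel), T_append, mul_smul]
    exact q2
  exact c

theorem e49 : gz • T [2, 1, 8, 4, 0, 8, 2, 1, 3, 5, 3, 0, 5, 2] • P2 = T [0, 2, 0, 4, 8, 0, 8, 0, 8, 1, 3, 1, 4, 2, 0, 3, 3, 5, 3] • P3 := by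
  rw [T_congr (show sameWord [2, 1, 8, 4, 0, 8, 2, 1, 3, 5, 3, 0, 5, 2] [2, 1, 8, 4, 0, 8, 2, 1, 3, 5, 3, 0, 5, 2] = true by decide +kernel)]
  exact edge_symm e48 (by decide +kernel)

theorem e50 : gz • T [1, 5, 3, 0, 8, 1, 8, 2, 0, 8, 0, 4, 3, 0, 3, 5, 1, 2, 5, 0, 2] • P3 = T [1, 4, 8, 5, 1, 8, 0, 8, 1, 5, 1, 2, 5, 2, 1, 2, 2, 4] • P3 := by
  have q0 : mv [1, 6, 3, 5, 1, 2, 5, 7, 2, 5, 3, 1, 5, 0, 3, 0, 2, 0, 3] (mv [1, 5, 7, 0, 5, 3, 0, 5, 7, 1, 5, 0, 4, 3, 3, 5, 3, 1, 3, 3] (mv [5, 7, 1, 5, 1, 2, 5, 7] (T [5, 5, 8, 4, 4, 0] • P2))) = T [5, 5, 8, 4, 4, 0] • P2 := seq3 (seq_rot seg1_one 0) _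
  have f0 : mv [5, 7, 1, 5, 1, 2, 5, 7] (T [5, 5, 8, 4, 4, 0] • P2) = T [5, 1, 4, 8, 2, 1, 8, 1, 8, 2, 2, 5, 1, 3, 0, 5, 3, 0] • P3 := fwd (step (gens := S2_3) fix2_3 e28 (h := [0, 4, 2, 0, 8, 0, 8, 1, 3, 3, 5, 2, 0, 2, 0, 5, 2, 2]) (g := [5, 1, 4, 8, 2, 1, 8, 1, 8, 2, 2, 5, 1, 3, 0, 5, 3, 0]) (kw := [1, 7, 0, 1, 5, 5]) (sl := [(0, true), (2, true), (1, true), (2, true), (1, true), (1, true), (0, true), (2, true), (0, true), (1, true), (2, false), (1, false), (0, false), (2, false), (2, false), (1, false), (2, false)]) (by decide +kernel) (by decide +kernel) (by decide +kernel) (by decide +kernel)) (by decide +kernel)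
  have c0 := f0
  have b0 : mv [1, 6, 3, 5, 1, 2, 5, 7, 2, 5, 3, 1, 5, 0, 3, 0, 2, 0, 3] (T [1, 4, 8, 5, 1, 8, 0, 8, 1, 5, 1, 2, 5, 2, 1, 2, 2, 4] • P3) = T [5, 5, 8, 4, 4, 0] • P2 := bwd (step (gens := S2_3) fix2_3 e33 (h := [5, 5, 8, 4, 4, 0]) (g := [4, 2, 8, 1, 4, 8, 0, 8, 3, 5, 1, 2, 5, 2, 0, 4, 0, 0]) (kw := [5, 7, 5, 2, 6, 7, 5, 1]) (sl := [(0, true), (2, true), (2, true), (1, true), (0, true), (0, true), (1, true), (1, true), (1, false), (0, false), (2, false), (0, false), (1, false)]) (by decide +kernel) (by decide +kernel) (by decide +kernel) (by decide +kernel)) (by decide +kernel)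
  have d0 : T [5, 5, 8, 4, 4, 0] • P2 = mv [1, 6, 3, 5, 1, 2, 5, 7, 2, 5, 3, 1, 5, 0, 3, 0, 2, 0, 3] (T [1, 4, 8, 5, 1, 8, 0, 8, 1, 5, 1, 2, 5, 2, 1, 2, 2, 4] • P3) := b0.symm
  have q2 : mv [1, 5, 7, 0, 5, 3, 0, 5, 7, 1, 5, 0, 4, 3, 3, 5, 3, 1, 3, 3] (T [5, 1, 4, 8, 2, 1, 8, 1, 8, 2, 2, 5, 1, 3, 0, 5, 3, 0] • P3) = T [1, 4, 8, 5, 1, 8, 0, 8, 1, 5, 1, 2, 5, 2, 1, 2, 2, 4] • P3 := (mv_inj _ (((congrArg (fun p => mv [1, 6, 3, 5, 1, 2, 5, 7, 2, 5, 3, 1, 5, 0, 3, 0, 2, 0, 3] (mv [1, 5, 7, 0, 5, 3, 0, 5, 7, 1, 5, 0, 4, 3, 3, 5, 3, 1, 3, 3] (p))) c0).symm.trans q0).trans d0))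
  have c : gz • T [1, 5, 3, 0, 8, 1, 8, 2, 0, 8, 0, 4, 3, 0, 3, 5, 1, 2, 5, 0, 2] • P3 = T [1, 4, 8, 5, 1, 8, 0, 8, 1, 5, 1, 2, 5, 2, 1, 2, 2, 4] • P3 := by
    rw [T_congr (show sameWord [1, 5, 3, 0, 8, 1, 8, 2, 0, 8, 0, 4, 3, 0, 3, 5, 1, 2, 5, 0, 2] ([1, 5, 7, 0, 5, 3, 0, 5, 7, 1, 5, 0, 4, 3, 3, 5, 3, 1, 3, 3] ++ [5, 1, 4, 8, 2, 1, 8, 1, 8, 2, 2, 5, 1, 3, 0, 5, 3, 0]) = true by decide +kernel), T_append, mul_smul]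
    exact q2
  exact c

theorem e51 : gz • T [4, 0, 3, 8, 2, 0, 4, 8, 0, 8, 3, 4, 0, 3, 3, 4, 0, 4, 3, 0] • P3 = T [3, 1, 8, 4, 0, 4, 8, 0, 8, 4, 3, 3, 4, 1, 5, 2, 5, 1, 3] • P3 := by
  have q0 : mv [5, 7, 1, 5, 1, 2, 5, 7] (mv [1, 6, 3, 5, 1, 2, 5, 7, 2, 5, 3, 1, 5, 0, 3, 0, 2, 0, 3] (mv [1, 5, 7, 0, 5, 3, 0, 5, 7, 1, 5, 0, 4, 3, 3, 5, 3, 1, 3, 3] (T [3, 2, 4, 8, 8, 1, 0, 2, 8, 5, 2, 5] • P2))) = T [3, 2, 4, 8, 8, 1, 0, 2, 8, 5, 2, 5] • P2 := seq3 (seq_rot seg1_one 2) _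
  have f0 : mv [1, 5, 7, 0, 5, 3, 0, 5, 7, 1, 5, 0, 4, 3, 3, 5, 3, 1, 3, 3] (T [3, 2, 4, 8, 8, 1, 0, 2, 8, 5, 2, 5] • P2) = T [5, 0, 8, 1, 3, 8, 1, 8, 5, 1, 5, 2, 0, 2, 5, 2, 5] • P3 := fwd (step (gens := S2_3) fix2_3 e23 (h := [2, 0, 8, 5, 1, 8, 1, 5, 2, 1, 4, 1, 3, 1, 5]) (g := [5, 0, 8, 1, 3, 8, 1, 8, 5, 1, 5, 2, 0, 2, 5, 2, 5]) (kw := [6, 5, 7, 5, 2, 0, 2, 0]) (sl := [(2, true), (1, true), (2, true), (0, true), (1, true), (0, true), (2, true), (1, true), (0, true), (0, false), (0, false)]) (by decide +kernel) (by decide +kernel) (by decide +kernel) (by decide +kernel)) (by decide +kernel)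
  have c0 := f0
  have b0 : mv [5, 7, 1, 5, 1, 2, 5, 7] (T [3, 1, 8, 4, 0, 4, 8, 0, 8, 4, 3, 3, 4, 1, 5, 2, 5, 1, 3] • P3) = T [3, 2, 4, 8, 8, 1, 0, 2, 8, 5, 2, 5] • P2 := bwd (step (gens := S2_3) fix2_3 e30 (h := [3, 2, 4, 8, 8, 1, 0, 2, 8, 5, 2, 5]) (g := [1, 4, 1, 5, 8, 1, 8, 3, 4, 3, 0, 2, 5, 5, 0, 4]) (kw := [5, 7, 3, 2, 7]) (sl := [(2, true), (2, true), (2, true), (1, true), (2, true), (1, true), (0, true), (0, false), (0, false)]) (by decide +kernel) (by decide +kernel) (by decide +kernel) (by decide +kernel)) (by decide +kernel)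
  have d0 : T [3, 2, 4, 8, 8, 1, 0, 2, 8, 5, 2, 5] • P2 = mv [5, 7, 1, 5, 1, 2, 5, 7] (T [3, 1, 8, 4, 0, 4, 8, 0, 8, 4, 3, 3, 4, 1, 5, 2, 5, 1, 3] • P3) := b0.symm
  have q2 : mv [1, 6, 3, 5, 1, 2, 5, 7, 2, 5, 3, 1, 5, 0, 3, 0, 2, 0, 3] (T [5, 0, 8, 1, 3, 8, 1, 8, 5, 1, 5, 2, 0, 2, 5, 2, 5] • P3) = T [3, 1, 8, 4, 0, 4, 8, 0, 8, 4, 3, 3, 4, 1, 5, 2, 5, 1, 3] • P3 := (mv_inj _ (((congrArg (fun p => mv [5, 7, 1, 5, 1, 2, 5, 7] (mv [1, 6, 3, 5, 1, 2, 5, 7, 2, 5, 3, 1, 5, 0, 3, 0, 2, 0, 3] (p))) c0).symm.trans q0).trans d0))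
  have c : gz • T [4, 0, 3, 8, 2, 0, 4, 8, 0, 8, 3, 4, 0, 3, 3, 4, 0, 4, 3, 0] • P3 = T [3, 1, 8, 4, 0, 4, 8, 0, 8, 4, 3, 3, 4, 1, 5, 2, 5, 1, 3] • P3 := by
    rw [T_congr (show sameWord [4, 0, 3, 8, 2, 0, 4, 8, 0, 8, 3, 4, 0, 3, 3, 4, 0, 4, 3, 0] ([1, 6, 3, 5, 1, 2, 5, 7, 2, 5, 3, 1, 5, 0, 3, 0, 2, 0, 3] ++ [5, 0, 8, 1, 3, 8, 1, 8, 5, 1, 5, 2, 0, 2, 5, 2, 5]) = true by decide +kernel), T_append, mul_smul]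
    exact q2
  exact c

theorem e52 : gz • T [1, 3, 0, 8, 3, 0, 8, 0, 5, 3, 4, 3, 4, 0, 2, 0] • P3 = T [5, 5, 0, 8, 2, 4, 0, 8, 3, 1, 5, 3, 3, 1, 3, 5, 0, 4] • P3 := by
  have q0 : mv [0, 0, 3, 3, 0, 2, 2] (mv [3, 3, 0, 2, 2] (mv [3, 3, 0, 2, 2] (T [8, 5, 4, 3, 0, 2, 3, 5, 5, 8] • P3))) = T [8, 5, 4, 3, 0, 2, 3, 5, 5, 8] • P3 := seq3 (seq_rot seg0_one 2) _
  have b0 : mv [0, 0, 3, 3, 0, 2, 2] (T [8, 0, 5, 8, 1, 8, 3, 0, 3, 4, 1, 4, 2, 2, 5, 2, 0] • P2) = T [8, 5, 4, 3, 0, 2, 3, 5, 5, 8] • P3 := bwd (step (gens := S3_3) fix3_3 e32 (h := [8, 5, 4, 3, 0, 2, 3, 5, 5, 8]) (g := [3, 5, 5, 0, 8, 1, 8, 0, 8, 4, 3, 1, 2, 5, 0, 3, 5, 3, 3, 1]) (kw := [6, 2, 6, 7, 6, 3, 2]) (sl := [(1, true), (1, true), (1, true), (2, true), (1, true), (1, false), (1, false)]) (by decide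 +kernel) (by decide +kernel) (by decide +kernel) (by decide +kernel)) (by decide +kernel)
  have d0 : T [8, 5, 4, 3, 0, 2, 3, 5, 5, 8] • P3 = mv [0, 0, 3, 3, 0, 2, 2] (T [8, 0, 5, 8, 1, 8, 3, 0, 3, 4, 1, 4, 2, 2, 5, 2, 0] • P2) := b0.symm
  have b1 : mv [3, 3, 0, 2, 2] (T [5, 5, 0, 8, 2, 4, 0, 8, 3, 1, 5, 3, 3, 1, 3, 5, 0, 4] • P3) = T [8, 0, 5, 8, 1, 8, 3, 0, 3, 4, 1, 4, 2, 2, 5, 2, 0] • P2 := bwd (step (gens := S2_3) fix2_3 e31 (h := [8, 0, 5, 8, 1, 8, 3, 0, 3, 4, 1, 4, 2, 2, 5, 2, 0]) (g := [3, 4, 4, 0, 8, 0, 8, 1, 2, 1, 3, 5, 1, 3, 4, 1, 2, 0]) (kw := [3, 5, 6, 7, 0, 6, 7]) (sl := [(0, true), (2, true), (2, true), (1, true), (0, true), (1, true), (2, true), (0, false), (2, false), (0, false), (1, false), (1, false), (2, false), (0, false), (1, false)]) (by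 decide +kernel) (by decide +kernel) (by decide +kernel) (by decide +kernel)) (by decide +kernel)
  have d1 : T [8, 5, 4, 3, 0, 2, 3, 5, 5, 8] • P3 = mv [0, 0, 3, 3, 0, 2, 2] (mv [3, 3, 0, 2, 2] (T [5, 5, 0, 8, 2, 4, 0, 8, 3, 1, 5, 3, 3, 1, 3, 5, 0, 4] • P3)) := d0.trans (congrArg (fun p => mv [0, 0, 3, 3, 0, 2, 2] (p)) b1.symm)
  have q2 : mv [3, 3, 0, 2, 2] (T [8, 5, 4, 3, 0, 2, 3, 5, 5, 8] • P3) = T [5, 5, 0, 8, 2, 4, 0, 8, 3, 1, 5, 3, 3, 1, 3, 5, 0, 4] • P3 := (mv_inj _ (mv_inj _ (q0.trans d1)))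
  have c : gz • T [1, 3, 0, 8, 3, 0, 8, 0, 5, 3, 4, 3, 4, 0, 2, 0] • P3 = T [5, 5, 0, 8, 2, 4, 0, 8, 3, 1, 5, 3, 3, 1, 3, 5, 0, 4] • P3 := by
    rw [T_congr (show sameWord [1, 3, 0, 8, 3, 0, 8, 0, 5, 3, 4, 3, 4, 0, 2, 0] ([3, 3, 0, 2, 2] ++ [8, 5, 4, 3, 0, 2, 3, 5, 5, 8]) = true by decide +kernel), T_append, mul_smul]
    exact q2
  exact c

theorem e53 : gz • T [8, 3, 1, 4, 8, 4, 0, 8, 4, 0, 2, 4, 2, 2, 5, 5, 0, 2, 0] • P3 = T [8, 5, 1, 8, 3, 1, 8, 5, 3, 1, 2, 5, 2, 2, 5, 1, 3] • P3 := by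
  have q0 : mv [5, 1, 4, 2, 5, 7, 4, 1, 4, 0, 4, 3, 1, 3, 1, 2] (mv [2, 6] (mv [2, 2, 1, 3, 1, 2, 2, 5, 0, 4, 1, 5, 6, 5, 2, 2, 1, 4, 2, 1, 1] (mv [7, 3, 1, 1] (T [1, 5, 1, 5, 3, 8, 5, 5, 2, 8, 1, 1, 3, 0, 0, 3, 8, 5, 0, 1] • P3)))) = T [1, 5, 1, 5, 3, 8, 5, 5, 2, 8, 1, 1, 3, 0, 0, 3, 8, 5, 0, 1] • P3 := seq4 (seq_rot seg4_one 3) _
  have b0 : mv [5, 1, 4, 2, 5, 7, 4, 1, 4, 0, 4, 3, 1, 3, 1, 2] (T [5, 0, 8, 4, 0, 3, 8, 1, 8, 3, 3, 0, 5, 3, 3, 4, 4] • P2) = T [1, 5, 1, 5, 3, 8, 5, 5, 2, 8, 1, 1, 3, 0, 0, 3, 8, 5, 0, 1] • P3 := bwd (step (gens := S3_3) fix3_3 e29 (h := [1, 5, 1, 5, 3, 8, 5, 5, 2, 8, 1, 1, 3, 0, 0, 3, 8, 5, 0, 1]) (g := [4, 1, 1, 8, 1, 2, 8, 0, 8, 0, 3, 4, 1, 2, 1, 4, 2, 2, 0, 4]) (kw := [6, 5, 7, 5, 2, 5, 7, 4]) (sl := [(2, true), (2, true), (1,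 true)]) (by decide +kernel) (by decide +kernel) (by decide +kernel) (by decide +kernel)) (by decide +kernel)
  have d0 : T [1, 5, 1, 5, 3, 8, 5, 5, 2, 8, 1, 1, 3, 0, 0, 3, 8, 5, 0, 1] • P3 = mv [5, 1, 4, 2, 5, 7, 4, 1, 4, 0, 4, 3, 1, 3, 1, 2] (T [5, 0, 8, 4, 0, 3, 8, 1, 8, 3, 3, 0, 5, 3, 3, 4, 4] • P2) := b0.symm
  have b1 : mv [2, 6] (T [5, 5, 1, 2, 0, 8, 0, 8, 0, 4, 3, 0, 2, 5, 1, 5, 2, 2] • P2) = T [5, 0, 8, 4, 0, 3, 8, 1, 8, 3, 3, 0, 5, 3, 3, 4, 4] • P2 := bwd (step (gens := S2_3) fix2_3 e11 (h := [5, 0, 8, 4, 0, 3, 8, 1, 8, 3, 3, 0, 5, 3, 3, 4, 4]) (g := [2, 1, 4, 0, 8, 0, 8, 1, 8, 4, 1, 3, 3, 1, 4, 2, 4, 0, 4, 0]) (kw := [2, 2, 5, 7, 6, 5, 1]) (sl := [(2, true), (1, true), (1, true), (0, true), (0, false), (2, false), (2, false), (1, false), (1, false),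 (2, false)]) (by decide +kernel) (by decide +kernel) (by decide +kernel) (by decide +kernel)) (by decide +kernel)
  have d1 : T [1, 5, 1, 5, 3, 8, 5, 5, 2, 8, 1, 1, 3, 0, 0, 3, 8, 5, 0, 1] • P3 = mv [5, 1, 4, 2, 5, 7, 4, 1, 4, 0, 4, 3, 1, 3, 1, 2] (mv [2, 6] (T [5, 5, 1, 2, 0, 8, 0, 8, 0, 4, 3, 0, 2, 5, 1, 5, 2, 2] • P2)) := d0.trans (congrArg (fun p => mv [5, 1, 4, 2, 5, 7, 4, 1, 4, 0, 4, 3, 1, 3, 1, 2] (p)) b1.symm)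
  have b2 : mv [2, 2, 1, 3, 1, 2, 2, 5, 0, 4, 1, 5, 6, 5, 2, 2, 1, 4, 2, 1, 1] (T [8, 5, 1, 8, 3, 1, 8, 5, 3, 1, 2, 5, 2, 2, 5, 1, 3] • P3) = T [5, 5, 1, 2, 0, 8, 0, 8, 0, 4, 3, 0, 2, 5, 1, 5, 2, 2] • P2 := bwd (step (gens := S2_3) fix2_3 e36 (h := [5, 5, 1, 2, 0, 8, 0, 8, 0, 4, 3, 0, 2, 5, 1, 5, 2, 2]) (g := [2, 5, 1, 4, 8, 0, 8, 4, 3, 3, 4, 4, 1, 4, 2, 1, 4]) (kw := [5, 5, 5, 5, 5, 2, 0, 0]) (sl := [(2, true), (2, true), (0, true), (1, true), (1, true), (0, true), (0, true), (2, false), (1, false), (0, false), (2, false), (2, false), (2, false)]) (by decide +kernel) (by decide +kernel) (by decide +kernel) (by decide +kernel)) (by decide +kernel)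
  have d2 : T [1, 5, 1, 5, 3, 8, 5, 5, 2, 8, 1, 1, 3, 0, 0, 3, 8, 5, 0, 1] • P3 = mv [5, 1, 4, 2, 5, 7, 4, 1, 4, 0, 4, 3, 1, 3, 1, 2] (mv [2, 6] (mv [2, 2, 1, 3, 1, 2, 2, 5, 0, 4, 1, 5, 6, 5, 2, 2, 1, 4, 2, 1, 1] (T [8, 5, 1, 8, 3, 1, 8, 5, 3, 1, 2, 5, 2, 2, 5, 1, 3] • P3))) := d1.trans (congrArg (fun p => mv [5, 1, 4, 2, 5, 7, 4, 1, 4, 0, 4, 3, 1, 3, 1, 2] (mv [2, 6] (p))) b2.symm)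
  have q2 : mv [7, 3, 1, 1] (T [1, 5, 1, 5, 3, 8, 5, 5, 2, 8, 1, 1, 3, 0, 0, 3, 8, 5, 0, 1] • P3) = T [8, 5, 1, 8, 3, 1, 8, 5, 3, 1, 2, 5, 2, 2, 5, 1, 3] • P3 := (mv_inj _ (mv_inj _ (mv_inj _ (q0.trans d2))))
  have c : gz • T [8, 3, 1, 4, 8, 4, 0, 8, 4, 0, 2, 4, 2, 2, 5, 5, 0, 2, 0] • P3 = T [8, 5, 1, 8, 3, 1, 8, 5, 3, 1, 2, 5, 2, 2, 5, 1, 3] • P3 := by
    rw [T_congr (show sameWord [8, 3, 1, 4, 8, 4, 0, 8, 4, 0, 2, 4, 2, 2, 5, 5, 0, 2, 0] ([7, 3, 1, 1] ++ [1, 5, 1, 5, 3, 8, 5, 5, 2, 8, 1, 1, 3, 0, 0, 3, 8, 5, 0, 1]) = true by decide +kernel), T_append, mul_smul]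
    exact q2
  exact c

theorem e54 : gz • T [8, 5, 1, 8, 3, 1, 8, 5, 3, 1, 2, 5, 2, 2, 5, 1, 3] • P3 = T [8, 3, 1, 2, 4, 8, 0, 8, 1, 5, 2, 2, 1, 4, 3, 1, 3, 5] • P3 := by
  rw [T_congr (show sameWord [8, 5, 1, 8, 3, 1, 8, 5, 3, 1, 2, 5, 2, 2, 5, 1, 3] [8, 5, 1, 8, 3, 1, 8, 5, 3, 1, 2, 5, 2, 2, 5, 1, 3] = true by decide +kernel)]
  exact edge_symm e53 (by decide +kernel)

theorem e55 : gz • T [0, 3, 8, 2, 0, 5, 8, 0, 8, 1, 3, 3, 1, 3, 5, 0, 2, 4, 0] • P1 = T [] • P4 := by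
  rw [T_nil, one_smul]
  rfl

theorem e56 : gz • T [] • P4 = T [0, 5, 8, 1, 4, 8, 4, 1, 8, 1, 1, 2, 4, 3, 3, 5, 2] • P1 := by
  rw [T_congr (show sameWord [] [] = true by decide +kernel)]
  exact edge_symm e55 (by decide +kernel)

theorem s57 : T [1, 5, 2, 1, 3, 0, 4, 0] • P4 = P4 := by
  exact transport (gens := S1) fix1 e55 (kw := [7, 5, 3, 0, 7, 1, 6]) (sl := [(0, false), (5, false), (6, false), (7, true), (5, true), (0, true)]) (by decide +kernel) (by decide +kernel) (by decide +kernel) (by decide +kernel)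

def S4_1 : List (List ℕ) := [[1, 5, 2, 1, 3, 0, 4, 0]]

theorem fix4_1 : Fix S4_1 P4 := by
  intro w hw
  simp only [S4_1, List.mem_cons, List.not_mem_nil, or_false] at hw
  subst hw
  exact s57

theorem s58 : T [5, 0, 3, 0, 2, 4, 4, 2, 0, 5, 0] • P4 = P4 := by
  exact transport (gens := S1) fix1 e55 (kw := [6, 4, 5, 7, 5, 2, 1]) (sl := [(6, false), (4, false), (7, true), (2, true), (1, true)]) (by decide +kernel) (by decide +kernel) (by decide +kernel) (by decide +kernel)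

def S4_2 : List (List ℕ) := [[1, 5, 2, 1, 3, 0, 4, 0], [5, 0, 3, 0, 2, 4, 4, 2, 0, 5, 0]]

theorem fix4_2 : Fix S4_2 P4 := by
  intro w hw
  simp only [S4_2, List.mem_cons, List.not_mem_nil, or_false] at hw
  rcases hw with rfl | rfl
  exacts [s57, s58]

theorem s59 : T [4, 3, 0, 2, 0, 4, 3, 1, 3, 3, 0] • P4 = P4 := by
  exact transport (gens := S1) fix1 e55 (kw := [0, 7, 5, 6, 7, 5, 2, 6]) (sl := [(1, false), (4, false), (4, false), (7, true), (5, true), (1, true)]) (by decide +kernel) (by decide +kernel) (by decide +kernel) (by decide +kernel)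

def S4_3 : List (List ℕ) := [[1, 5, 2, 1, 3, 0, 4, 0], [5, 0, 3, 0, 2, 4, 4, 2, 0, 5, 0], [4, 3, 0, 2, 0, 4, 3, 1, 3, 3, 0]]

theorem fix4_3 : Fix S4_3 P4 := by
  intro w hw
  simp only [S4_3, List.mem_cons, List.not_mem_nil, or_false] at hw
  rcases hw with rfl | rfl | rfl
  exacts [s57, s58, s59]

theorem s60 : T [2, 4, 0, 2, 4, 2, 1, 2, 5, 1] • P4 = P4 := by
  exact transport (gens := S1) fix1 e55 (kw := [3, 7, 6, 3, 2, 7, 0]) (sl := [(1, false), (3, false), (6, true), (4, true), (2, true)]) (by decide +kernel) (by decide +kernel) (by decide +kernel) (by decide +kernel)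

def S4_4 : List (List ℕ) := [[1, 5, 2, 1, 3, 0, 4, 0], [5, 0, 3, 0, 2, 4, 4, 2, 0, 5, 0], [4, 3, 0, 2, 0, 4, 3, 1, 3, 3, 0], [2, 4, 0, 2, 4, 2, 1, 2, 5, 1]]

theorem fix4_4 : Fix S4_4 P4 := by
  intro w hw
  simp only [S4_4, List.mem_cons, List.not_mem_nil, or_false] at hw
  rcases hw with rfl | rfl | rfl | rfl
  exacts [s57, s58, s59, s60]

theorem e61 : gz • T [8, 3, 1, 4, 8, 0, 8, 3, 5, 5, 3, 3, 0, 5, 3, 3] • P4 = T [3, 3, 5, 0, 8, 1, 8, 0, 8, 3, 5, 0, 3, 4, 1, 2] • P2 := by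
  have q0 : mv [7, 3, 1, 1] (mv [5, 1, 4, 2, 5, 7, 4, 1, 4, 0, 4, 3, 1, 3, 1, 2] (mv [2, 6] (mv [2, 2, 1, 3, 1, 2, 2, 5, 0, 4, 1, 5, 6, 5, 2, 2, 1, 4, 2, 1, 1] (T [2, 2, 2, 0, 4, 3, 0, 0, 2, 2, 5, 3, 3, 4, 4, 2, 2, 8] • P1)))) = T [2, 2, 2, 0, 4, 3, 0, 0, 2, 2, 5, 3, 3, 4, 4, 2, 2, 8] • P1 := seq4 (seq_rot seg4_one 2) _
  have f0 : mv [2, 2, 1, 3, 1, 2, 2, 5, 0, 4, 1, 5, 6, 5, 2, 2, 1, 4, 2, 1, 1] (T [2, 2, 2, 0, 4, 3, 0, 0, 2, 2, 5, 3, 3, 4, 4, 2, 2, 8] • P1) = T [3, 1, 2, 5, 0, 3, 3, 4, 3, 5, 0] • P4 := fwd (step (gens := S1) fix1 e55 (h := [5, 1, 4, 8, 2, 1, 8, 1, 8, 5, 3, 0, 2, 4, 4, 2, 2, 0, 3]) (g := [3, 1, 2, 5, 0, 3, 3, 4, 3, 5, 0]) (kw := [2, 6, 5, 0, 7, 6, 5, 3]) (sl := [(4, true), (5, true), (5, true), (0, true), (0, false), (0, false), (3, false),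 (4, false), (6, false)]) (by decide +kernel) (by decide +kernel) (by decide +kernel) (by decide +kernel)) (by decide +kernel)
  have c0 := f0
  have b0 : mv [7, 3, 1, 1] (T [0, 8, 3, 1, 8, 2, 5, 0, 4, 3, 3, 4, 1, 2, 0] • P1) = T [2, 2, 2, 0, 4, 3, 0, 0, 2, 2, 5, 3, 3, 4, 4, 2, 2, 8] • P1 := bwd (step (gens := S1) fix1 e1 (h := [2, 2, 2, 0, 4, 3, 0, 0, 2, 2, 5, 3, 3, 4, 4, 2, 2, 8]) (g := [3, 0, 8, 5, 2, 5, 5, 1, 3, 0, 2, 5]) (kw := [4, 1, 5, 7, 6, 1]) (sl := [(0, true), (6, true)]) (by decide +kernel) (by decide +kernel) (by decide +kernel) (by decide +kernel)) (by decide +kernel)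
  have d0 : T [2, 2, 2, 0, 4, 3, 0, 0, 2, 2, 5, 3, 3, 4, 4, 2, 2, 8] • P1 = mv [7, 3, 1, 1] (T [0, 8, 3, 1, 8, 2, 5, 0, 4, 3, 3, 4, 1, 2, 0] • P1) := b0.symm
  have b1 : mv [5, 1, 4, 2, 5, 7, 4, 1, 4, 0, 4, 3, 1, 3, 1, 2] (T [3, 3, 5, 0, 8, 1, 8, 0, 8, 3, 5, 0, 3, 4, 1, 2] • P2) = T [0, 8, 3, 1, 8, 2, 5, 0, 4, 3, 3, 4, 1, 2, 0] • P1 := bwd (step (gens := S1) fix1 e3 (h := [0, 8, 3, 1, 8, 2, 5, 0, 4, 3, 3, 4, 1, 2, 0]) (g := [5, 3, 1, 1, 4, 1, 2, 5, 2, 0]) (kw := [5, 6, 5, 5, 0, 1, 5, 7, 0]) (sl := [(2, true), (3, true), (3, true), (3, true), (1, true), (1, false), (3, false), (5, false), (5, false), (3, false)]) (by decide +kernel) (by decide +kernel) (by decide +kernel) (by decide +kernel)) (by decide +kernel)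
  have d1 : T [2, 2, 2, 0, 4, 3, 0, 0, 2, 2, 5, 3, 3, 4, 4, 2, 2, 8] • P1 = mv [7, 3, 1, 1] (mv [5, 1, 4, 2, 5, 7, 4, 1, 4, 0, 4, 3, 1, 3, 1, 2] (T [3, 3, 5, 0, 8, 1, 8, 0, 8, 3, 5, 0, 3, 4, 1, 2] • P2)) := d0.trans (congrArg (fun p => mv [7, 3, 1, 1] (p)) b1.symm)
  have q2 : mv [2, 6] (T [3, 1, 2, 5, 0, 3, 3, 4, 3, 5, 0] • P4) = T [3, 3, 5, 0, 8, 1, 8, 0, 8, 3, 5, 0, 3, 4, 1, 2] • P2 := (mv_inj _ (mv_inj _ (((congrArg (fun p => mv [7, 3, 1, 1] (mv [5, 1, 4, 2, 5, 7, 4, 1, 4, 0, 4, 3, 1, 3, 1, 2] (mv [2, 6] (p)))) c0).symm.trans q0).trans d1)))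
  have c : gz • T [8, 3, 1, 4, 8, 0, 8, 3, 5, 5, 3, 3, 0, 5, 3, 3] • P4 = T [3, 3, 5, 0, 8, 1, 8, 0, 8, 3, 5, 0, 3, 4, 1, 2] • P2 := by
    rw [T_congr (show sameWord [8, 3, 1, 4, 8, 0, 8, 3, 5, 5, 3, 3, 0, 5, 3, 3] ([2, 6] ++ [3, 1, 2, 5, 0, 3, 3, 4, 3, 5, 0]) = true by decide +kernel), T_append, mul_smul]
    exact q2
  exact c

theorem e62 : gz • T [3, 3, 5, 0, 8, 1, 8, 0, 8, 3, 5, 0, 3, 4, 1, 2] • P2 = T [8, 3, 1, 4, 8, 0, 8, 4, 4, 2, 2, 4, 1, 5, 3, 3] • P4 := by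
  rw [T_congr (show sameWord [3, 3, 5, 0, 8, 1, 8, 0, 8, 3, 5, 0, 3, 4, 1, 2] [3, 3, 5, 0, 8, 1, 8, 0, 8, 3, 5, 0, 3, 4, 1, 2] = true by decide +kernel)]
  exact edge_symm e61 (by decide +kernel)

theorem e63 : gz • T [2, 2, 0, 8, 1, 5, 3, 0, 2, 4, 4, 2, 0] • P3 = T [4, 0, 8, 3, 4, 1, 4, 3, 3, 0, 3, 5, 1] • P4 := by
  have q0 : mv [1, 5, 7, 0, 5, 3, 0, 5, 7, 1, 5, 0, 4, 3, 3, 5, 3, 1, 3, 3] (mv [5, 7, 1, 5, 1, 2, 5, 7] (mv [1, 6, 3, 5, 1, 2, 5, 7, 2, 5, 3, 1, 5, 0, 3, 0, 2, 0, 3] (T [0, 3, 8, 2, 0, 5, 8, 0, 8, 1, 3, 3, 1, 3, 5, 0, 2, 4, 0] • P1))) = T [0, 3, 8, 2, 0, 5, 8, 0, 8, 1, 3, 3, 1, 3, 5, 0, 2, 4, 0] • P1 := seq3 (seq_rot seg1_one 1) _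
  have f0 : mv [1, 6, 3, 5, 1, 2, 5, 7, 2, 5, 3, 1, 5, 0, 3, 0, 2, 0, 3] (T [0, 3, 8, 2, 0, 5, 8, 0, 8, 1, 3, 3, 1, 3, 5, 0, 2, 4, 0] • P1) = T [3, 0, 2, 0, 3, 4, 4, 2, 4, 2, 2] • P3 := fwd (step (gens := S1) fix1 e14 (h := [3, 0, 3, 8, 2, 1, 8, 1, 8, 5, 1, 4, 1, 3, 3, 5, 1, 5, 2]) (g := [3, 0, 2, 0, 3, 4, 4, 2, 4, 2, 2]) (kw := [6, 5, 7, 6, 5, 5, 0, 3, 3]) (sl := [(5, true), (6, true), (1, true), (2, true), (5, true), (1, false), (0, false), (6, false), (3, false), (5, false), (7, false)]) (by decide +kernel) (by decide +kernel) (by decide +kernel) (by decide +kernel)) (by decide +kernel)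
  have c0 := f0
  have b0 : mv [1, 5, 7, 0, 5, 3, 0, 5, 7, 1, 5, 0, 4, 3, 3, 5, 3, 1, 3, 3] (T [4, 0, 8, 3, 4, 1, 4, 3, 3, 0, 3, 5, 1] • P4) = T [0, 3, 8, 2, 0, 5, 8, 0, 8, 1, 3, 3, 1, 3, 5, 0, 2, 4, 0] • P1 := bwd (step (gens := S1) fix1 e55 (h := [0, 3, 8, 2, 0, 5, 8, 0, 8, 1, 3, 3, 1, 3, 5, 0, 2, 4, 0]) (g := []) (kw := []) (sl := [(4, true), (5, true), (5, true), (0, true), (0, false), (5, false), (5, false), (4, false)]) (by decide +kernel) (by decide +kernel) (by decide +kernel) (by decide +kernel)) (by decide +kernel)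
  have d0 : T [0, 3, 8, 2, 0, 5, 8, 0, 8, 1, 3, 3, 1, 3, 5, 0, 2, 4, 0] • P1 = mv [1, 5, 7, 0, 5, 3, 0, 5, 7, 1, 5, 0, 4, 3, 3, 5, 3, 1, 3, 3] (T [4, 0, 8, 3, 4, 1, 4, 3, 3, 0, 3, 5, 1] • P4) := b0.symm
  have q2 : mv [5, 7, 1, 5, 1, 2, 5, 7] (T [3, 0, 2, 0, 3, 4, 4, 2, 4, 2, 2] • P3) = T [4, 0, 8, 3, 4, 1, 4, 3, 3, 0, 3, 5, 1] • P4 := (mv_inj _ (((congrArg (fun p => mv [1, 5, 7, 0, 5, 3, 0, 5, 7, 1, 5, 0, 4, 3, 3, 5, 3, 1, 3, 3] (mv [5, 7, 1, 5, 1, 2, 5, 7] (p))) c0).symm.trans q0).trans d0))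
  have c : gz • T [2, 2, 0, 8, 1, 5, 3, 0, 2, 4, 4, 2, 0] • P3 = T [4, 0, 8, 3, 4, 1, 4, 3, 3, 0, 3, 5, 1] • P4 := by
    rw [T_congr (show sameWord [2, 2, 0, 8, 1, 5, 3, 0, 2, 4, 4, 2, 0] ([5, 7, 1, 5, 1, 2, 5, 7] ++ [3, 0, 2, 0, 3, 4, 4, 2, 4, 2, 2]) = true by decide +kernel), T_append, mul_smul]
    exact q2
  exact c

theorem e64 : gz • T [4, 0, 8, 3, 4, 1, 4, 3, 3, 0, 3, 5, 1] • P4 = T [0, 2, 0, 8, 1, 5, 5, 3, 4, 1, 5, 2, 5, 2, 0] • P3 := by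
  rw [T_congr (show sameWord [4, 0, 8, 3, 4, 1, 4, 3, 3, 0, 3, 5, 1] [4, 0, 8, 3, 4, 1, 4, 3, 3, 0, 3, 5, 1] = true by decide +kernel)]
  exact edge_symm e63 (by decide +kernel)

theorem e65 : gz • T [8, 5, 0, 8, 3, 4, 0, 8, 4, 1, 5, 1, 2, 5, 1, 5, 3] • P2 = T [0, 5, 0, 5, 8, 1, 8, 1, 8, 2, 5, 5, 2, 0, 3, 5, 0, 5, 5] • P4 := by
  have q0 : mv [7, 3, 1, 1] (mv [5, 1, 4, 2, 5, 7, 4, 1, 4, 0, 4, 3, 1, 3, 1, 2] (mv [2, 6] (mv [2, 2, 1, 3, 1, 2, 2, 5, 0, 4, 1, 5, 6, 5, 2, 2, 1, 4, 2, 1, 1] (T [2, 1, 8, 4, 0, 8, 2, 1, 3, 5, 3, 0, 5, 2] • P2)))) = T [2, 1, 8, 4, 0, 8, 2, 1, 3, 5, 3, 0, 5, 2] • P2 := seq4 (seq_rot seg4_one 2) _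
  have b0 : mv [7, 3, 1, 1] (T [5, 3, 1, 5, 8, 2, 0, 8, 2, 4, 1, 3, 1, 4, 2, 0, 3] • P3) = T [2, 1, 8, 4, 0, 8, 2, 1, 3, 5, 3, 0, 5, 2] • P2 := bwd (step (gens := S2_3) fix2_3 e49 (h := [2, 1, 8, 4, 0, 8, 2, 1, 3, 5, 3, 0, 5, 2]) (g := [0, 2, 0, 4, 8, 0, 8, 0, 8, 1, 3, 1, 4, 2, 0, 3, 3, 5, 3]) (kw := []) (sl := [(0, true), (0, true), (2, true), (1, true), (0, true), (1, true), (1, true), (1, false), (1, false), (0, false), (1, false), (2, false), (0, false), (0, false)]) (by decide +kernel) (by decide +kernel) (by decide +kernel) (by decide +kernel)) (by decide +kernel)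
  have d0 : T [2, 1, 8, 4, 0, 8, 2, 1, 3, 5, 3, 0, 5, 2] • P2 = mv [7, 3, 1, 1] (T [5, 3, 1, 5, 8, 2, 0, 8, 2, 4, 1, 3, 1, 4, 2, 0, 3] • P3) := b0.symm
  have b1 : mv [5, 1, 4, 2, 5, 7, 4, 1, 4, 0, 4, 3, 1, 3, 1, 2] (T [8, 0, 5, 2, 8, 1, 8, 0, 8, 4, 4, 2, 0, 2, 4, 2, 4, 1, 2, 0] • P3) = T [5, 3, 1, 5, 8, 2, 0, 8, 2, 4, 1, 3, 1, 4, 2, 0, 3] • P3 := bwd (step (gens := S3_3) fix3_3 e51 (h := [5, 3, 1, 5, 8, 2, 0, 8, 2, 4, 1, 3, 1, 4, 2, 0, 3]) (g := [0, 4, 8, 1, 5, 8, 1, 8, 2, 2, 4, 1, 2, 2, 4, 1, 5, 2, 2]) (kw := [7, 3, 2, 0, 6, 1, 1]) (sl := [(2, true), (0, true), (2, true), (1, true), (1, true), (0, false), (0, false), (0, false), (1, false), (2, false), (0, false), (2, false), (0, false), (2, false)]) (by decide +kernel) (by decide +kernel) (by decide +kernel)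 (by decide +kernel)) (by decide +kernel)
  have d1 : T [2, 1, 8, 4, 0, 8, 2, 1, 3, 5, 3, 0, 5, 2] • P2 = mv [7, 3, 1, 1] (mv [5, 1, 4, 2, 5, 7, 4, 1, 4, 0, 4, 3, 1, 3, 1, 2] (T [8, 0, 5, 2, 8, 1, 8, 0, 8, 4, 4, 2, 0, 2, 4, 2, 4, 1, 2, 0] • P3)) := d0.trans (congrArg (fun p => mv [7, 3, 1, 1] (p)) b1.symm)
  have b2 : mv [2, 6] (T [0, 5, 0, 5, 8, 1, 8, 1, 8, 2, 5, 5, 2, 0, 3, 5, 0, 5, 5] • P4) = T [8, 0, 5, 2, 8, 1, 8, 0, 8, 4, 4, 2, 0, 2, 4, 2, 4, 1, 2, 0] • P3 := bwd (step (gens := S3_3) fix3_3 e63 (h := [8, 0, 5, 2, 8, 1, 8, 0, 8, 4, 4, 2, 0, 2, 4, 2, 4, 1, 2, 0]) (g := [3, 4, 3, 0, 8, 5, 5, 2, 4, 2, 1, 3, 3, 1]) (kw := [7, 5, 5, 2, 5, 6, 5, 7, 3]) (sl := [(1, true), (1, true), (0, true), (1, true), (2, false), (1, false), (2, false), (1, false), (2, false),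 (0, false), (2, false), (2, false), (1, false)]) (by decide +kernel) (by decide +kernel) (by decide +kernel) (by decide +kernel)) (by decide +kernel)
  have d2 : T [2, 1, 8, 4, 0, 8, 2, 1, 3, 5, 3, 0, 5, 2] • P2 = mv [7, 3, 1, 1] (mv [5, 1, 4, 2, 5, 7, 4, 1, 4, 0, 4, 3, 1, 3, 1, 2] (mv [2, 6] (T [0, 5, 0, 5, 8, 1, 8, 1, 8, 2, 5, 5, 2, 0, 3, 5, 0, 5, 5] • P4))) := d1.trans (congrArg (fun p => mv [7, 3, 1, 1] (mv [5, 1, 4, 2, 5, 7, 4, 1, 4, 0, 4, 3, 1, 3, 1, 2] (p))) b2.symm)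
  have q2 : mv [2, 2, 1, 3, 1, 2, 2, 5, 0, 4, 1, 5, 6, 5, 2, 2, 1, 4, 2, 1, 1] (T [2, 1, 8, 4, 0, 8, 2, 1, 3, 5, 3, 0, 5, 2] • P2) = T [0, 5, 0, 5, 8, 1, 8, 1, 8, 2, 5, 5, 2, 0, 3, 5, 0, 5, 5] • P4 := (mv_inj _ (mv_inj _ (mv_inj _ (q0.trans d2))))
  have c : gz • T [8, 5, 0, 8, 3, 4, 0, 8, 4, 1, 5, 1, 2, 5, 1, 5, 3] • P2 = T [0, 5, 0, 5, 8, 1, 8, 1, 8, 2, 5, 5, 2, 0, 3, 5, 0, 5, 5] • P4 := by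
    rw [T_congr (show sameWord [8, 5, 0, 8, 3, 4, 0, 8, 4, 1, 5, 1, 2, 5, 1, 5, 3] ([2, 2, 1, 3, 1, 2, 2, 5, 0, 4, 1, 5, 6, 5, 2, 2, 1, 4, 2, 1, 1] ++ [2, 1, 8, 4, 0, 8, 2, 1, 3, 5, 3, 0, 5, 2]) = true by decide +kernel), T_append, mul_smul]
    exact q2
  exact c

theorem e66 : gz • T [0, 5, 0, 5, 8, 1, 8, 1, 8, 2, 5, 5, 2, 0, 3, 5, 0, 5, 5] • P4 = T [5, 5, 8, 1, 4, 8, 0, 8, 5, 5, 2, 2, 0, 3, 4, 3, 4, 1] • P2 := by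
  rw [T_congr (show sameWord [0, 5, 0, 5, 8, 1, 8, 1, 8, 2, 5, 5, 2, 0, 3, 5, 0, 5, 5] [0, 5, 0, 5, 8, 1, 8, 1, 8, 2, 5, 5, 2, 0, 3, 5, 0, 5, 5] = true by decide +kernel)]
  exact edge_symm e65 (by decide +kernel)

theorem e67 : gz • T [3, 4, 1, 8, 4, 0, 8, 3, 5, 1, 2, 2, 1, 2, 4, 1, 5] • P4 = T [8, 3, 1, 8, 5, 0, 8, 0, 8, 4, 2, 4, 3, 5, 0, 4, 0, 0] • P2 := by
  have q0 : mv [7, 3, 1, 1] (mv [5, 1, 4, 2, 5, 7, 4, 1, 4, 0, 4, 3, 1, 3, 1, 2] (mv [2, 6] (mv [2, 2, 1, 3, 1, 2, 2, 5, 0, 4, 1, 5, 6, 5, 2, 2, 1, 4, 2, 1, 1] (T [4, 0, 8, 3, 4, 1, 4, 3, 3, 0, 3, 5, 1] • P4)))) = T [4, 0, 8, 3, 4, 1, 4, 3, 3, 0, 3, 5, 1] • P4 := seq4 (seq_rot seg4_one 2) _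
  have b0 : mv [7, 3, 1, 1] (T [1, 3, 1, 8, 3, 0, 8, 3, 1, 3, 3, 5, 1, 4, 3, 5] • P3) = T [4, 0, 8, 3, 4, 1, 4, 3, 3, 0, 3, 5, 1] • P4 := bwd (step (gens := S4_4) fix4_4 e64 (h := [4, 0, 8, 3, 4, 1, 4, 3, 3, 0, 3, 5, 1]) (g := [0, 2, 0, 8, 1, 5, 5, 3, 4, 1, 5, 2, 5, 2, 0]) (kw := []) (sl := [(0, true), (1, true), (2, true), (2, false), (1, false), (0, false)]) (by decide +kernel) (by decide +kernel) (by decide +kernel) (by decide +kernel)) (by decide +kernel)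
  have d0 : T [4, 0, 8, 3, 4, 1, 4, 3, 3, 0, 3, 5, 1] • P4 = mv [7, 3, 1, 1] (T [1, 3, 1, 8, 3, 0, 8, 3, 1, 3, 3, 5, 1, 4, 3, 5] • P3) := b0.symm
  have b1 : mv [5, 1, 4, 2, 5, 7, 4, 1, 4, 0, 4, 3, 1, 3, 1, 2] (T [2, 1, 8, 1, 5, 8, 0, 8, 0, 2, 4, 2, 5, 0, 2, 5, 2] • P2) = T [1, 3, 1, 8, 3, 0, 8, 3, 1, 3, 3, 5, 1, 4, 3, 5] • P3 := bwd (step (gens := S3_3) fix3_3 e27 (h := [1, 3, 1, 8, 3, 0, 8, 3, 1, 3, 3, 5, 1, 4, 3, 5]) (g := [2, 2, 4, 0, 8, 5, 0, 8, 1, 2, 4, 0, 3, 5, 0, 2]) (kw := [6, 5, 7, 1, 1, 6, 1, 0]) (sl := [(2, true), (0, true), (2, true), (2, true), (2, true), (0, true), (2, true), (0, true), (0, true), (0, true), (0, false), (2, false), (1, false), (2, false), (0, false), (0, false), (2, false), (2, false)]) (by decide +kernel) (by decide +kernel) (by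 decide +kernel) (by decide +kernel)) (by decide +kernel)
  have d1 : T [4, 0, 8, 3, 4, 1, 4, 3, 3, 0, 3, 5, 1] • P4 = mv [7, 3, 1, 1] (mv [5, 1, 4, 2, 5, 7, 4, 1, 4, 0, 4, 3, 1, 3, 1, 2] (T [2, 1, 8, 1, 5, 8, 0, 8, 0, 2, 4, 2, 5, 0, 2, 5, 2] • P2)) := d0.trans (congrArg (fun p => mv [7, 3, 1, 1] (p)) b1.symm)
  have b2 : mv [2, 6] (T [8, 3, 1, 8, 5, 0, 8, 0, 8, 4, 2, 4, 3, 5, 0, 4, 0, 0] • P2) = T [2, 1, 8, 1, 5, 8, 0, 8, 0, 2, 4, 2, 5, 0, 2, 5, 2] • P2 := bwd (step (gens := S2_3) fix2_3 e11 (h := [2, 1, 8, 1, 5, 8, 0, 8, 0, 2, 4, 2, 5, 0, 2, 5, 2]) (g := [5, 8, 5, 1, 8, 2, 1, 8, 4, 2, 4, 3, 5, 0, 4, 0, 0]) (kw := [7, 5, 5, 3, 6, 7, 1, 6]) (sl := [(2, true), (1, true), (1, true), (0, true), (1, false), (2, false), (1, false), (1, false), (0, false)]) (by decide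 +kernel) (by decide +kernel) (by decide +kernel) (by decide +kernel)) (by decide +kernel)
  have d2 : T [4, 0, 8, 3, 4, 1, 4, 3, 3, 0, 3, 5, 1] • P4 = mv [7, 3, 1, 1] (mv [5, 1, 4, 2, 5, 7, 4, 1, 4, 0, 4, 3, 1, 3, 1, 2] (mv [2, 6] (T [8, 3, 1, 8, 5, 0, 8, 0, 8, 4, 2, 4, 3, 5, 0, 4, 0, 0] • P2))) := d1.trans (congrArg (fun p => mv [7, 3, 1, 1] (mv [5, 1, 4, 2, 5, 7, 4, 1, 4, 0, 4, 3, 1, 3, 1, 2] (p))) b2.symm)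
  have q2 : mv [2, 2, 1, 3, 1, 2, 2, 5, 0, 4, 1, 5, 6, 5, 2, 2, 1, 4, 2, 1, 1] (T [4, 0, 8, 3, 4, 1, 4, 3, 3, 0, 3, 5, 1] • P4) = T [8, 3, 1, 8, 5, 0, 8, 0, 8, 4, 2, 4, 3, 5, 0, 4, 0, 0] • P2 := (mv_inj _ (mv_inj _ (mv_inj _ (q0.trans d2))))
  have c : gz • T [3, 4, 1, 8, 4, 0, 8, 3, 5, 1, 2, 2, 1, 2, 4, 1, 5] • P4 = T [8, 3, 1, 8, 5, 0, 8, 0, 8, 4, 2, 4, 3, 5, 0, 4, 0, 0] • P2 := by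
    rw [T_congr (show sameWord [3, 4, 1, 8, 4, 0, 8, 3, 5, 1, 2, 2, 1, 2, 4, 1, 5] ([2, 2, 1, 3, 1, 2, 2, 5, 0, 4, 1, 5, 6, 5, 2, 2, 1, 4, 2, 1, 1] ++ [4, 0, 8, 3, 4, 1, 4, 3, 3, 0, 3, 5, 1]) = true by decide +kernel), T_append, mul_smul]
    exact q2
  exact c

theorem e68 : gz • T [8, 3, 1, 8, 5, 0, 8, 0, 8, 4, 2, 4, 3, 5, 0, 4, 0, 0] • P2 = T [0, 3, 3, 5, 1, 8, 0, 8, 5, 2, 1, 2, 2, 5, 1, 2, 0, 5] • P4 := by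
  rw [T_congr (show sameWord [8, 3, 1, 8, 5, 0, 8, 0, 8, 4, 2, 4, 3, 5, 0, 4, 0, 0] [8, 3, 1, 8, 5, 0, 8, 0, 8, 4, 2, 4, 3, 5, 0, 4, 0, 0] = true by decide +kernel)]
  exact edge_symm e67 (by decide +kernel)

theorem e69 : gz • T [1, 8, 1, 4, 8, 0, 8, 2, 2, 5, 3, 0, 3, 5, 2, 2] • P4 = T [5, 1, 3, 8, 1, 8, 2, 0, 8, 5, 1, 5, 3, 1, 5, 2, 5, 2] • P4 := by
  have q0 : mv [7, 3, 1, 1] (mv [5, 1, 4, 2, 5, 7, 4, 1, 4, 0, 4, 3, 1, 3, 1, 2] (mv [2, 6] (mv [2, 2, 1, 3, 1, 2, 2, 5, 0, 4, 1, 5, 6, 5, 2, 2, 1, 4, 2, 1, 1] (T [0, 5, 0, 5, 8, 1, 8, 1, 8, 2, 5, 5, 2, 0, 3, 5, 0, 5, 5] • P4)))) = T [0, 5, 0, 5, 8, 1, 8, 1, 8, 2, 5, 5, 2, 0, 3, 5, 0, 5, 5] • P4 := seq4 (seq_rot seg4_one 2) _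
  have b0 : mv [7, 3, 1, 1] (T [5, 2, 0, 8, 1, 5, 8, 0, 8, 3, 1, 4, 2, 0, 5, 5, 2, 2, 4] • P2) = T [0, 5, 0, 5, 8, 1, 8, 1, 8, 2, 5, 5, 2, 0, 3, 5, 0, 5, 5] • P4 := bwd (step (gens := S4_4) fix4_4 e66 (h := [0, 5, 0, 5, 8, 1, 8, 1, 8, 2, 5, 5, 2, 0, 3, 5, 0, 5, 5]) (g := [5, 5, 8, 1, 4, 8, 0, 8, 5, 5, 2, 2, 0, 3, 4, 3, 4, 1]) (kw := []) (sl := [(0, true), (0, true), (3, true), (2, true), (2, false), (3, false), (0, false), (0, false)]) (by decide +kernel) (by decide +kernel) (by decide +kernel) (by decide +kernel)) (by decide +kernel)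
  have d0 : T [0, 5, 0, 5, 8, 1, 8, 1, 8, 2, 5, 5, 2, 0, 3, 5, 0, 5, 5] • P4 = mv [7, 3, 1, 1] (T [5, 2, 0, 8, 1, 5, 8, 0, 8, 3, 1, 4, 2, 0, 5, 5, 2, 2, 4] • P2) := b0.symm
  have b1 : mv [5, 1, 4, 2, 5, 7, 4, 1, 4, 0, 4, 3, 1, 3, 1, 2] (T [1, 3, 8, 0, 8, 2, 0, 8, 3, 4, 0, 3, 5, 3, 1, 3, 3] • P2) = T [5, 2, 0, 8, 1, 5, 8, 0, 8, 3, 1, 4, 2, 0, 5, 5, 2, 2, 4] • P2 := bwd (step (gens := S2_3) fix2_3 e11 (h := [5, 2, 0, 8, 1, 5, 8, 0, 8, 3, 1, 4, 2, 0, 5, 5, 2, 2, 4]) (g := [0, 4, 1, 8, 0, 8, 1, 8, 0, 3, 0, 2, 4, 4, 0, 5, 2, 0]) (kw := [5, 7, 2, 6, 5, 5, 1, 7, 5, 6]) (sl := [(2, true), (1, true), (1, true), (0, true), (0, false), (2, false), (1, false), (2, false), (2, false), (1, false), (1, false)]) (by decide +kernel) (by decide +kernel) (by decide +kernel) (by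 decide +kernel)) (by decide +kernel)
  have d1 : T [0, 5, 0, 5, 8, 1, 8, 1, 8, 2, 5, 5, 2, 0, 3, 5, 0, 5, 5] • P4 = mv [7, 3, 1, 1] (mv [5, 1, 4, 2, 5, 7, 4, 1, 4, 0, 4, 3, 1, 3, 1, 2] (T [1, 3, 8, 0, 8, 2, 0, 8, 3, 4, 0, 3, 5, 3, 1, 3, 3] • P2)) := d0.trans (congrArg (fun p => mv [7, 3, 1, 1] (p)) b1.symm)
  have b2 : mv [2, 6] (T [5, 1, 3, 8, 1, 8, 2, 0, 8, 5, 1, 5, 3, 1, 5, 2, 5, 2] • P4) = T [1, 3, 8, 0, 8, 2, 0, 8, 3, 4, 0, 3, 5, 3, 1, 3, 3] • P2 := bwd (step (gens := S2_3) fix2_3 e68 (h := [1, 3, 8, 0, 8, 2, 0, 8, 3, 4, 0, 3, 5, 3, 1, 3, 3]) (g := [4, 4, 1, 4, 8, 4, 1, 8, 2, 2, 4, 0, 3, 5, 0, 4, 3, 1]) (kw := [5, 3, 3, 7, 6, 3, 5, 2]) (sl := [(2, true), (0, true), (1, true), (0, true), (2, true), (1, true), (0, true), (0, false), (0, false), (1, false),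 (2, false), (1, false)]) (by decide +kernel) (by decide +kernel) (by decide +kernel) (by decide +kernel)) (by decide +kernel)
  have d2 : T [0, 5, 0, 5, 8, 1, 8, 1, 8, 2, 5, 5, 2, 0, 3, 5, 0, 5, 5] • P4 = mv [7, 3, 1, 1] (mv [5, 1, 4, 2, 5, 7, 4, 1, 4, 0, 4, 3, 1, 3, 1, 2] (mv [2, 6] (T [5, 1, 3, 8, 1, 8, 2, 0, 8, 5, 1, 5, 3, 1, 5, 2, 5, 2] • P4))) := d1.trans (congrArg (fun p => mv [7, 3, 1, 1] (mv [5, 1, 4, 2, 5, 7, 4, 1, 4, 0, 4, 3, 1, 3, 1, 2] (p))) b2.symm)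
  have q2 : mv [2, 2, 1, 3, 1, 2, 2, 5, 0, 4, 1, 5, 6, 5, 2, 2, 1, 4, 2, 1, 1] (T [0, 5, 0, 5, 8, 1, 8, 1, 8, 2, 5, 5, 2, 0, 3, 5, 0, 5, 5] • P4) = T [5, 1, 3, 8, 1, 8, 2, 0, 8, 5, 1, 5, 3, 1, 5, 2, 5, 2] • P4 := (mv_inj _ (mv_inj _ (mv_inj _ (q0.trans d2))))
  have c : gz • T [1, 8, 1, 4, 8, 0, 8, 2, 2, 5, 3, 0, 3, 5, 2, 2] • P4 = T [5, 1, 3, 8, 1, 8, 2, 0, 8, 5, 1, 5, 3, 1, 5, 2, 5, 2] • P4 := by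
    rw [T_congr (show sameWord [1, 8, 1, 4, 8, 0, 8, 2, 2, 5, 3, 0, 3, 5, 2, 2] ([2, 2, 1, 3, 1, 2, 2, 5, 0, 4, 1, 5, 6, 5, 2, 2, 1, 4, 2, 1, 1] ++ [0, 5, 0, 5, 8, 1, 8, 1, 8, 2, 5, 5, 2, 0, 3, 5, 0, 5, 5]) = true by decide +kernel), T_append, mul_smul]
    exact q2
  exact c

theorem e70 : gz • T [5, 1, 3, 8, 1, 8, 2, 0, 8, 5, 1, 5, 3, 1, 5, 2, 5, 2] • P4 = T [0, 8, 1, 4, 8, 0, 8, 2, 2, 5, 3, 0, 3, 5, 2, 2] • P4 := by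
  rw [T_congr (show sameWord [5, 1, 3, 8, 1, 8, 2, 0, 8, 5, 1, 5, 3, 1, 5, 2, 5, 2] [5, 1, 3, 8, 1, 8, 2, 0, 8, 5, 1, 5, 3, 1, 5, 2, 5, 2] = true by decide +kernel)]
  exact edge_symm e69 (by decide +kernel)

theorem e71 : gz • T [2, 4, 1, 8, 3, 4, 3, 3, 5, 1, 3, 1, 1] • P4 = T [1, 5, 0, 8, 3, 1, 5, 3, 0, 2, 5, 2, 2] • P2 := by
  have q0 : mv [3, 3, 0, 2, 2] (mv [0, 0, 3, 3, 0, 2, 2] (mv [3, 3, 0, 2, 2] (T [0, 1, 3, 5, 2, 4, 1, 5, 1, 8, 1, 1, 0, 2, 5, 2, 5, 3] • P2))) = T [0, 1, 3, 5, 2, 4, 1, 5, 1, 8, 1, 1, 0, 2, 5, 2, 5, 3] • P2 := seq3 (seq_rot seg0_one 1) _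
  have f0 : mv [3, 3, 0, 2, 2] (T [0, 1, 3, 5, 2, 4, 1, 5, 1, 8, 1, 1, 0, 2, 5, 2, 5, 3] • P2) = T [8, 2, 2, 0, 8, 1, 8, 4, 1, 8, 4, 2, 2, 1, 2, 1, 5, 2, 4] • P3 := fwd (step (gens := S2_3) fix2_3 e33 (h := [4, 0, 3, 0, 8, 3, 1, 1, 4, 3, 4, 1, 4, 2, 5]) (g := [8, 2, 2, 0, 8, 1, 8, 4, 1, 8, 4, 2, 2, 1, 2, 1, 5, 2, 4]) (kw := [5, 6, 7, 6, 5, 2, 6, 2, 5, 0]) (sl := [(0, true), (2, true), (2, true), (1, true), (0, true), (0, true), (1, true), (1, true), (0, false), (1, false), (1, false), (2, false), (1, false), (1, false)]) (by decide +kernel) (by decide +kernel) (by decide +kernel) (by decide +kernel)) (by decide +kernel)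
  have c0 := f0
  have f1 : mv [0, 0, 3, 3, 0, 2, 2] (T [8, 2, 2, 0, 8, 1, 8, 4, 1, 8, 4, 2, 2, 1, 2, 1, 5, 2, 4] • P3) = T [5, 2, 2, 0, 8, 4, 1, 5, 0, 2, 0, 3, 0, 5, 0] • P4 := fwd (step (gens := S3_3) fix3_3 e63 (h := [4, 0, 8, 0, 8, 2, 0, 8, 1, 5, 2, 5, 5, 2, 5, 1, 2, 2]) (g := [5, 2, 2, 0, 8, 4, 1, 5, 0, 2, 0, 3, 0, 5, 0]) (kw := [6, 4, 3, 5, 6]) (sl := [(1, true), (1, true), (0, true), (1, true), (2, false), (0, false), (0, false), (2, false), (0, false), (2, false), (1, false), (2, false)]) (by decide +kernel) (by decide +kernel) (by decide +kernel) (by decide +kernel)) (by decide +kernel)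
  have c1 : mv [0, 0, 3, 3, 0, 2, 2] (mv [3, 3, 0, 2, 2] (T [0, 1, 3, 5, 2, 4, 1, 5, 1, 8, 1, 1, 0, 2, 5, 2, 5, 3] • P2)) = T [5, 2, 2, 0, 8, 4, 1, 5, 0, 2, 0, 3, 0, 5, 0] • P4 := (congrArg (mv [0, 0, 3, 3, 0, 2, 2]) c0).trans f1
  have q2 : mv [3, 3, 0, 2, 2] (T [5, 2, 2, 0, 8, 4, 1, 5, 0, 2, 0, 3, 0, 5, 0] • P4) = T [0, 1, 3, 5, 2, 4, 1, 5, 1, 8, 1, 1, 0, 2, 5, 2, 5, 3] • P2 := ((congrArg (fun p => mv [3, 3, 0, 2, 2] (p)) c1).symm.trans q0)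
  have c : gz • T [2, 4, 1, 8, 3, 4, 3, 3, 5, 1, 3, 1, 1] • P4 = T [0, 1, 3, 5, 2, 4, 1, 5, 1, 8, 1, 1, 0, 2, 5, 2, 5, 3] • P2 := by
    rw [T_congr (show sameWord [2, 4, 1, 8, 3, 4, 3, 3, 5, 1, 3, 1, 1] ([3, 3, 0, 2, 2] ++ [5, 2, 2, 0, 8, 4, 1, 5, 0, 2, 0, 3, 0, 5, 0]) = true by decide +kernel), T_append, mul_smul]
    exact q2
  rw [T_congr (show sameWord [1, 5, 0, 8, 3, 1, 5, 3, 0, 2, 5, 2, 2] [0, 1, 3, 5, 2, 4, 1, 5, 1, 8, 1, 1, 0, 2, 5, 2, 5, 3] = true by decide +kernel)]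
  exact c

theorem s72 : T [8, 3, 5, 3, 0, 8, 1, 8, 2, 2, 1, 5, 5, 1, 5, 0, 3] • P4 = P4 := by
  have c : gz • T [1, 5, 0, 8, 3, 1, 5, 3, 0, 2, 5, 2, 2] • P2 = T [0, 0, 2, 4, 1, 8, 3, 4, 3, 3, 5, 1, 3, 1, 1] • P4 := by
    rw [T_congr (show sameWord [1, 5, 0, 8, 3, 1, 5, 3, 0, 2, 5, 2, 2] [1, 5, 0, 8, 3, 1, 5, 3, 0, 2, 5, 2, 2] = true by decide +kernel)]
    exact edge_symm e71 (by decide +kernel)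
  exact fix_of_eq (c.symm.trans (step (gens := S2_3) fix2_3 e68 (h := [1, 5, 0, 8, 3, 1, 5, 3, 0, 2, 5, 2, 2]) (g := [4, 0, 3, 0, 8, 0, 8, 3, 0, 5, 3, 5, 2, 5, 2]) (kw := [6, 5, 7, 4, 3, 6, 2]) (sl := [(2, true), (0, true), (1, true), (0, true), (2, true), (1, true), (0, true), (0, false), (1, false), (1, false), (2, false), (1, false), (1, false)]) (by decide +kernel) (by decide +kernel) (by decide +kernel) (by decide +kernel))) (by decide +kernel)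

def S4_5 : List (List ℕ) := [[1, 5, 2, 1, 3, 0, 4, 0], [5, 0, 3, 0, 2, 4, 4, 2, 0, 5, 0], [4, 3, 0, 2, 0, 4, 3, 1, 3, 3, 0], [2, 4, 0, 2, 4, 2, 1, 2, 5, 1], [8, 3, 5, 3, 0, 8, 1, 8, 2, 2, 1, 5, 5, 1, 5, 0, 3]]

theorem fix4_5 : Fix S4_5 P4 := by
  intro w hw
  simp only [S4_5, List.mem_cons, List.not_mem_nil, or_false] at hw
  rcases hw with rfl | rfl | rfl | rfl | rfl
  exacts [s57, s58, s59, s60, s72]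

theorem e73 : gz • T [3, 5, 8, 1, 8, 5, 0, 8, 3, 4, 3, 3, 0, 2, 4, 0, 2, 4] • P3 = T [8, 0, 3, 0, 8, 1, 3, 0, 2, 5, 2, 5, 0, 5] • P4 := by
  have q0 : mv [0, 3, 3, 1, 4, 2, 5, 2, 1, 5, 5, 6, 4, 0, 4, 1, 4, 3, 7, 1, 1] (mv [5, 3, 5, 7, 2, 2, 5, 7, 3, 5, 3, 3, 5, 2, 0, 2, 2, 0, 2, 1, 3, 1, 1] (mv [7, 0, 4, 2, 4, 1, 5, 7, 0, 3, 1, 4, 1, 3, 3, 1, 2, 1] (mv [2, 0, 3, 1, 3, 3, 1, 3, 4, 2, 2, 4, 2, 6, 4, 3, 3, 6, 4, 2, 4] (T [4, 1, 1, 5, 5, 8, 8, 8, 8, 8, 1, 1] • P1)))) = T [4, 1, 1, 5, 5, 8, 8, 8, 8, 8, 1, 1] • P1 := seq4 (seq_rot seg3_one 1) _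
  have f0 : mv [2, 0, 3, 1, 3, 3, 1, 3, 4, 2, 2, 4, 2, 6, 4, 3, 3, 6, 4, 2, 4] (T [4, 1, 1, 5, 5, 8, 8, 8, 8, 8, 1, 1] • P1) = T [4, 4, 0, 3, 3, 0, 4, 4, 2] • P3 := fwd (step (gens := S1) fix1 e14 (h := [0, 8, 5, 0, 5, 8, 0, 8, 2, 5, 1, 4, 3, 3, 4, 1, 1, 2]) (g := [4, 4, 0, 3, 3, 0, 4, 4, 2]) (kw := [5, 7, 5, 5, 0, 6, 2, 5]) (sl := [(5, true), (6, true), (1, true), (2, true), (5, true), (6, false), (1, false), (7, false), (0, false), (6, false)]) (by decide +kernel) (by decide +kernel) (by decide +kernel) (by decide +kernel)) (by decide +kernel)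
  have c0 := f0
  have b0 : mv [0, 3, 3, 1, 4, 2, 5, 2, 1, 5, 5, 6, 4, 0, 4, 1, 4, 3, 7, 1, 1] (T [4, 8, 2, 1, 8, 3, 0, 8, 2, 4, 1, 4, 2, 1, 3, 3, 4] • P1) = T [4, 1, 1, 5, 5, 8, 8, 8, 8, 8, 1, 1] • P1 := bwd (step (gens := S1) fix1 e1 (h := [4, 1, 1, 5, 5, 8, 8, 8, 8, 8, 1, 1]) (g := [2, 5, 5, 1, 8, 2, 5, 2, 5, 0, 3, 4, 4]) (kw := [1, 6, 2, 3, 5, 2]) (sl := [(0, true), (6, true), (5, false), (5, false)]) (by decide +kernel) (by decide +kernel) (by decide +kernel) (by decide +kernel)) (by decide +kernel)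
  have d0 : T [4, 1, 1, 5, 5, 8, 8, 8, 8, 8, 1, 1] • P1 = mv [0, 3, 3, 1, 4, 2, 5, 2, 1, 5, 5, 6, 4, 0, 4, 1, 4, 3, 7, 1, 1] (T [4, 8, 2, 1, 8, 3, 0, 8, 2, 4, 1, 4, 2, 1, 3, 3, 4] • P1) := b0.symm
  have b1 : mv [5, 3, 5, 7, 2, 2, 5, 7, 3, 5, 3, 3, 5, 2, 0, 2, 2, 0, 2, 1, 3, 1, 1] (T [8, 0, 3, 0, 8, 1, 3, 0, 2, 5, 2, 5, 0, 5] • P4) = T [4, 8, 2, 1, 8, 3, 0, 8, 2, 4, 1, 4, 2, 1, 3, 3, 4] • P1 := bwd (step (gens := S1) fix1 e55 (h := [4, 8, 2, 1, 8, 3, 0, 8, 2, 4, 1, 4, 2, 1, 3, 3, 4]) (g := [1, 3, 4, 4, 2, 2, 1, 3]) (kw := [5, 2, 6, 5, 5, 5, 5]) (sl := [(4, true), (5, true), (5, true), (0, true), (0, false), (1, false), (2, false), (5, false), (7, false)]) (by decide +kernel) (by decide +kernel) (by decide +kernel) (by decide +kernel)) (by decide +kernel)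
  have d1 : T [4, 1, 1, 5, 5, 8, 8, 8, 8, 8, 1, 1] • P1 = mv [0, 3, 3, 1, 4, 2, 5, 2, 1, 5, 5, 6, 4, 0, 4, 1, 4, 3, 7, 1, 1] (mv [5, 3, 5, 7, 2, 2, 5, 7, 3, 5, 3, 3, 5, 2, 0, 2, 2, 0, 2, 1, 3, 1, 1] (T [8, 0, 3, 0, 8, 1, 3, 0, 2, 5, 2, 5, 0, 5] • P4)) := d0.trans (congrArg (fun p => mv [0, 3, 3, 1, 4, 2, 5, 2, 1, 5, 5, 6, 4, 0, 4, 1, 4, 3, 7, 1, 1] (p)) b1.symm)
  have q2 : mv [7, 0, 4, 2, 4, 1, 5, 7, 0, 3, 1, 4, 1, 3, 3, 1, 2, 1] (T [4, 4, 0, 3, 3, 0, 4, 4, 2] • P3) = T [8, 0, 3, 0, 8, 1, 3, 0, 2, 5, 2, 5, 0, 5] • P4 := (mv_inj _ (mv_inj _ (((congrArg (fun p => mv [0, 3, 3, 1, 4, 2, 5, 2, 1, 5, 5, 6, 4, 0, 4, 1, 4, 3, 7, 1, 1] (mv [5, 3, 5, 7, 2, 2, 5, 7, 3, 5, 3, 3, 5, 2, 0, 2, 2, 0, 2, 1, 3, 1, 1] (mv [7, 0, 4, 2, 4, 1, 5, 7, 0, 3, 1, 4, 1, 3, 3, 1, 2, 1]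 (p)))) c0).symm.trans q0).trans d1)))
  have c : gz • T [3, 5, 8, 1, 8, 5, 0, 8, 3, 4, 3, 3, 0, 2, 4, 0, 2, 4] • P3 = T [8, 0, 3, 0, 8, 1, 3, 0, 2, 5, 2, 5, 0, 5] • P4 := by
    rw [T_congr (show sameWord [3, 5, 8, 1, 8, 5, 0, 8, 3, 4, 3, 3, 0, 2, 4, 0, 2, 4] ([7, 0, 4, 2, 4, 1, 5, 7, 0, 3, 1, 4, 1, 3, 3, 1, 2, 1] ++ [4, 4, 0, 3, 3, 0, 4, 4, 2]) = true by decide +kernel), T_append, mul_smul]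
    exact q2
  exact c

theorem e74 : gz • T [8, 0, 3, 0, 8, 1, 3, 0, 2, 5, 2, 5, 0, 5] • P4 = T [4, 3, 8, 0, 8, 1, 8, 1, 5, 1, 4, 2, 2, 4, 1, 3, 0] • P3 := by
  rw [T_congr (show sameWord [8, 0, 3, 0, 8, 1, 3, 0, 2, 5, 2, 5, 0, 5] [8, 0, 3, 0, 8, 1, 3, 0, 2, 5, 2, 5, 0, 5] = true by decide +kernel)]
  exact edge_symm e73 (by decide +kernel)

theorem e75 : gz • T [8, 3, 1, 4, 8, 0, 8, 5, 1, 5, 2, 2, 1, 5, 3, 3, 4] • P4 = T [8, 5, 3, 4, 1, 8, 2, 0, 8, 3, 4, 4, 3, 0, 4, 3, 4, 0, 2, 0] • P4 := by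
  have q0 : mv [3, 3, 0, 2, 2] (mv [3, 3, 0, 2, 2] (mv [0, 0, 3, 3, 0, 2, 2] (T [8, 3, 1, 4, 8, 0, 8, 3, 5, 5, 3, 3, 0, 5, 3, 3] • P4))) = T [8, 3, 1, 4, 8, 0, 8, 3, 5, 5, 3, 3, 0, 5, 3, 3] • P4 := seq3 (seq_rot seg0_one 0) _
  have b0 : mv [3, 3, 0, 2, 2] (T [0, 4, 0, 3, 8, 0, 8, 1, 8, 3, 0, 4, 2, 4, 0, 2, 2] • P2) = T [8, 3, 1, 4, 8, 0, 8, 3, 5, 5, 3, 3, 0, 5, 3, 3] • P4 := bwd (step (gens := S4_5) fix4_5 e61 (h := [8, 3, 1, 4, 8, 0, 8, 3, 5, 5, 3, 3, 0, 5, 3, 3]) (g := [3, 3, 5, 0, 8, 1, 8, 0, 8, 3, 5, 0, 3, 4, 1, 2]) (kw := []) (sl := [(4, true), (2, true), (4, true), (2, true), (2, false), (4, false), (2, false), (4, false)]) (by decide +kernel) (by decide +kernel) (by decide +kernel) (by decide +kernel)) (by decide +kernel)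
  have d0 : T [8, 3, 1, 4, 8, 0, 8, 3, 5, 5, 3, 3, 0, 5, 3, 3] • P4 = mv [3, 3, 0, 2, 2] (T [0, 4, 0, 3, 8, 0, 8, 1, 8, 3, 0, 4, 2, 4, 0, 2, 2] • P2) := b0.symm
  have b1 : mv [3, 3, 0, 2, 2] (T [8, 5, 3, 4, 1, 8, 2, 0, 8, 3, 4, 4, 3, 0, 4, 3, 4, 0, 2, 0] • P4) = T [0, 4, 0, 3, 8, 0, 8, 1, 8, 3, 0, 4, 2, 4, 0, 2, 2] • P2 := bwd (step (gens := S2_3) fix2_3 e62 (h := [0, 4, 0, 3, 8, 0, 8, 1, 8, 3, 0, 4, 2, 4, 0, 2, 2]) (g := [8, 3, 5, 0, 8, 5, 1, 8, 0, 5, 1, 4, 1, 5, 2, 1, 2, 2]) (kw := [5, 4, 6, 5]) (sl := [(2, true), (1, true), (1, true), (0, true), (2, true), (0, true), (0, false), (0, false), (0, false), (1, false), (2, false), (1, false), (1, false)]) (by decide +kernel) (by decide +kernel) (by decide +kernel) (by decide +kernel)) (by decide +kernel)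
  have d1 : T [8, 3, 1, 4, 8, 0, 8, 3, 5, 5, 3, 3, 0, 5, 3, 3] • P4 = mv [3, 3, 0, 2, 2] (mv [3, 3, 0, 2, 2] (T [8, 5, 3, 4, 1, 8, 2, 0, 8, 3, 4, 4, 3, 0, 4, 3, 4, 0, 2, 0] • P4)) := d0.trans (congrArg (fun p => mv [3, 3, 0, 2, 2] (p)) b1.symm)
  have q2 : mv [0, 0, 3, 3, 0, 2, 2] (T [8, 3, 1, 4, 8, 0, 8, 3, 5, 5, 3, 3, 0, 5, 3, 3] • P4) = T [8, 5, 3, 4, 1, 8, 2, 0, 8, 3, 4, 4, 3, 0, 4, 3, 4, 0, 2, 0] • P4 := (mv_inj _ (mv_inj _ (q0.trans d1)))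
  have c : gz • T [8, 3, 1, 4, 8, 0, 8, 5, 1, 5, 2, 2, 1, 5, 3, 3, 4] • P4 = T [8, 5, 3, 4, 1, 8, 2, 0, 8, 3, 4, 4, 3, 0, 4, 3, 4, 0, 2, 0] • P4 := by
    rw [T_congr (show sameWord [8, 3, 1, 4, 8, 0, 8, 5, 1, 5, 2, 2, 1, 5, 3, 3, 4] ([0, 0, 3, 3, 0, 2, 2] ++ [8, 3, 1, 4, 8, 0, 8, 3, 5, 5, 3, 3, 0, 5, 3, 3]) = true by decide +kernel), T_append, mul_smul]
    exact q2
  exact c

theorem e76 : gz • T [4, 4, 0, 4, 1, 2, 4, 2, 1, 2, 0] • P3 = T [1, 1, 2, 2, 5, 2, 2, 4] • P4 := by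
  have q0 : mv [6] (mv [0, 2, 1, 2, 2, 1, 2, 2, 5, 0, 4, 2, 4, 3, 6, 4, 3, 3, 6, 4, 2, 4, 1, 1] (mv [7, 1, 1] (mv [1, 5, 7, 2, 1, 3, 5, 7, 2, 1, 3, 5, 3, 0, 3, 3, 0, 3] (T [3, 4, 4, 2, 8, 2, 8, 0, 3, 5, 2, 1, 1, 1, 3] • P4)))) = T [3, 4, 4, 2, 8, 2, 8, 0, 3, 5, 2, 1, 1, 1, 3] • P4 := seq4 (seq_rot seg2_one 2) _
  have f0 : mv [1, 5, 7, 2, 1, 3, 5, 7, 2, 1, 3, 5, 3, 0, 3, 3, 0, 3] (T [3, 4, 4, 2, 8, 2, 8, 0, 3, 5, 2, 1, 1, 1, 3] • P4) = T [8, 0, 5, 8, 0, 3, 8, 1, 8, 3, 4, 0, 3, 5, 3, 1, 2, 2, 4, 2] • P4 := fwd (step (gens := S4_5) fix4_5 e69 (h := [0, 8, 3, 0, 8, 3, 4, 1, 2, 2, 4, 1, 1]) (g := [8, 0, 5, 8, 0, 3, 8, 1, 8, 3, 4, 0, 3, 5, 3, 1, 2, 2, 4, 2]) (kw := [7, 3, 1, 6, 7, 5, 6, 5, 1]) (sl := [(2, true), (1, true), (4, true), (0, true), (1, true), (1, true),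 (4, false), (3, false), (1, false)]) (by decide +kernel) (by decide +kernel) (by decide +kernel) (by decide +kernel)) (by decide +kernel)
  have c0 := f0
  have f1 : mv [7, 1, 1] (T [8, 0, 5, 8, 0, 3, 8, 1, 8, 3, 4, 0, 3, 5, 3, 1, 2, 2, 4, 2] • P4) = T [2, 1, 4, 8, 0, 8, 0, 8, 1, 4, 2, 1, 2, 0, 4, 4] • P3 := fwd (step (gens := S4_5) fix4_5 e74 (h := [8, 4, 8, 3, 0, 8, 0, 8, 3, 4, 1, 5, 2, 5, 2, 1, 4, 3]) (g := [2, 1, 4, 8, 0, 8, 0, 8, 1, 4, 2, 1, 2, 0, 4, 4]) (kw := [5, 4, 3, 6, 1, 5, 1]) (sl := [(1, true), (4, true), (1, true), (3, true), (4, true), (2, true), (1, false), (3, false), (4, false), (2, false), (0, false), (1, false)]) (by decide +kernel) (by decide +kernel) (by decide +kernel) (by decide +kernel)) (by decide +kernel)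
  have c1 : mv [7, 1, 1] (mv [1, 5, 7, 2, 1, 3, 5, 7, 2, 1, 3, 5, 3, 0, 3, 3, 0, 3] (T [3, 4, 4, 2, 8, 2, 8, 0, 3, 5, 2, 1, 1, 1, 3] • P4)) = T [2, 1, 4, 8, 0, 8, 0, 8, 1, 4, 2, 1, 2, 0, 4, 4] • P3 := (congrArg (mv [7, 1, 1]) c0).trans f1
  have f2 : mv [0, 2, 1, 2, 2, 1, 2, 2, 5, 0, 4, 2, 4, 3, 6, 4, 3, 3, 6, 4, 2, 4, 1, 1] (T [2, 1, 4, 8, 0, 8, 0, 8, 1, 4, 2, 1, 2, 0, 4, 4] • P3) = T [8, 3, 1, 4, 8, 1, 8, 2, 4, 0, 5, 2, 4, 1, 3, 4, 1] • P3 := fwd (step (gens := S3_3) fix3_3 e46 (h := [5, 1, 8, 0, 8, 4, 1, 8, 3, 0, 5, 0, 2, 2, 0]) (g := [8, 3, 1, 4, 8, 1, 8, 2, 4, 0, 5, 2, 4, 1, 3, 4, 1]) (kw := [7, 6, 2, 6, 7, 5, 6, 1, 5]) (sl := [(0, true), (0, true), (2, true), (0, true), (0, false), (1, false), (2, false), (2, false), (2, false)]) (by decide +kernel) (by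 decide +kernel) (by decide +kernel) (by decide +kernel)) (by decide +kernel)
  have c2 : mv [0, 2, 1, 2, 2, 1, 2, 2, 5, 0, 4, 2, 4, 3, 6, 4, 3, 3, 6, 4, 2, 4, 1, 1] (mv [7, 1, 1] (mv [1, 5, 7, 2, 1, 3, 5, 7, 2, 1, 3, 5, 3, 0, 3, 3, 0, 3] (T [3, 4, 4, 2, 8, 2, 8, 0, 3, 5, 2, 1, 1, 1, 3] • P4))) = T [8, 3, 1, 4, 8, 1, 8, 2, 4, 0, 5, 2, 4, 1, 3, 4, 1] • P3 := (congrArg (mv [0, 2, 1, 2, 2, 1, 2, 2, 5, 0, 4, 2, 4, 3, 6, 4, 3, 3, 6, 4, 2, 4, 1, 1]) c1).trans f2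
  have q2 : mv [6] (T [8, 3, 1, 4, 8, 1, 8, 2, 4, 0, 5, 2, 4, 1, 3, 4, 1] • P3) = T [3, 4, 4, 2, 8, 2, 8, 0, 3, 5, 2, 1, 1, 1, 3] • P4 := ((congrArg (fun p => mv [6] (p)) c2).symm.trans q0)
  have c : gz • T [4, 4, 0, 4, 1, 2, 4, 2, 1, 2, 0] • P3 = T [3, 4, 4, 2, 8, 2, 8, 0, 3, 5, 2, 1, 1, 1, 3] • P4 := by
    rw [T_congr (show sameWord [4, 4, 0, 4, 1, 2, 4, 2, 1, 2, 0] ([6] ++ [8, 3, 1, 4, 8, 1, 8, 2, 4, 0, 5, 2, 4, 1, 3, 4, 1]) = true by decide +kernel), T_append, mul_smul]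
    exact q2
  rw [T_congr (show sameWord [1, 1, 2, 2, 5, 2, 2, 4] [3, 4, 4, 2, 8, 2, 8, 0, 3, 5, 2, 1, 1, 1, 3] = true by decide +kernel)]
  exact c

theorem e77 : gz • T [1, 1, 2, 2, 5, 2, 2, 4] • P4 = T [2, 5, 2, 4, 0, 2, 4, 0, 5] • P3 := by
  rw [T_congr (show sameWord [1, 1, 2, 2, 5, 2, 2, 4] [1, 1, 2, 2, 5, 2, 2, 4] = true by decide +kernel)]
  exact edge_symm e76 (by decide +kernel)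

theorem e78 : gz • T [2, 1, 8, 1, 5, 1, 2] • P4 = T [0, 3, 8, 0, 8, 0, 8, 2, 0, 3, 4, 3, 0, 5, 1, 4, 0, 2] • P4 := by
  have q0 : mv [0, 3, 3, 1, 4, 2, 5, 2, 1, 5, 5, 6, 4, 0, 4, 1, 4, 3, 7, 1, 1] (mv [5, 3, 5, 7, 2, 2, 5, 7, 3, 5, 3, 3, 5, 2, 0, 2, 2, 0, 2, 1, 3, 1, 1] (mv [7, 0, 4, 2, 4, 1, 5, 7, 0, 3, 1, 4, 1, 3, 3, 1, 2, 1] (mv [2, 0, 3, 1, 3, 3, 1, 3, 4, 2, 2, 4, 2, 6, 4, 3, 3, 6, 4, 2, 4] (T [8, 3, 1, 4, 8, 0, 8, 5, 1, 5, 2, 2, 1, 5, 3, 3, 4] • P4)))) = T [8, 3, 1, 4, 8, 0, 8, 5, 1, 5, 2, 2, 1, 5, 3, 3, 4] • P4 := seq4 (seq_rot seg3_one 1) _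
  have b0 : mv [0, 3, 3, 1, 4, 2, 5, 2, 1, 5, 5, 6, 4, 0, 4, 1, 4, 3, 7, 1, 1] (T [3, 0, 4, 4, 8, 0, 8, 3, 1, 4, 3, 3, 1, 3, 4, 4, 3, 1] • P4) = T [8, 3, 1, 4, 8, 0, 8, 5, 1, 5, 2, 2, 1, 5, 3, 3, 4] • P4 := bwd (step (gens := S4_5) fix4_5 e75 (h := [8, 3, 1, 4, 8, 0, 8, 5, 1, 5, 2, 2, 1, 5, 3, 3, 4]) (g := [8, 5, 3, 4, 1, 8, 2, 0, 8, 3, 4, 4, 3, 0, 4, 3, 4, 0, 2, 0]) (kw := []) (sl := [(4, true), (2, true), (4, true), (2, true), (1, true), (1, false), (2, false), (4, false), (2, false), (4, false)]) (by decide +kernel) (by decide +kernel) (by decide +kernel) (by decide +kernel)) (by decide +kernel)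
  have d0 : T [8, 3, 1, 4, 8, 0, 8, 5, 1, 5, 2, 2, 1, 5, 3, 3, 4] • P4 = mv [0, 3, 3, 1, 4, 2, 5, 2, 1, 5, 5, 6, 4, 0, 4, 1, 4, 3, 7, 1, 1] (T [3, 0, 4, 4, 8, 0, 8, 3, 1, 4, 3, 3, 1, 3, 4, 4, 3, 1] • P4) := b0.symm
  have b1 : mv [5, 3, 5, 7, 2, 2, 5, 7, 3, 5, 3, 3, 5, 2, 0, 2, 2, 0, 2, 1, 3, 1, 1] (T [8, 0, 8, 0, 8, 3, 4, 4, 1, 2, 0, 3, 0, 5, 3, 0] • P4) = T [3, 0, 4, 4, 8, 0, 8, 3, 1, 4, 3, 3, 1, 3, 4, 4, 3, 1] • P4 := bwd (step (gens := S4_5) fix4_5 e69 (h := [3, 0, 4, 4, 8, 0, 8, 3, 1, 4, 3, 3, 1, 3, 4, 4, 3, 1]) (g := [3, 5, 1, 8, 1, 8, 1, 8, 5, 0, 2, 0, 5, 2, 2, 0, 4, 2]) (kw := [7, 1, 6, 7, 3, 7, 5, 6]) (sl := [(2, true), (1, true), (4, true), (0, true), (1, true), (1, true), (0, false), (0, false), (1, false), (0, false), (4, false), (3, false), (1, false)])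 (by decide +kernel) (by decide +kernel) (by decide +kernel) (by decide +kernel)) (by decide +kernel)
  have d1 : T [8, 3, 1, 4, 8, 0, 8, 5, 1, 5, 2, 2, 1, 5, 3, 3, 4] • P4 = mv [0, 3, 3, 1, 4, 2, 5, 2, 1, 5, 5, 6, 4, 0, 4, 1, 4, 3, 7, 1, 1] (mv [5, 3, 5, 7, 2, 2, 5, 7, 3, 5, 3, 3, 5, 2, 0, 2, 2, 0, 2, 1, 3, 1, 1] (T [8, 0, 8, 0, 8, 3, 4, 4, 1, 2, 0, 3, 0, 5, 3, 0] • P4)) := d0.trans (congrArg (fun p => mv [0, 3, 3, 1, 4, 2, 5, 2, 1, 5, 5, 6, 4, 0, 4, 1, 4, 3, 7, 1, 1] (p)) b1.symm)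
  have b2 : mv [7, 0, 4, 2, 4, 1, 5, 7, 0, 3, 1, 4, 1, 3, 3, 1, 2, 1] (T [0, 3, 8, 0, 8, 0, 8, 2, 0, 3, 4, 3, 0, 5, 1, 4, 0, 2] • P4) = T [8, 0, 8, 0, 8, 3, 4, 4, 1, 2, 0, 3, 0, 5, 3, 0] • P4 := bwd (step (gens := S4_5) fix4_5 e69 (h := [8, 0, 8, 0, 8, 3, 4, 4, 1, 2, 0, 3, 0, 5, 3, 0]) (g := [0, 0, 8, 1, 8, 3, 1, 8, 2, 0, 2, 0, 4, 0, 4, 2, 0, 2, 0]) (kw := [5, 7, 5, 5, 1, 7, 5, 6, 3, 0]) (sl := [(2, true), (1, true), (4, true), (0, true), (1, true), (1, true), (0, false), (1, false), (3, false), (2, false), (4, false)]) (by decide +kernel) (by decide +kernel) (by decide +kernel) (by decide +kernel)) (by decide +kernel)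
  have d2 : T [8, 3, 1, 4, 8, 0, 8, 5, 1, 5, 2, 2, 1, 5, 3, 3, 4] • P4 = mv [0, 3, 3, 1, 4, 2, 5, 2, 1, 5, 5, 6, 4, 0, 4, 1, 4, 3, 7, 1, 1] (mv [5, 3, 5, 7, 2, 2, 5, 7, 3, 5, 3, 3, 5, 2, 0, 2, 2, 0, 2, 1, 3, 1, 1] (mv [7, 0, 4, 2, 4, 1, 5, 7, 0, 3, 1, 4, 1, 3, 3, 1, 2, 1] (T [0, 3, 8, 0, 8, 0, 8, 2, 0, 3, 4, 3, 0, 5, 1, 4, 0, 2] • P4))) := d1.trans (congrArg (fun p => mv [0, 3, 3, 1, 4, 2, 5, 2, 1, 5, 5, 6, 4, 0, 4, 1, 4, 3, 7, 1, 1] (mv [5, 3, 5, 7, 2, 2, 5, 7, 3, 5, 3, 3, 5, 2, 0, 2, 2, 0, 2, 1, 3, 1, 1] (p))) b2.symm)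
  have q2 : mv [2, 0, 3, 1, 3, 3, 1, 3, 4, 2, 2, 4, 2, 6, 4, 3, 3, 6, 4, 2, 4] (T [8, 3, 1, 4, 8, 0, 8, 5, 1, 5, 2, 2, 1, 5, 3, 3, 4] • P4) = T [0, 3, 8, 0, 8, 0, 8, 2, 0, 3, 4, 3, 0, 5, 1, 4, 0, 2] • P4 := (mv_inj _ (mv_inj _ (mv_inj _ (q0.trans d2))))
  have c : gz • T [2, 1, 8, 1, 5, 1, 2] • P4 = T [0, 3, 8, 0, 8, 0, 8, 2, 0, 3, 4, 3, 0, 5, 1, 4, 0, 2] • P4 := by
    rw [T_congr (show sameWord [2, 1, 8, 1, 5, 1, 2] ([2, 0, 3, 1, 3, 3, 1, 3, 4, 2, 2, 4, 2, 6, 4, 3, 3, 6, 4, 2, 4] ++ [8, 3, 1, 4, 8, 0, 8, 5, 1, 5, 2, 2, 1, 5, 3, 3, 4]) = true by decide +kernel), T_append, mul_smul]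
    exact q2
  exact c

theorem e79 : gz • T [1, 5, 0, 8, 0, 8, 2, 4, 0, 3, 5, 0, 4, 0, 4, 4] • P2 = T [2, 1, 3, 4, 8, 0, 8, 0, 8, 5, 3, 4, 3, 1, 4, 1, 4, 1, 2] • P4 := by
  have q0 : mv [6] (mv [0, 2, 1, 2, 2, 1, 2, 2, 5, 0, 4, 2, 4, 3, 6, 4, 3, 3, 6, 4, 2, 4, 1, 1] (mv [7, 1, 1] (mv [1, 5, 7, 2, 1, 3, 5, 7, 2, 1, 3, 5, 3, 0, 3, 3, 0, 3] (T [3, 1, 8, 0, 3, 8, 1, 8, 4, 3, 5, 3, 4, 4, 1, 2, 5] • P2)))) = T [3, 1, 8, 0, 3, 8, 1, 8, 4, 3, 5, 3, 4, 4, 1, 2, 5] • P2 := seq4 (seq_rot seg2_one 2) _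
  have b0 : mv [6] (T [8, 3, 1, 4, 8, 1, 8, 1, 4, 3, 3, 1, 2, 5, 1, 3, 3] • P2) = T [3, 1, 8, 0, 3, 8, 1, 8, 4, 3, 5, 3, 4, 4, 1, 2, 5] • P2 := bwd (step (gens := S2_3) fix2_3 e8 (h := [3, 1, 8, 0, 3, 8, 1, 8, 4, 3, 5, 3, 4, 4, 1, 2, 5]) (g := [1, 3, 3, 5, 1, 3, 1, 5, 2, 1, 2]) (kw := []) (sl := [(1, true), (1, false)]) (by decide +kernel) (by decide +kernel) (by decide +kernel) (by decide +kernel)) (by decide +kernel)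
  have d0 : T [3, 1, 8, 0, 3, 8, 1, 8, 4, 3, 5, 3, 4, 4, 1, 2, 5] • P2 = mv [6] (T [8, 3, 1, 4, 8, 1, 8, 1, 4, 3, 3, 1, 2, 5, 1, 3, 3] • P2) := b0.symm
  have b1 : mv [0, 2, 1, 2, 2, 1, 2, 2, 5, 0, 4, 2, 4, 3, 6, 4, 3, 3, 6, 4, 2, 4, 1, 1] (T [1, 8, 4, 0, 3, 8, 1, 8, 2, 2, 5, 0, 5, 3, 4, 0, 3, 4] • P3) = T [8, 3, 1, 4, 8, 1, 8, 1, 4, 3, 3, 1, 2, 5, 1, 3, 3] • P2 := bwd (step (gens := S2_3) fix2_3 e28 (h := [8, 3, 1, 4, 8, 1, 8, 1, 4, 3, 3, 1, 2, 5, 1, 3, 3]) (g := [1, 3, 8, 1, 8, 4, 0, 8, 2, 4, 4, 1, 4, 1, 4, 1]) (kw := [5, 2, 7, 6, 5, 4, 3, 1]) (sl := [(0, true), (2, true), (1, true), (2, true), (1, true), (1, true), (0, true), (2, true), (0, true), (1, true), (0, false), (0, false), (1, false), (0, false), (2, false), (1, false), (0, false), (1, false), (2,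 false)]) (by decide +kernel) (by decide +kernel) (by decide +kernel) (by decide +kernel)) (by decide +kernel)
  have d1 : T [3, 1, 8, 0, 3, 8, 1, 8, 4, 3, 5, 3, 4, 4, 1, 2, 5] • P2 = mv [6] (mv [0, 2, 1, 2, 2, 1, 2, 2, 5, 0, 4, 2, 4, 3, 6, 4, 3, 3, 6, 4, 2, 4, 1, 1] (T [1, 8, 4, 0, 3, 8, 1, 8, 2, 2, 5, 0, 5, 3, 4, 0, 3, 4] • P3)) := d0.trans (congrArg (fun p => mv [6] (p)) b1.symm)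
  have b2 : mv [7, 1, 1] (T [2, 1, 3, 4, 8, 0, 8, 0, 8, 5, 3, 4, 3, 1, 4, 1, 4, 1, 2] • P4) = T [1, 8, 4, 0, 3, 8, 1, 8, 2, 2, 5, 0, 5, 3, 4, 0, 3, 4] • P3 := bwd (step (gens := S3_3) fix3_3 e73 (h := [1, 8, 4, 0, 3, 8, 1, 8, 2, 2, 5, 0, 5, 3, 4, 0, 3, 4]) (g := [4, 4, 1, 8, 0, 8, 2, 2, 0, 5, 0, 3, 4]) (kw := [7, 6, 3, 5, 7, 3, 6]) (sl := [(2, true), (0, true), (0, true), (2, true), (1, true), (0, false), (2, false), (2, false), (2, false)]) (by decide +kernel) (by decide +kernel) (by decide +kernel) (by decide +kernel)) (by decide +kernel)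
  have d2 : T [3, 1, 8, 0, 3, 8, 1, 8, 4, 3, 5, 3, 4, 4, 1, 2, 5] • P2 = mv [6] (mv [0, 2, 1, 2, 2, 1, 2, 2, 5, 0, 4, 2, 4, 3, 6, 4, 3, 3, 6, 4, 2, 4, 1, 1] (mv [7, 1, 1] (T [2, 1, 3, 4, 8, 0, 8, 0, 8, 5, 3, 4, 3, 1, 4, 1, 4, 1, 2] • P4))) := d1.trans (congrArg (fun p => mv [6] (mv [0, 2, 1, 2, 2, 1, 2, 2, 5, 0, 4, 2, 4, 3, 6, 4, 3, 3, 6, 4, 2, 4, 1, 1] (p))) b2.symm)
  have q2 : mv [1, 5, 7, 2, 1, 3, 5, 7, 2, 1, 3, 5, 3, 0, 3, 3, 0, 3] (T [3, 1, 8, 0, 3, 8, 1, 8, 4, 3, 5, 3, 4, 4, 1, 2, 5] • P2) = T [2, 1, 3, 4, 8, 0, 8, 0, 8, 5, 3, 4, 3, 1, 4, 1, 4, 1, 2] • P4 := (mv_inj _ (mv_inj _ (mv_inj _ (q0.trans d2))))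
  have c : gz • T [1, 5, 0, 8, 0, 8, 2, 4, 0, 3, 5, 0, 4, 0, 4, 4] • P2 = T [2, 1, 3, 4, 8, 0, 8, 0, 8, 5, 3, 4, 3, 1, 4, 1, 4, 1, 2] • P4 := by
    rw [T_congr (show sameWord [1, 5, 0, 8, 0, 8, 2, 4, 0, 3, 5, 0, 4, 0, 4, 4] ([1, 5, 7, 2, 1, 3, 5, 7, 2, 1, 3, 5, 3, 0, 3, 3, 0, 3] ++ [3, 1, 8, 0, 3, 8, 1, 8, 4, 3, 5, 3, 4, 4, 1, 2, 5]) = true by decide +kernel), T_append, mul_smul]
    exact q2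
  exact c

theorem e80 : gz • T [2, 1, 3, 4, 8, 0, 8, 0, 8, 5, 3, 4, 3, 1, 4, 1, 4, 1, 2] • P4 = T [0, 5, 0, 8, 0, 8, 2, 4, 0, 3, 5, 0, 4, 0, 4, 4] • P2 := by
  rw [T_congr (show sameWord [2, 1, 3, 4, 8, 0, 8, 0, 8, 5, 3, 4, 3, 1, 4, 1, 4, 1, 2] [2, 1, 3, 4, 8, 0, 8, 0, 8, 5, 3, 4, 3, 1, 4, 1, 4, 1, 2] = true by decide +kernel)]
  exact edge_symm e79 (by decide +kernel)

end CfsgLib.Presented.Ly.Dce
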