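import Cfsg.Prelude.Def_SporCoxeter
import Cfsg.Agent.Lib.Presented.Order
import Cfsg.Agent.Lib.Presented.Cert.LyH
import Cfsg.Agent.Lib.Presented.Cert.LyP
import Cfsg.Agent.Lib.Presented.Cert.LyGL

/-!
The group presented by the first forty-four relations of the Lyons presentation on a, b, c, d, e has order at
most 5859000000 (three logged coset enumerations: 3906 * 3125 * 480).
-/
set_option autoImplicit false
set_option maxRecDepth 8000

namespace CfsgLib.Presented.Ly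

/-- the five generators -/
inductive Gen5
  | a
  | b
  | c
  | d
  | e
  deriving DecidableEq

/-- the relators, with c₁, …, c₅ written out -/
def extra5 : List (FreeGroup Gen5) :=
  let a := FreeGroup.of Gen5.a
  let b := FreeGroup.of Gen5.b
  let c := FreeGroup.of Gen5.c
  let d := FreeGroup.of Gen5.d
  let e := FreeGroup.of Gen5.e
  let c1 := c
  let c2 := (a⁻¹ * c * a)
  let c3 := (b⁻¹ * c * b)
  let c4 := ((b⁻¹)⁻¹ * c * (b⁻¹))
  let c5 := (c1⁻¹ * c2⁻¹ * c1 * c2)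
  [
    a ^ 8,
    b ^ 5,
    (a * b) ^ 4,
    (a ^ 2)⁻¹ * b⁻¹ * (a ^ 2) * b,
    (a⁻¹ * b⁻¹ * a * b) ^ 3,
    c1 ^ 5,
    c5 ^ 5,
    c1⁻¹ * c5⁻¹ * c1 * c5,
    c2⁻¹ * c5⁻¹ * c2 * c5,
    c3⁻¹ * c5⁻¹ * c3 * c5,
    c4⁻¹ * c5⁻¹ * c4 * c5,
    (c1⁻¹ * c3⁻¹ * c1 * c3) * (((c5 ^ 2)⁻¹)⁻¹),
    (c1⁻¹ * c4⁻¹ * c1 * c4) * ((c5 ^ 2)⁻¹),
    (c2⁻¹ * c3⁻¹ * c2 * c3) * ((c5⁻¹)⁻¹),
    c2⁻¹ * c4⁻¹ * c2 * c4,
    (c3⁻¹ * c4⁻¹ * c3 * c4) * ((c5⁻¹)⁻¹),
    (a⁻¹ * c2 * a) * (((c1 ^ 2)⁻¹)⁻¹),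
    (a⁻¹ * c3 * a) * ((((c3 ^ 2)⁻¹) * c1 * c4)⁻¹),
    (a⁻¹ * c4 * a) * ((c1 * (c2⁻¹) * (c3⁻¹) * c4 * c1 * c4)⁻¹),
    (a⁻¹ * c5 * a) * ((c5 ^ 2)⁻¹),
    (b⁻¹ * c2 * b) * ((c2 * c3 * (c4⁻¹) * (c1⁻¹) * (c4⁻¹))⁻¹),
    (b⁻¹ * c3 * b) * (((c1 ^ 2) * c4 * ((c3 ^ 2)⁻¹))⁻¹),
    (b⁻¹ * c5 * b) * (c5⁻¹),
    e * ((((b ^ 2)⁻¹) * (a⁻¹ * c1⁻¹ * a * c1) * (a⁻¹) * c1 * a * d * c1 * b * a * (b⁻¹) * d * c1 * d)⁻¹),
    e ^ 2,
    (e⁻¹ * c1 * e) * ((b * c3 * b * (c1⁻¹))⁻¹),
    (e⁻¹ * c3 * e) * (((b ^ 2) * a * c2 * (c1⁻¹) * (c4⁻¹) * (a⁻¹))⁻¹),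
    (e⁻¹ * c4 * e) * (((b ^ 2) * (c3⁻¹) * c4)⁻¹),
    (e⁻¹ * c5 * e) * ((c1 * (c3⁻¹) * c1 * (c4⁻¹))⁻¹),
    (e * (a ^ 2) * e) * ((a * (b ^ 2) * a * (b⁻¹) * a * c1 * c5 * (c4⁻¹))⁻¹),
    (e⁻¹ * b * e) * ((c1 * (c3⁻¹) * ((c4 ^ 2)⁻¹))⁻¹),
    (e * a * (b ^ 2) * a * (b⁻¹) * a * e) * (((a ^ 2) * c1 * c5 * (c4⁻¹))⁻¹),
    e * c2 * e * (c2⁻¹) * e * c2 * (c4⁻¹) * a * c3 * (a ^ 3),
    d * ((a * (b ^ 2) * (a⁻¹) * (b⁻¹) * (c1⁻¹) * (c4⁻¹) * (c5⁻¹) * a * e * a * e * a * (c2⁻¹) * b * e)⁻¹),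
    (d ^ 2) * ((a ^ 4)⁻¹),
    b⁻¹ * d⁻¹ * b * d,
    (d⁻¹ * a * d) * ((a ^ 3)⁻¹),
    (d * c5) ^ 5,
    d * c5 * d * (c5⁻¹) * d * c5 * ((a ^ 2)⁻¹) ]

/-- the presented group on the five generators -/
abbrev H5 : Type := Cfsg.Spor.CoxPresented Gen5 [] extra5

/-- numbering -/
def idx5 : Gen5 → ℕ
  | .a => 0
  | .b => 2
  | .c => 4
  | .d => 6
  | .e => 8

/-- reading letters back -/
def gen5 : ℕ → Gen5 × Bool
  | 0 => (.a, true)
  | 1 => (.a, false)
  | 2 => (.b, true)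
  | 3 => (.b, false)
  | 4 => (.c, true)
  | 5 => (.c, false)
  | 6 => (.d, true)
  | 7 => (.d, false)
  | 8 => (.e, true)
  | _ => (.e, false)

/-- the letters -/
def letters5 : Letters Gen5 := ⟨LyH.alphabet, idx5, gen5, []⟩

theorem letters5_valid : letters5.valid = true := by decide +kernel

theorem nodes5_valid : letters5.nodesValid ([] : List (Gen5 × ℕ × Gen5)) = true := by decide +kernel

theorem full5 : letters5.Full := fun g => by cases g <;> decide

/-- values of the letters -/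
noncomputable abbrev ev : ℕ → H5 := letters5.ev fun g => PresentedGroup.of g

/-- prefixes conjugating the cyclically reduced relators into the written ones -/
def prefixes : List (List ℕ) :=
  [[], [], [], [], [], [], [], [], [1, 5], [], [], [], [5], [1, 5, 0], [], [], [], [], [], [], [], [], [], [], [], [], [], [], [], [], [], [], [], [], [], [], [], [], []]

theorem rels_eq : ((List.range LyH.relWords.length).map fun i =>
    (pushAll LyH.alphabet (prefixes.getD i [] ++ LyH.relWords.getD i [] ++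
      invWord LyH.alphabet (prefixes.getD i [])) []).reverse) = letters5.extraWords extra5 := by decide +kernel

theorem rels_small : ((LyH.relWords ++ prefixes).all fun w => w.all fun y => Nat.blt y 10) = true := by
  decide +kernel

theorem ev_one : ev LyH.alphabet.eps = 1 := Letters.ev_eps (L := letters5)

theorem ev_inv : ∀ x, x < LyH.alphabet.eps → ev (LyH.alphabet.invl x) * ev x = 1 :=
  Letters.ev_inv letters5_valid (Letters.of_sq nodes5_valid)

theorem ev_good : LyH.alphabet.Good ev := by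
  refine ⟨ev_one, fun x hx => ?_⟩
  rcases Nat.eq_or_lt_of_le hx with rfl | h
  · have e : LyH.alphabet.invl LyH.alphabet.eps = LyH.alphabet.eps := by decide +kernel
    rw [e, ev_one, one_mul]
  · exact ev_inv x h

theorem extra_hold : ∀ w ∈ letters5.extraWords extra5, evW ev w = 1 := fun w hw =>
  Letters.rels_hold letters5_valid nodes5_valid full5 w (List.mem_append_right _ hw)

theorem rels_hold : ∀ w ∈ LyH.relWords, evW ev w = 1 := by
  intro w hw
  obtain ⟨i, hi, rfl⟩ := List.mem_iff_getElem.1 hw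
  have hs := rels_small
  simp only [List.all_eq_true, List.mem_append, Nat.blt_eq] at hs
  have heps : LyH.alphabet.eps = 10 := rfl
  have hp : ∀ y ∈ prefixes.getD i [], y ≤ LyH.alphabet.eps := by
    intro y hy
    rw [List.getD_eq_getElem?_getD] at hy
    cases h : prefixes[i]? with
    | none => simp [h] at hy
    | some p =>
      rw [h] at hy
      exact heps ▸ (hs p (Or.inr (List.mem_of_getElem? h)) y hy).le
  have hwl : ∀ y ∈ LyH.relWords[i], y ≤ LyH.alphabet.eps := fun y hy =>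
    heps ▸ (hs _ (Or.inl (List.getElem_mem hi)) y hy).le
  have hinv : ∀ y ∈ invWord LyH.alphabet (prefixes.getD i []), y ≤ LyH.alphabet.eps := by
    intro y hy
    simp only [invWord, List.mem_reverse, List.mem_map] at hy
    obtain ⟨z, hz, rfl⟩ := hy
    exact Alphabet.le_of_valid (by decide +kernel) (hp z hz)
  have hmem := extra_hold ((pushAll LyH.alphabet (prefixes.getD i [] ++ LyH.relWords.getD i [] ++
      invWord LyH.alphabet (prefixes.getD i [])) []).reverse) (rels_eq ▸ List.mem_map.2 ⟨i, List.mem_range.2 hi, rfl⟩)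
  rw [List.getD_eq_getElem _ _ hi] at hmem
  rw [pushAll_ev ev_good [] (by
    simp only [List.mem_append]
    rintro y ((h | h) | h)
    exacts [hp y h, hwl y h, hinv y h])] at hmem
  rw [List.reverse_nil, evW_nil, one_mul, evW_append, evW_append, evW_invWord ev_good hp] at hmem
  have := congrArg (fun g => (evW ev (prefixes.getD i []))⁻¹ * g * evW ev (prefixes.getD i [])) hmem
  simpa [mul_assoc] using this

theorem gen_top : genBy ev [0, 2, 4, 6, 8] = ⊤ := by
  rw [eq_top_iff, ← PresentedGroup.closure_range_of]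
  apply Subgroup.closure_mono
  rintro _ ⟨g, rfl⟩
  exact ⟨idx5 g, by cases g <;> simp [idx5], (Letters.ev_idx letters5_valid (Letters.of_sq nodes5_valid) (full5 g).1 (full5 g).2).1⟩

/-- the first `n` letters only -/
noncomputable def evSub (n x : ℕ) : H5 := if x < n then ev x else 1

theorem evSub_eq {n : ℕ} {w : List ℕ} (h : ∀ y ∈ w, y < n) : evW (evSub n) w = evW ev w :=
  congrArg List.prod (List.map_congr_left fun y hy => by simp [evSub, h y hy])

theorem relIndex_H : (genBy ev [0, 2, 4]).relIndex (⊤ : Subgroup H5) ≠ 0 ∧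
    (genBy ev [0, 2, 4]).relIndex (⊤ : Subgroup H5) ≤ 3906 := by
  refine Cover.relIndex_le (d := LyH.enum) (C := LyH.cover) LyH.enum_valid LyH.facts_ok LyH.cover_ok ev_one ev_inv
    rels_hold ?_ ?_
  · intro w hw
    simp only [LyH.enum, LyH.subWords, List.mem_cons, List.not_mem_nil, or_false] at hw
    rcases hw with rfl | rfl | rfl <;> simpa using mem_genBy ev (by simp)
  · rw [← gen_top]
    have e : LyH.cover.gens = [0, 2, 4, 6, 8] := by decide +kernel
    rw [e]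
    exact le_refl _

theorem relIndex_P : (genBy ev [0, 2]).relIndex (genBy ev [0, 2, 4]) ≠ 0 ∧
    (genBy ev [0, 2]).relIndex (genBy ev [0, 2, 4]) ≤ 3125 := by
  have hsub : (LyP.relWords.all fun w => decide (w ∈ LyH.relWords) && w.all fun y => Nat.blt y 6) = true := by
    decide +kernel
  simp only [List.all_eq_true, Bool.and_eq_true, decide_eq_true_eq, Nat.blt_eq] at hsub
  refine Cover.relIndex_le (d := LyP.enum) (C := LyP.cover) (ev := evSub 6) LyP.enum_valid LyP.facts_ok LyP.cover_ok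
    (if_neg (lt_irrefl _)) ?_ ?_ ?_ ?_
  · intro x hx
    have hx6 : x < 6 := hx
    have hi : LyP.alphabet.invl x = LyH.alphabet.invl x ∧ LyP.alphabet.invl x < 6 := by
      interval_cases x <;> decide +kernel
    show evSub 6 (LyP.alphabet.invl x) * evSub 6 x = 1
    rw [evSub, evSub, if_pos hi.2, if_pos hx6, hi.1]
    exact ev_inv x (lt_of_lt_of_le hx6 (by decide))
  · intro w hw
    rw [evSub_eq (hsub w hw).2]
    exact rels_hold w (hsub w hw).1
  · intro w hw
    simp only [LyP.enum, LyP.subWords, List.mem_cons, List.not_mem_nil, or_false] at hw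
    rcases hw with rfl | rfl <;> simpa [evW, evSub] using mem_genBy ev (by simp)
  · have e : LyP.cover.gens = [0, 2, 4] := by decide +kernel
    rw [e]
    refine Subgroup.closure_mono ?_
    rintro _ ⟨x, hx, rfl⟩
    exact ⟨x, hx, if_pos ((show ∀ y ∈ ([0, 2, 4] : List ℕ), y < 6 by decide) x hx)⟩

theorem relIndex_GL : (genBy ev []).relIndex (genBy ev [0, 2]) ≠ 0 ∧
    (genBy ev []).relIndex (genBy ev [0, 2]) ≤ 480 := by
  have hsub : (LyGL.relWords.all fun w => decide (w ∈ LyH.relWords) && w.all fun y => Nat.blt y 4) = true := by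
    decide +kernel
  simp only [List.all_eq_true, Bool.and_eq_true, decide_eq_true_eq, Nat.blt_eq] at hsub
  refine Cover.relIndex_le (d := LyGL.enum) (C := LyGL.cover) (ev := evSub 4) LyGL.enum_valid LyGL.facts_ok
    LyGL.cover_ok (if_neg (lt_irrefl _)) ?_ ?_ ?_ ?_
  · intro x hx
    have hx6 : x < 4 := hx
    have hi : LyGL.alphabet.invl x = LyH.alphabet.invl x ∧ LyGL.alphabet.invl x < 4 := by
      interval_cases x <;> decide +kernel
    show evSub 4 (LyGL.alphabet.invl x) * evSub 4 x = 1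
    rw [evSub, evSub, if_pos hi.2, if_pos hx6, hi.1]
    exact ev_inv x (lt_of_lt_of_le hx6 (by decide))
  · intro w hw
    rw [evSub_eq (hsub w hw).2]
    exact rels_hold w (hsub w hw).1
  · intro w hw
    simp [LyGL.enum, LyGL.subWords] at hw
  · have e : LyGL.cover.gens = [0, 2] := by decide +kernel
    rw [e]
    refine Subgroup.closure_mono ?_
    rintro _ ⟨x, hx, rfl⟩
    exact ⟨x, hx, if_pos ((show ∀ y ∈ ([0, 2] : List ℕ), y < 4 by decide) x hx)⟩

theorem card_P_le : Nat.card (genBy ev [0, 2, 4]) ≠ 0 ∧ Nat.card (genBy ev [0, 2, 4]) ≤ 3125 * 480 := by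
  have h2 : Nat.card (genBy ev [0, 2]) ≠ 0 ∧ Nat.card (genBy ev [0, 2]) ≤ 480 * 1 :=
    card_le_mul (genBy_mono ev (by simp)) (card_bot_le ev) relIndex_GL
  exact card_le_mul (genBy_mono ev (by simp)) ⟨h2.1, by simpa using h2.2⟩ relIndex_P

/-- The order is at most that of G₂(5). -/
theorem card_le : Nat.card H5 ≠ 0 ∧ Nat.card H5 ≤ 5859000000 := by
  have := card_top_le card_P_le relIndex_H
  exact ⟨this.1, this.2.trans (by norm_num)⟩

end CfsgLib.Presented.Ly
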