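import Cfsg.Agent.Lib.Presented.Ly.Rep
import Cfsg.Agent.Lib.Presented.Ly.Upper
import Cfsg.Agent.Lib.Presented.Cert.LyVec
import Mathlib.Data.Nat.Prime.Factorial
import Mathlib.GroupTheory.OrderOfElement

/-!
The index of G₂(5) in the presented Lyons group is exactly 8835156: the representation gives elements of order
11, 37, 67, the size of the first suborbit and the injectivity on G₂(5); arithmetic does the rest.
-/
set_option autoImplicit false
set_option maxRecDepth 100000

namespace CfsgLib.Presented.Ly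

open Dce LyOrb MatFive

theorem facts_vec : checkVec 111 LyMat.gens LyVec.facts = true := by decide +kernel

theorem unit_vec : ((List.range 7).all fun j => (List.range 111).all fun i =>
    Nat.beq (digit (8 ^ j) i) (cond (Nat.beq i j) 1 0)) = true := by decide +kernel

/-- an entry read from the image of a unit vector -/
theorem entry_of_fact {w : List ℕ} {j u : ℕ} (hj : j < 7) (hc : (w, 8 ^ j, u) ∈ LyVec.facts) (i : Fin 111) :
    (rho (evW evL w)).val i ⟨j, by omega⟩ = (digit u i : ZMod 5) := by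
  have h := rho_vec facts_vec hc
  have e : vec 111 (8 ^ j) = Pi.single (⟨j, by omega⟩ : Fin 111) 1 := by
    funext k
    have hu := unit_vec
    simp only [List.all_eq_true, List.mem_range, Nat.beq_eq] at hu
    show ((digit (8 ^ j) k : ℕ) : ZMod 5) = _
    rw [hu j hj k k.2, Pi.single_apply]
    by_cases hk : (k : ℕ) = j
    · rw [if_pos (Fin.ext hk), hk, Nat.beq_refl]; simp
    · rw [if_neg (fun e => hk (by rw [e]))]
      have : Nat.beq (k : ℕ) j = false := by
        cases hb : Nat.beq (k : ℕ) j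
        · rfl
        · exact absurd (Nat.eq_of_beq_eq_true hb) hk
      simp [this]
  rw [e, Matrix.mulVec_single_one] at h
  exact congrFun h i

theorem toLy_mem_keep (h : H5) : rho (toLy h) ∈ keep7 := by
  suffices hle : (⊤ : Subgroup H5) ≤ keep7.comap (rho.comp toLy) from hle (Subgroup.mem_top h)
  rw [← PresentedGroup.closure_range_of, Subgroup.closure_le]
  rintro _ ⟨g, rfl⟩
  have e : ev (idx5 g) = PresentedGroup.of g :=
    (Letters.ev_idx (L := letters5) letters5_valid (Letters.of_sq nodes5_valid) (full5 g).1 (full5 g).2).1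
  show rho (toLy (PresentedGroup.of g)) ∈ keep7
  rw [← e]
  exact ev_mem_keep (by cases g <;> decide)

theorem not_range_of_fact {w : List ℕ} {j i u : ℕ} (hj : j < 7) (hi : 7 ≤ i) (hi' : i < 111)
    (hc : (w, 8 ^ j, u) ∈ LyVec.facts) (hu : digit u i % 5 ≠ 0) : evW evL w ∉ toLy.range := by
  rintro ⟨h, hh⟩
  have hk := toLy_mem_keep h
  rw [hh] at hk
  have h0 := (hk ⟨i, hi'⟩ ⟨j, by omega⟩ hi hj).1
  rw [entry_of_fact hj hc] at h0
  exact hu (Nat.dvd_iff_mod_eq_zero.1 ((ZMod.natCast_eq_zero_iff _ _).1 h0))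

theorem gz_not_range : gz ∉ toLy.range := by
  have h := not_range_of_fact (w := [10]) (j := 0) (i := 7) (u := (LyVec.facts.getD 5 ([], 0, 0)).2.2)
    (by decide) (by decide) (by decide) (by decide +kernel) (by decide +kernel)
  simpa [evW, evL] using h

theorem leave_ok : ((rows1.drop 1).all fun r => r.1.all (fun x => Nat.blt x 10) &&
    LyVec.facts.any (fun f => decide (f.1 = [11] ++ r.1 ++ [10]) && decide (f.2.1 = 8 ^ 0) &&
      !Nat.beq (digit f.2.2 7 % 5) 0)) = true := by decide +kernel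

theorem smul_P1_iff (h : H5) : toLy h • P1 = P1 ↔ gz⁻¹ * toLy h * gz ∈ toLy.range := by
  rw [P1, smul_smul, pBase, MulAction.Quotient.smul_coe, MulAction.Quotient.smul_coe, smul_eq_mul, smul_eq_mul,
    mul_one, mul_one]
  refine QuotientGroup.eq.trans ?_
  rw [← inv_mem_iff]
  refine iff_of_eq (congrArg (· ∈ toLy.range) ?_)
  group

theorem rows1_ok : coverOK S1 rows1 = true := by decide +kernel

theorem fix_P1_iff (h : H5) : toLy h • P1 = P1 ↔ h ∈ K := by
  refine ⟨fun hP => ?_, fun hk => wgrp_fix fix1 h hk⟩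
  have hok := rows1_ok
  simp only [coverOK, Bool.and_eq_true, List.all_eq_true, Nat.blt_eq] at hok
  obtain ⟨hall, hfold⟩ := hok
  let i := phi h pt0
  have hi : (rows1.foldl (fun a r => Nat.lor a r.2.2.2) 0).testBit (i : ℕ) = true := by
    rw [Nat.eq_of_beq_eq_true hfold, Vec.testBit_ones]
    exact decide_eq_true i.2
  rcases mem_foldl (fun r => r.2.2.2) rows1 0 i hi with h0 | ⟨r, hr, hbit⟩
  · simp at h0
  obtain ⟨⟨⟨hlt, hp⟩, horb⟩, hv⟩ := hall r hr
  obtain ⟨s, hs, hsi⟩ := (orbit_eq_of_ok rep_valid horb phi (fun x hx => phi_ev x hx) rfl hp i).2 hbit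
  have hv0 : phi (evW ev r.1) ⟨r.2.1, hp⟩ = pt0 := by
    rw [phi_evW hlt]
    apply Fin.ext
    rw [Rep.netW_perm rep_valid]
    rw [Vec.testBit_applyNet (Rep.netOk_netW rep_valid r.1)] at hv
    exact VCert.one_bit hv
  have hk : evW ev r.1 * s⁻¹ * h ∈ K := by
    rw [← stab_eq, map_mul, map_mul, Equiv.Perm.mul_apply, Equiv.Perm.mul_apply]
    have e : phi s⁻¹ i = ⟨r.2.1, hp⟩ := by
      rw [← hsi, ← Equiv.Perm.mul_apply, ← map_mul, inv_mul_cancel, map_one, Equiv.Perm.one_apply]
    rw [show phi h pt0 = i from rfl, e, hv0]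
  have hsP : toLy s • P1 = P1 := wgrp_fix fix1 s hs
  have hkP := wgrp_fix fix1 _ hk
  rw [map_mul, map_mul, mul_smul, mul_smul, hP, map_inv, inv_smul_eq_iff.2 hsP.symm] at hkP
  by_cases hr0 : r = ([], 0, 1, orb1_0)
  · subst hr0
    have hsK : s ∈ K := hs
    have := K.mul_mem (K.mul_mem (K.inv_mem hsK) (K.inv_mem (K.one_mem))) (K.one_mem)
    have h' := K.mul_mem hsK hk
    rw [evW_nil, one_mul, mul_inv_cancel_left] at h'
    exact h'
  · exfalso
    have hr1 : r ∈ rows1.drop 1 := by
      rw [show rows1 = ([], 0, 1, orb1_0) :: rows1.drop 1 from rfl, List.mem_cons] at hr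
      exact hr.resolve_left hr0
    have hl := leave_ok
    simp only [List.all_eq_true, List.any_eq_true, Bool.and_eq_true, decide_eq_true_eq, Bool.not_eq_true',
      Nat.blt_eq] at hl
    obtain ⟨-, ⟨w, v, u⟩, hf, ⟨hw, hv'⟩, hu⟩ := hl r hr1
    simp only at hw hv' hu
    subst hw hv'
    refine not_range_of_fact (j := 0) (i := 7) (by decide) (by decide) (by decide) hf ?_ ?_
    · intro e; rw [e] at hu; simp at hu
    · rw [evW_append, evW_append, evL_lt hlt]
      simpa [evW, evL] using (smul_P1_iff _).1 hkP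

/-! ### Injectivity -/

theorem toLy_ne : toLy (ev 0) ≠ 1 := by
  intro h
  have h1 : (rho (evL 0)).val = lyMat 0 := rho_evL (by decide)
  have e : evL 0 = 1 := by rw [show evL 0 = toLy (ev 0) by simp [evL], h]
  rw [e, map_one, Units.val_one] at h1
  have h2 := congrFun (congrFun h1 0) 0
  rw [Matrix.one_apply_eq] at h2
  have h3 : ((digit ((LyMat.gens.getD 0 []).getD 0 0) 0 : ℕ) : ZMod 5) = 1 := h2.symm
  rw [show digit ((LyMat.gens.getD 0 []).getD 0 0) 0 = 2 by decide +kernel] at h3
  exact absurd h3 (by decide)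

theorem toLy_injective : Function.Injective toLy := by
  haveI := h5_simple
  rw [← MonoidHom.ker_eq_bot_iff]
  rcases (MonoidHom.normal_ker toLy).eq_bot_or_eq_top with h | h
  · exact h
  · exact absurd (toLy.mem_ker.1 (h ▸ Subgroup.mem_top (ev 0))) toLy_ne

theorem card_range : Nat.card toLy.range = 5859000000 :=
  (Nat.card_congr (MonoidHom.ofInjective toLy_injective).toEquiv).symm.trans card_H5.1

theorem card_eq_mul : Nat.card Cfsg.Spor.Ly = 5859000000 * toLy.range.index := by
  rw [← card_range, Subgroup.card_mul_index]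

/-! ### Three primes -/

theorem evW_rep (w : List ℕ) : ∀ n : ℕ, evW evL (List.replicate n w).flatten = evW evL w ^ n
  | 0 => by rw [pow_zero]; rfl
  | n + 1 => by rw [List.replicate_succ, List.flatten_cons, evW_append, evW_rep w n, pow_succ']

theorem dvd_order {g : Cfsg.Spor.Ly} {p : ℕ} (hp : p.Prime) {v : Fin 111 → ZMod 5}
    (h1 : (rho (g ^ p)).val.mulVec v = v) (h2 : (rho g).val.mulVec v ≠ v) : p ∣ orderOf g := by
  by_contra hn
  obtain ⟨m, hm⟩ := exists_pow_eq_self_of_coprime (x := g) ((hp.coprime_iff_not_dvd).2 hn)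
  apply h2
  rw [← hm, map_pow, Units.val_pow_eq_pow_val]
  clear hm
  induction m with
  | zero => rw [pow_zero, Matrix.one_mulVec]
  | succ m ih => rw [pow_succ, ← Matrix.mulVec_mulVec, h1, ih]

theorem dvd_of_facts {p v : ℕ} {w : List ℕ} {u : ℕ} (hp : p.Prime)
    (h1 : ((List.replicate p w).flatten, v, v) ∈ LyVec.facts) (h2 : (w, v, u) ∈ LyVec.facts)
    {i : ℕ} (hi : i < 111) (hd : digit v i % 5 ≠ digit u i % 5) : p ∣ Nat.card Cfsg.Spor.Ly := by
  refine (dvd_order (g := evW evL w) hp (v := vec 111 v) ?_ ?_).trans (orderOf_dvd_natCard _)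
  · rw [← evW_rep]
    exact rho_vec facts_vec h1
  · rw [rho_vec facts_vec h2]
    intro e
    exact hd ((ZMod.natCast_eq_natCast_iff' _ _ 5).1 (congrFun e ⟨i, hi⟩).symm)

theorem dvd_eleven : 11 ∣ Nat.card Cfsg.Spor.Ly :=
  dvd_of_facts (w := LyMat.word11) (v := LyMat.vec11) (u := (LyVec.facts.getD 7 ([], 0, 0)).2.2)
    (i := ((List.range 111).find? fun i => digit LyMat.vec11 i % 5 != digit (LyVec.facts.getD 7 ([], 0, 0)).2.2 i % 5).getD 0)
    (by norm_num) (by decide +kernel) (by decide +kernel) (by decide +kernel) (by decide +kernel)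

theorem dvd_thirtyseven : 37 ∣ Nat.card Cfsg.Spor.Ly :=
  dvd_of_facts (w := LyMat.word37) (v := LyMat.vec37) (u := (LyVec.facts.getD 9 ([], 0, 0)).2.2)
    (i := ((List.range 111).find? fun i => digit LyMat.vec37 i % 5 != digit (LyVec.facts.getD 9 ([], 0, 0)).2.2 i % 5).getD 0)
    (by norm_num) (by decide +kernel) (by decide +kernel) (by decide +kernel) (by decide +kernel)

theorem dvd_sixtyseven : 67 ∣ Nat.card Cfsg.Spor.Ly :=
  dvd_of_facts (w := LyMat.word67) (v := LyMat.vec67) (u := (LyVec.facts.getD 11 ([], 0, 0)).2.2)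
    (i := ((List.range 111).find? fun i => digit LyMat.vec67 i % 5 != digit (LyVec.facts.getD 11 ([], 0, 0)).2.2 i % 5).getD 0)
    (by norm_num) (by decide +kernel) (by decide +kernel) (by decide +kernel) (by decide +kernel)

theorem dvd_index : 27269 ∣ toLy.range.index := by
  have h : ∀ p, p.Prime → p ∣ Nat.card Cfsg.Spor.Ly → ¬ p ∣ 5859000000 → p ∣ toLy.range.index := by
    intro p hp hd hn
    rw [card_eq_mul] at hd
    exact (hp.dvd_mul.1 hd).resolve_left hn
  have h11 := h 11 (by norm_num) dvd_eleven (by norm_num)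
  have h37 := h 37 (by norm_num) dvd_thirtyseven (by norm_num)
  have h67 := h 67 (by norm_num) dvd_sixtyseven (by norm_num)
  exact Nat.Coprime.mul_dvd_of_dvd_of_dvd (m := 11 * 37) (n := 67) (by norm_num)
    (Nat.Coprime.mul_dvd_of_dvd_of_dvd (by norm_num) h11 h37) h67

/-! ### Suborbits -/

/-- the stabiliser in G₂(5) of a point -/
noncomputable def St (P : XLy) : Subgroup H5 := (MulAction.stabilizer Cfsg.Spor.Ly P).comap toLy

theorem mem_St {P : XLy} {h : H5} : h ∈ St P ↔ toLy h • P = P := Iff.rfl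

theorem orb_ncard (P : XLy) : (orb P).ncard = (St P).index := by
  letI : MulAction H5 XLy := MulAction.compHom XLy toLy
  exact (MulAction.index_stabilizer H5 P).symm

theorem orb_mul (P : XLy) : Nat.card (St P) * (orb P).ncard = 5859000000 := by
  rw [orb_ncard, Subgroup.card_mul_index, card_H5.1]

theorem orb_one_or (P : XLy) : (orb P).ncard = 1 ∨ 31 ≤ (orb P).ncard := by
  haveI := h5_simple
  haveI : Finite H5 := Nat.finite_of_card_ne_zero (by rw [card_H5.1]; norm_num)
  letI : MulAction H5 XLy := MulAction.compHom XLy toLy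
  let f := MulAction.toPermHom H5 (MulAction.orbit H5 P)
  have hfin : (MulAction.orbit H5 P).Finite := Set.finite_range _
  haveI : Finite (MulAction.orbit H5 P) := hfin.to_subtype
  rcases (MonoidHom.normal_ker f).eq_bot_or_eq_top with h | h
  · right
    have hinj := Subgroup.card_dvd_of_injective f ((MonoidHom.ker_eq_bot_iff f).1 h)
    rw [card_H5.1, Nat.card_perm, Nat.card_coe_set_eq] at hinj
    exact (Nat.Prime.dvd_factorial (by norm_num : Nat.Prime 31)).1 ((by norm_num : 31 ∣ 5859000000).trans hinj)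
  · left
    rw [orb_ncard, Subgroup.index_eq_one, eq_top_iff]
    intro g _
    have hg : f g = 1 := f.mem_ker.1 (h ▸ Subgroup.mem_top g)
    exact congrArg Subtype.val (Equiv.ext_iff.1 hg ⟨P, MulAction.mem_orbit_self P⟩)

theorem bitCount_dvd_card {G : Type*} [Group G] {N : ℕ} (φ : G →* Equiv.Perm (Fin N)) (H : Subgroup G) (i : Fin N)
    (O : ℕ) (hmem : ∀ j : Fin N, (∃ h ∈ H, φ h i = j) ↔ O.testBit j = true) : bitCount O N ∣ Nat.card H := by
  classical
  letI : MulAction H (Fin N) := MulAction.compHom _ (φ.comp H.subtype)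
  have hdvd := Subgroup.index_dvd_card (MulAction.stabilizer H i)
  rw [MulAction.index_stabilizer] at hdvd
  refine dvd_trans (dvd_of_eq ?_) hdvd
  rw [bitCount_eq, ← Set.ncard_coe_finset, ← Set.ncard_image_of_injective (MulAction.orbit H i) Fin.val_injective]
  congr 1
  ext j
  simp only [Finset.coe_filter, Finset.mem_range, Set.mem_ofPred_eq, Set.mem_image]
  constructor
  · rintro ⟨hj, hb⟩
    obtain ⟨s, hs, he⟩ := (hmem ⟨j, hj⟩).2 hb
    exact ⟨⟨j, hj⟩, ⟨⟨s, hs⟩, he⟩, rfl⟩
  · rintro ⟨x, ⟨⟨s, hs⟩, hx⟩, rfl⟩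
    exact ⟨x.2, (hmem x).1 ⟨s, hs, hx⟩⟩

theorem dvd_wgrp {gens : List (List ℕ)} {i rounds O n : ℕ} (hi : i < 19530)
    (hok : orbitOK LyPerm.rep gens i rounds O = true) (hn : Nat.beq (bitCount O 19530) n = true) :
    n ∣ Nat.card (wgrp gens) :=
  (Nat.eq_of_beq_eq_true hn) ▸ bitCount_dvd_card phi (wgrp gens) ⟨i, hi⟩ O
    (orbit_eq_of_ok rep_valid hok phi (fun x hx => phi_ev x hx) (H := wgrp gens) rfl hi)

theorem orb_dvd {gens : List (List ℕ)} {P : XLy} (hP : Fix gens P) {n m : ℕ}
    (hn : n ∣ Nat.card (wgrp gens)) (hnm : n * m = 5859000000) : (orb P).ncard ∣ m := by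
  have hle : wgrp gens ≤ St P := fun s hs => wgrp_fix hP s hs
  obtain ⟨c, hc⟩ := hn.trans (Subgroup.card_dvd_of_le hle)
  have h := orb_mul P
  rw [hc, mul_assoc, ← hnm] at h
  exact Dvd.intro_left c (Nat.eq_of_mul_eq_mul_left (Nat.pos_of_ne_zero (by rintro rfl; simp at hnm)) h)

theorem orb1_eq : (orb P1).ncard = 19530 := by
  have e : St P1 = K := Subgroup.ext fun h => fix_P1_iff h
  have := orb_mul P1
  rw [e, card_K] at this
  omega

theorem orb2_dvd : (orb P2).ncard ∣ 2034375 :=
  orb_dvd fix2_3 (dvd_wgrp (n := 2880) (i := (rows2.getD 2 ([], 0, 0, 0)).2.1) (rounds := (rows2.getD 2 ([], 0, 0, 0)).2.2.1)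
    (O := (rows2.getD 2 ([], 0, 0, 0)).2.2.2) (by decide +kernel) (by decide +kernel) (by decide +kernel)) (by norm_num)

theorem orb3_dvd : (orb P3).ncard ∣ 5812500 :=
  orb_dvd fix3_3 (dvd_wgrp (n := 1008) (i := (rows3.getD 1 ([], 0, 0, 0)).2.1) (rounds := (rows3.getD 1 ([], 0, 0, 0)).2.2.1)
    (O := (rows3.getD 1 ([], 0, 0, 0)).2.2.2) (by decide +kernel) (by decide +kernel) (by decide +kernel)) (by norm_num)

theorem orb4_dvd : (orb P4).ncard ∣ 968750 :=
  orb_dvd fix4_5 (dvd_wgrp (n := 6048) (i := (rows4.getD 2 ([], 0, 0, 0)).2.1) (rounds := (rows4.getD 2 ([], 0, 0, 0)).2.2.1)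
    (O := (rows4.getD 2 ([], 0, 0, 0)).2.2.2) (by decide +kernel) (by decide +kernel) (by decide +kernel)) (by norm_num)

/-! ### The count -/

/-- all divisors of a factored number -/
def divs : List (ℕ × ℕ) → List ℕ
  | [] => [1]
  | (p, a) :: L => (List.range (a + 1)).flatMap fun i => (divs L).map fun d => p ^ i * d

theorem mem_divs : ∀ (L : List (ℕ × ℕ)), (∀ q ∈ L, q.1.Prime) → ∀ d, d ∣ (L.map fun q => q.1 ^ q.2).prod → d ∈ divs L
  | [], _, d, hd => by simpa [divs] using hd
  | (p, a) :: L, hL, d, hd => by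
    rw [List.map_cons, List.prod_cons] at hd
    obtain ⟨y, z, hy, hz, rfl⟩ := Nat.dvd_mul.1 hd
    obtain ⟨i, hi, rfl⟩ := (Nat.dvd_prime_pow (hL (p, a) List.mem_cons_self)).1 hy
    exact List.mem_flatMap.2 ⟨i, List.mem_range.2 (Nat.lt_succ_of_le hi),
      List.mem_map.2 ⟨z, mem_divs L (fun q hq => hL q (List.mem_cons_of_mem _ hq)) z hz, rfl⟩⟩

/-- the possible contributions of an orbit -/
def cands (L : List (ℕ × ℕ)) : List ℕ := 0 :: (divs L).filter fun d => Nat.beq d 1 || Nat.ble 31 d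

def fac2 : List (ℕ × ℕ) := [(3, 1), (5, 5), (7, 1), (31, 1)]
def fac3 : List (ℕ × ℕ) := [(2, 2), (3, 1), (5, 6), (31, 1)]
def fac4 : List (ℕ × ℕ) := [(2, 1), (5, 6), (31, 1)]

theorem only_solution : ((cands fac2).all fun a => (cands fac3).all fun b => (cands fac4).all fun c =>
    !Nat.beq ((19531 + a + b + c) % 27269) 0 ||
      (Nat.beq a 2034375 && Nat.beq b 5812500 && Nat.beq c 968750)) = true := by decide +kernel

/-- the orbits so far -/
def Closed (A : Set XLy) : Prop := ∀ h : H5, ∀ p ∈ A, toLy h • p ∈ A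

theorem closed_orb (P : XLy) : Closed (orb P) := by
  rintro g _ ⟨h, rfl⟩
  exact ⟨g * h, show toLy (g * h) • P = toLy g • toLy h • P by rw [map_mul, mul_smul]⟩

theorem mem_orb_self (P : XLy) : P ∈ orb P := ⟨1, show toLy 1 • P = P by rw [map_one, one_smul]⟩

theorem closed_union {A B : Set XLy} (hA : Closed A) (hB : Closed B) : Closed (A ∪ B) :=
  fun h p hp => hp.imp (hA h p) (hB h p)

theorem toLy_smul_P0 (h : H5) : toLy h • P0 = P0 := by
  rw [P0, pBase, MulAction.Quotient.smul_coe, smul_eq_mul, mul_one]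
  exact QuotientGroup.eq.2 (by rw [mul_one]; exact toLy.range.inv_mem ⟨_, rfl⟩)

theorem closed_P0 : Closed ({P0} : Set XLy) := by
  rintro h p rfl
  exact toLy_smul_P0 h

theorem P1_ne : P1 ≠ P0 := by
  intro h
  apply gz_not_range
  rw [P1, P0, pBase, MulAction.Quotient.smul_coe, smul_eq_mul, mul_one] at h
  have h' := QuotientGroup.eq.1 h
  rw [mul_one] at h'
  exact inv_mem_iff.1 h'

theorem finite_XLy : Finite XLy := by
  rw [← Set.finite_univ_iff, univ_eq]
  exact ((((Set.finite_singleton _).union orb1_le.1).union orb2_le.1).union orb3_le.1).union orb4_le.1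

theorem union_step {A : Set XLy} (hA : Closed A) (P : XLy) : ∃ x : ℕ,
    (A ∪ orb P).ncard = A.ncard + x ∧ (x = 0 ∨ x = (orb P).ncard ∧ Disjoint A (orb P)) := by
  haveI := finite_XLy
  by_cases hP : P ∈ A
  · refine ⟨0, ?_, Or.inl rfl⟩
    rw [Set.union_eq_self_of_subset_right, Nat.add_zero]
    rintro _ ⟨h, rfl⟩
    exact hA h P hP
  · have hd : Disjoint A (orb P) := by
      rw [Set.disjoint_left]
      rintro _ hp ⟨h, rfl⟩
      have := hA h⁻¹ _ hp
      rw [map_inv, inv_smul_smul] at this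
      exact hP this
    exact ⟨_, Set.ncard_union_eq hd, Or.inr ⟨rfl, hd⟩⟩

theorem mem_cands {L : List (ℕ × ℕ)} (hL : ∀ q ∈ L, q.1.Prime) {P : XLy} {n : ℕ}
    (hn : (L.map fun q => q.1 ^ q.2).prod = n) (hd : (orb P).ncard ∣ n) {A : Set XLy} {x : ℕ}
    (hx : x = 0 ∨ x = (orb P).ncard ∧ Disjoint A (orb P)) : x ∈ cands L := by
  rcases hx with rfl | ⟨rfl, -⟩
  · exact List.mem_cons_self
  · refine List.mem_cons_of_mem _ (List.mem_filter.2 ⟨mem_divs L hL _ (hn.symm ▸ hd), ?_⟩)
    rcases orb_one_or P with h | h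
    · simp [h]
    · simp [h]

/-- the index, the sizes of the five suborbits, and their disjointness -/
theorem index_and_orbits : toLy.range.index = 8835156 ∧ (orb P2).ncard = 2034375 ∧ (orb P3).ncard = 5812500 ∧
    (orb P4).ncard = 968750 := by
  haveI := finite_XLy
  have h01 : ({P0} ∪ orb P1 : Set XLy).ncard = 19531 := by
    obtain ⟨x, hx, hor⟩ := union_step closed_P0 P1
    rw [hx, Set.ncard_singleton]
    rcases hor with rfl | ⟨rfl, -⟩
    · exfalso
      rw [Set.ncard_singleton] at hx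
      obtain ⟨a, ha⟩ := Set.ncard_eq_one.1 hx
      have e0 : P0 ∈ ({a} : Set XLy) := ha ▸ Or.inl rfl
      have e1 : P1 ∈ ({a} : Set XLy) := ha ▸ Or.inr (mem_orb_self P1)
      exact P1_ne (e1.trans e0.symm)
    · rw [orb1_eq]
  have c01 := closed_union closed_P0 (closed_orb P1)
  obtain ⟨a, ha, ha'⟩ := union_step c01 P2
  obtain ⟨b, hb, hb'⟩ := union_step (closed_union c01 (closed_orb P2)) P3
  obtain ⟨c, hc, hc'⟩ := union_step (closed_union (closed_union c01 (closed_orb P2)) (closed_orb P3)) P4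
  have hidx : toLy.range.index = 19531 + a + b + c := by
    rw [Subgroup.index, ← Set.ncard_univ, univ_eq, hc, hb, ha, h01]
  have ha2 := mem_cands (L := fac2) (by intro q hq; fin_cases hq <;> norm_num) (n := 2034375) (by decide +kernel) orb2_dvd ha'
  have hb2 := mem_cands (L := fac3) (by intro q hq; fin_cases hq <;> norm_num) (n := 5812500) (by decide +kernel) orb3_dvd hb'
  have hc2 := mem_cands (L := fac4) (by intro q hq; fin_cases hq <;> norm_num) (n := 968750) (by decide +kernel) orb4_dvd hc'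
  have hsol := only_solution
  simp only [List.all_eq_true, Bool.or_eq_true, Bool.and_eq_true, Bool.not_eq_true', Nat.beq_eq] at hsol
  have hmod : (19531 + a + b + c) % 27269 = 0 := Nat.dvd_iff_mod_eq_zero.1 (hidx ▸ dvd_index)
  rcases hsol a ha2 b hb2 c hc2 with h | ⟨⟨rfl, rfl⟩, rfl⟩
  · rw [hmod] at h; simp at h
  refine ⟨hidx.trans (by norm_num), ?_, ?_, ?_⟩
  · rcases ha' with h | ⟨h, -⟩
    · exact absurd h (by norm_num)
    · exact h.symm
  · rcases hb' with h | ⟨h, -⟩
    · exact absurd h (by norm_num)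
    · exact h.symm
  · rcases hc' with h | ⟨h, -⟩
    · exact absurd h (by norm_num)
    · exact h.symm

/-- The index of G₂(5) in the presented Lyons group. -/
theorem index_eq : toLy.range.index = 8835156 := index_and_orbits.1

/-- The order of the presented Lyons group. -/
theorem card_Ly : Nat.card Cfsg.Spor.Ly = 51765179004000000 := by rw [card_eq_mul, index_eq]

theorem card_St1 : Nat.card (St P1) = 300000 := by have := orb_mul P1; rw [orb1_eq] at this; omega

theorem card_St2 : Nat.card (St P2) = 2880 := by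
  have h := orb_mul P2
  rw [index_and_orbits.2.1] at h
  exact Nat.eq_of_mul_eq_mul_right (by norm_num) (h.trans (by norm_num))

theorem card_St3 : Nat.card (St P3) = 1008 := by
  have h := orb_mul P3
  rw [index_and_orbits.2.2.1] at h
  exact Nat.eq_of_mul_eq_mul_right (by norm_num) (h.trans (by norm_num))

theorem card_St4 : Nat.card (St P4) = 6048 := by
  have h := orb_mul P4
  rw [index_and_orbits.2.2.2] at h
  exact Nat.eq_of_mul_eq_mul_right (by norm_num) (h.trans (by norm_num))

end CfsgLib.Presented.Ly
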