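import Cfsg.Agent.Lib.Presented.Ly.Model
import Cfsg.Agent.Lib.Presented.Orbit
import Cfsg.Agent.Lib.Presented.Cert.LyPerm
import Cfsg.Agent.Lib.Presented.Cert.LyK

/-!
The action of G₂(5) on 19530 points and its point stabiliser K.
-/
set_option autoImplicit false
set_option maxRecDepth 100000

namespace CfsgLib.Presented.Ly

open MatCheck

theorem rep_valid : LyPerm.rep.valid = true := by decide +kernel

theorem exists_phi : ∃ φ : H5 →* Equiv.Perm (Fin LyPerm.rep.N),
    ∀ x, x < LyH.alphabet.eps → φ (ev x) = LyPerm.rep.perm rep_valid x :=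
  Letters.exists_rep (L := letters5) (ws := letters5.coxWords ([] : List (Gen5 × ℕ × Gen5)) ++ letters5.extraWords extra5)
    (edges := []) (extra := extra5) (by rfl) letters5_valid nodes5_valid full5 rfl rep_valid (by decide +kernel)

/-- the action -/
noncomputable def phi : H5 →* Equiv.Perm (Fin LyPerm.rep.N) := exists_phi.choose

theorem phi_ev : ∀ x, x < 10 → phi (ev x) = LyPerm.rep.perm rep_valid x := exists_phi.choose_spec

theorem phi_evW {w : List ℕ} (hw : ∀ y ∈ w, y < 10) : phi (evW ev w) = evW (LyPerm.rep.perm rep_valid) w := by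
  simp only [evW, map_list_prod, List.map_map]
  rw [List.map_congr_left (f := ⇑phi ∘ ev) (g := LyPerm.rep.perm rep_valid) fun x hx => phi_ev x (hw x hx)]

theorem invWord_lt {w : List ℕ} (hw : ∀ y ∈ w, y < 10) : ∀ x ∈ invWord LyH.alphabet w, x < 10 := by
  intro x hx
  simp only [invWord, List.mem_reverse, List.mem_map] at hx
  obtain ⟨y, hy, rfl⟩ := hx
  exact (show ∀ y < 10, LyH.alphabet.invl y < 10 by decide +kernel) y (hw y hy)

/-- two words with the same adjoint matrices -/
noncomputable def sameWord (u v : List ℕ) : Bool :=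
  u.all (fun x => Nat.blt x 10) && v.all (fun x => Nat.blt x 10) &&
    check 14 5 LyAdj.sb LyAdj.idx LyAdj.gens
      ((pushAll LyH.alphabet (u ++ invWord LyH.alphabet v) []).reverse)

theorem sameWord_sound {u v : List ℕ} (h : sameWord u v = true) : evW ev u = evW ev v := by
  simp only [sameWord, Bool.and_eq_true, List.all_eq_true, Nat.blt_eq] at h
  obtain ⟨⟨hu, hv⟩, hc⟩ := h
  have hle : ∀ x ∈ u ++ invWord LyH.alphabet v, x ≤ LyH.alphabet.eps := fun x hx =>
    le_of_lt ((List.mem_append.1 hx).elim (hu x) (invWord_lt hv x))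
  have hr : ∀ x ∈ (pushAll LyH.alphabet (u ++ invWord LyH.alphabet v) []).reverse, x < 10 := by
    have key : ∀ (l acc : List ℕ), (∀ x ∈ l, x < 10) → (∀ x ∈ acc, x < 10) →
        ∀ x ∈ pushAll LyH.alphabet l acc, x < 10 := by
      intro l
      induction l with
      | nil => exact fun acc _ h => h
      | cons y l ih =>
        intro acc hl hacc
        refine ih _ (fun z hz => hl z (List.mem_cons_of_mem _ hz)) ?_
        intro z hz
        cases acc with
        | nil =>
          rw [push] at hz
          cases hb : Nat.beq y LyH.alphabet.eps <;> rw [hb] at hz <;> simp at hz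
          exact hz ▸ hl y List.mem_cons_self
        | cons a acc =>
          rw [push] at hz
          cases hb : Nat.beq y LyH.alphabet.eps <;> rw [hb] at hz
          · cases hb' : Nat.beq (LyH.alphabet.invl y) a <;> rw [hb'] at hz
            · rcases List.mem_cons.1 hz with rfl | hz
              · exact hl _ List.mem_cons_self
              · exact hacc z hz
            · exact hacc z (List.mem_cons_of_mem _ hz)
          · exact hacc z hz
    intro x hx
    exact key _ [] (fun z hz => (List.mem_append.1 hz).elim (hu z) (invWord_lt hv z)) (by simp) x (List.mem_reverse.1 hx)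
  have e : evW ev ((pushAll LyH.alphabet (u ++ invWord LyH.alphabet v) []).reverse) = 1 := by
    apply card_H5.2
    rw [map_one, chevHom_evW]
    exact Units.ext (by rw [val_evW hr, adj_word hc, Units.val_one])
  rw [pushAll_ev ev_good [] hle, List.reverse_nil, evW_nil, one_mul, evW_append,
    evW_invWord ev_good (fun x hx => le_of_lt (hv x hx)), mul_inv_eq_one] at e
  exact e

/-- the base point -/
def pt0 : Fin LyPerm.rep.N := ⟨0, by decide⟩

/-- value of a word in the letters for x162, …, x169 -/
def xWord (w : List ℕ) : List ℕ := w.flatMap fun i => LyK.xWords.getD i []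

/-- value of the image of such a word -/
def thWord (w : List ℕ) : List ℕ := w.flatMap fun i => LyK.thWords.getD i []

/-- the subgroup K -/
noncomputable def K : Subgroup H5 := Subgroup.closure ((fun w => evW ev w) '' {w | w ∈ LyK.xWords})

theorem xWords_lt : ∀ w ∈ LyK.xWords, ∀ y ∈ w, y < 10 := by decide +kernel

theorem mem_K (w : List ℕ) : evW ev (xWord w) ∈ K := by
  induction w with
  | nil => simp [xWord]
  | cons i w ih =>
    rw [xWord, List.flatMap_cons, evW_append]
    refine K.mul_mem ?_ ih
    rw [List.getD_eq_getElem?_getD]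
    cases h : LyK.xWords[i]? with
    | none => simp
    | some v => exact Subgroup.subset_closure ⟨v, List.mem_of_getElem? h, rfl⟩

theorem K_fix : ∀ k ∈ K, phi k pt0 = pt0 := by
  have h : (LyK.xWords.all fun w => (Vec.applyNet (LyPerm.rep.netW w) 1).testBit 0) = true := by decide +kernel
  simp only [List.all_eq_true] at h
  intro k hk
  induction hk using Subgroup.closure_induction with
  | mem y hy =>
    obtain ⟨w, hw, rfl⟩ := hy
    rw [phi_evW (xWords_lt w hw)]
    apply Fin.ext
    rw [Rep.netW_perm rep_valid]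
    have hb := h w hw
    rw [Vec.testBit_applyNet (Rep.netOk_netW rep_valid w)] at hb
    exact VCert.one_bit hb
  | one => simp
  | mul a b _ _ ha hb => rw [map_mul, Equiv.Perm.mul_apply, hb, ha]
  | inv a _ ha =>
    calc phi a⁻¹ pt0 = phi a⁻¹ (phi a pt0) := by rw [ha]
      _ = pt0 := by rw [← Equiv.Perm.mul_apply, ← map_mul, inv_mul_cancel, map_one, Equiv.Perm.one_apply]

theorem transitive : ∀ j : Fin LyPerm.rep.N, ∃ g : H5, phi g pt0 = j := by
  have hok : orbitOK LyPerm.rep [[0], [1], [2], [3], [4], [5], [8]] 0 24 (Vec.ones 19530) = true := by decide +kernel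
  intro j
  have := (orbit_eq_of_ok rep_valid hok phi (fun x hx => phi_ev x hx) rfl (by decide) j).2
    (by rw [Vec.testBit_ones]; exact decide_eq_true j.2)
  obtain ⟨g, -, hg⟩ := this
  exact ⟨g, hg⟩

theorem K_le_P : K ≤ genBy ev [0, 2, 4] := by
  rw [K, Subgroup.closure_le]
  rintro _ ⟨w, hw, rfl⟩
  refine Subgroup.list_prod_mem _ fun y hy => ?_
  obtain ⟨x, hx, rfl⟩ := List.mem_map.1 hy
  have hx' : x ∈ [0, 1, 2, 3, 4, 5] :=
    (show ∀ w ∈ LyK.xWords, ∀ x ∈ w, x ∈ [0, 1, 2, 3, 4, 5] by decide +kernel) w hw x hx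
  have inv_mem : ∀ y < 10, ev y ∈ genBy ev [0, 2, 4] → ev (LyH.alphabet.invl y) ∈ genBy ev [0, 2, 4] :=
    fun y hy hm => by rw [eq_inv_of_mul_eq_one_left (ev_inv y hy)]; exact Subgroup.inv_mem _ hm
  simp only [List.mem_cons, List.not_mem_nil, or_false] at hx'
  rcases hx' with rfl | rfl | rfl | rfl | rfl | rfl
  exacts [mem_genBy ev (by simp), inv_mem 0 (by omega) (mem_genBy ev (by simp)), mem_genBy ev (by simp),
    inv_mem 2 (by omega) (mem_genBy ev (by simp)), mem_genBy ev (by simp), inv_mem 4 (by omega) (mem_genBy ev (by simp))]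

theorem relIndex_K : K.relIndex (genBy ev [0, 2, 4]) ≠ 0 ∧ K.relIndex (genBy ev [0, 2, 4]) ≤ 5 := by
  classical
  have hrow : ((List.range 5).all fun i => [0, 2, 4].all fun x => LyK.rows.any fun r =>
      Nat.beq r.1 i && Nat.beq r.2.1 x && Nat.blt r.2.2.1 5 &&
        sameWord (x :: LyK.reps.getD i []) (LyK.reps.getD r.2.2.1 [] ++ xWord r.2.2.2)) = true := by decide +kernel
  simp only [List.all_eq_true, List.any_eq_true, List.mem_range, Bool.and_eq_true, Nat.blt_eq] at hrow
  let S : Finset (H5 ⧸ K) := (Finset.range 5).image fun i => ((evW ev (LyK.reps.getD i []) : H5) : H5 ⧸ K)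
  have hgen : ∀ x ∈ [0, 2, 4], ∀ q ∈ S, ev x • q ∈ S := by
    intro x hx q hq
    obtain ⟨i, hi, rfl⟩ := Finset.mem_image.1 hq
    obtain ⟨r, -, ⟨⟨⟨-, -⟩, hj⟩, hs⟩⟩ := hrow i (Finset.mem_range.1 hi) x hx
    refine Finset.mem_image.2 ⟨r.2.2.1, Finset.mem_range.2 hj, ?_⟩
    rw [MulAction.Quotient.smul_coe, smul_eq_mul, ← evW_cons, sameWord_sound hs, evW_append]
    exact (QuotientGroup.eq.2 (by rw [inv_mul_cancel_left]; exact mem_K _))
  have hclosed : ∀ g ∈ genBy ev [0, 2, 4], ∀ q ∈ S, g • q ∈ S := by
    intro g hg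
    induction hg using Subgroup.closure_induction'' with
    | one => exact fun q hq => by rwa [one_smul]
    | mem y hy =>
      obtain ⟨x, hx, rfl⟩ := hy
      exact hgen x hx
    | inv_mem y hy =>
      obtain ⟨x, hx, rfl⟩ := hy
      intro q hq
      have himg : S.image (fun r => ev x • r) = S := Finset.eq_of_subset_of_card_le
        (fun r hr => by
          obtain ⟨r', hr', rfl⟩ := Finset.mem_image.1 hr
          exact hgen x hx r' hr')
        (le_of_eq (Finset.card_image_of_injective _ (MulAction.injective _)).symm)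
      rw [← himg] at hq
      obtain ⟨r', hr', rfl⟩ := Finset.mem_image.1 hq
      rwa [inv_smul_smul]
    | mul y z _ _ ihy ihz => exact fun q hq => by rw [mul_smul]; exact ihy _ (ihz q hq)
  have h0 : ((1 : H5) : H5 ⧸ K) ∈ S := Finset.mem_image.2 ⟨0, by simp, by
    rw [show LyK.reps.getD 0 [] = [] by decide]; rfl⟩
  let PP := genBy ev [0, 2, 4]
  let f : PP ⧸ K.subgroupOf PP → S := fun p => Quotient.liftOn' p
    (fun a => ⟨((a : H5) : H5 ⧸ K), by
      have := hclosed a a.2 _ h0
      rwa [MulAction.Quotient.smul_coe, smul_eq_mul, mul_one] at this⟩)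
    (fun a b h => Subtype.ext (QuotientGroup.eq.2 (by rw [QuotientGroup.leftRel_apply] at h; exact h)))
  have hf : Function.Injective f := by
    intro p q
    induction p using QuotientGroup.induction_on with
    | _ a => induction q using QuotientGroup.induction_on with
      | _ b =>
        intro h
        have h' : ((a : H5) : H5 ⧸ K) = ((b : H5) : H5 ⧸ K) := congrArg Subtype.val h
        have h2 := QuotientGroup.eq.1 h'
        exact QuotientGroup.eq.2 h2
  haveI : Finite (PP ⧸ K.subgroupOf PP) := Finite.of_injective f hf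
  refine ⟨Subgroup.index_ne_zero_of_finite, ?_⟩
  calc Nat.card (PP ⧸ K.subgroupOf PP) ≤ Nat.card S := Nat.card_le_card_of_injective f hf
    _ ≤ 5 := by
      rw [Nat.card_eq_fintype_card, Fintype.card_coe]
      exact Finset.card_image_le.trans (Finset.card_range 5).le

instance finite_H5 : Finite H5 := Nat.finite_of_card_ne_zero card_le.1

theorem stab_eq : ∀ g : H5, phi g pt0 = pt0 ↔ g ∈ K := by
  letI : MulAction H5 (Fin LyPerm.rep.N) := MulAction.compHom _ phi
  have hle : K ≤ MulAction.stabilizer H5 pt0 := fun k hk => K_fix k hk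
  have horb : (MulAction.stabilizer H5 pt0).index = 19530 := by
    haveI : MulAction.IsPretransitive H5 (Fin LyPerm.rep.N) := ⟨fun i j => by
      obtain ⟨g, hg⟩ := transitive i
      obtain ⟨h, hh⟩ := transitive j
      refine ⟨h * g⁻¹, ?_⟩
      show phi (h * g⁻¹) i = j
      rw [map_mul, Equiv.Perm.mul_apply, ← hg, ← Equiv.Perm.mul_apply (phi g⁻¹), ← map_mul, inv_mul_cancel,
        map_one, Equiv.Perm.one_apply, hh]⟩
    rw [MulAction.index_stabilizer_of_transitive, Nat.card_fin]
    rfl
  have hK : K.index ≤ 19530 := by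
    have h1 := Subgroup.relIndex_mul_index K_le_P
    have h2 : (genBy ev [0, 2, 4]).index ≤ 3906 := Subgroup.relIndex_top_right (genBy ev [0, 2, 4]) ▸ relIndex_H.2
    calc K.index = K.relIndex (genBy ev [0, 2, 4]) * (genBy ev [0, 2, 4]).index := h1.symm
      _ ≤ 5 * 3906 := Nat.mul_le_mul relIndex_K.2 h2
  have heq : K = MulAction.stabilizer H5 pt0 := by
    refine le_antisymm hle (Subgroup.relIndex_eq_one.1 ?_)
    have h1 := Subgroup.relIndex_mul_index hle
    rw [horb] at h1
    have h0 : K.index ≠ 0 := Subgroup.index_ne_zero_of_finite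
    rcases Nat.eq_zero_or_pos (K.relIndex (MulAction.stabilizer H5 pt0)) with hz | hz
    · rw [hz, zero_mul] at h1; exact absurd h1.symm h0
    · by_contra hne
      have : 2 * 19530 ≤ K.index := h1 ▸ Nat.mul_le_mul_right _ (by omega)
      omega
  intro g
  rw [heq]
  exact Iff.rfl

theorem card_K : Nat.card K = 300000 := by
  letI : MulAction H5 (Fin LyPerm.rep.N) := MulAction.compHom _ phi
  haveI : MulAction.IsPretransitive H5 (Fin LyPerm.rep.N) := ⟨fun i j => by
    obtain ⟨g, hg⟩ := transitive i
    obtain ⟨h, hh⟩ := transitive j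
    refine ⟨h * g⁻¹, ?_⟩
    show phi (h * g⁻¹) i = j
    rw [map_mul, Equiv.Perm.mul_apply, ← hg, ← Equiv.Perm.mul_apply (phi g⁻¹), ← map_mul, inv_mul_cancel,
      map_one, Equiv.Perm.one_apply, hh]⟩
  have heq : K = MulAction.stabilizer H5 pt0 := Subgroup.ext fun g => (stab_eq g).symm
  have h1 := Subgroup.card_mul_index K
  have h2 : K.index = 19530 := by
    rw [heq, MulAction.index_stabilizer_of_transitive, Nat.card_fin]
    rfl
  rw [h2, card_H5.1] at h1
  omega

end CfsgLib.Presented.Ly
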