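import Cfsg.Agent.Lib.Presented.Ly.ToLy
import Cfsg.Agent.Lib.Presented.Cert.LyMat
import Cfsg.Agent.Lib.Presented.MatFive
import Mathlib.LinearAlgebra.Matrix.GeneralLinearGroup.Defs
import Mathlib.Algebra.Field.ZMod

/-!
A representation of dimension 111 modulo 5 of the presented Lyons group; the image of G₂(5) keeps the span of
the first seven basis vectors.
-/
set_option autoImplicit false
set_option maxRecDepth 100000

namespace CfsgLib.Presented.Ly

open MatFive

theorem mat_shape : shapeOK 111 LyMat.gens = true := by decide +kernel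

theorem gens_length : LyMat.gens.length = 12 := rfl

theorem extra_length : Cfsg.Spor.Ly.extra.length = 86 := by decide +kernel

theorem mat_ok : checkId 111 LyMat.gens ([[0, 1], [1, 0], [2, 3], [3, 2], [4, 5], [5, 4], [6, 7], [7, 6], [8, 9],
    [9, 8], [10, 11], [11, 10]] ++ (List.range 86).map relWord) = true := by decide +kernel

/-- the matrices of the letters -/
noncomputable abbrev lyMat (x : ℕ) : Matrix (Fin 111) (Fin 111) (ZMod 5) := mat 111 LyMat.gens x

theorem mat_pair {a b : ℕ} (h : [a, b] ∈ [[0, 1], [1, 0], [2, 3], [3, 2], [4, 5], [5, 4], [6, 7], [7, 6], [8, 9],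
    [9, 8], [10, 11], [11, 10]]) : lyMat a * lyMat b = 1 := by
  simpa [lyMat] using (checkId_spec mat_shape mat_ok (List.mem_append_left _ h)).2

/-- the images of the six generators, the identity for the others -/
noncomputable def imgSix : Cfsg.Spor.Ly.Gen → GL (Fin 111) (ZMod 5)
  | .a => ⟨lyMat 0, lyMat 1, mat_pair (by decide), mat_pair (by decide)⟩
  | .b => ⟨lyMat 2, lyMat 3, mat_pair (by decide), mat_pair (by decide)⟩
  | .c => ⟨lyMat 4, lyMat 5, mat_pair (by decide), mat_pair (by decide)⟩
  | .d => ⟨lyMat 6, lyMat 7, mat_pair (by decide), mat_pair (by decide)⟩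
  | .e => ⟨lyMat 8, lyMat 9, mat_pair (by decide), mat_pair (by decide)⟩
  | .z => ⟨lyMat 10, lyMat 11, mat_pair (by decide), mat_pair (by decide)⟩
  | _ => 1

theorem val_lift_six : ∀ w : List (Cfsg.Spor.Ly.Gen × Bool), (∀ x ∈ w.map letter6, x < 12) →
    (((FreeGroup.lift imgSix) (FreeGroup.mk w) : GL (Fin 111) (ZMod 5)) : Matrix (Fin 111) (Fin 111) (ZMod 5)) =
      ((w.map letter6).map lyMat).prod
  | [], _ => rfl
  | (g, b) :: w, h => by
    have ih := val_lift_six w fun x hx => h x (List.mem_cons_of_mem _ hx)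
    have hg := h (letter6 (g, b)) List.mem_cons_self
    have hsplit : FreeGroup.mk ((g, b) :: w) = (cond b (FreeGroup.of g) (FreeGroup.of g)⁻¹) * FreeGroup.mk w := by
      cases b <;> simp [FreeGroup.of, FreeGroup.inv_mk, FreeGroup.mul_mk, FreeGroup.invRev]
    rw [hsplit, map_mul, Units.val_mul, ih, List.map_cons, List.map_cons, List.prod_cons]
    refine congrArg (· * _) ?_
    cases b
    · rw [cond_false, map_inv, FreeGroup.lift_apply_of]
      revert hg
      cases g <;> first | (intro _; rfl) | (intro hg; exact absurd hg (by simp [letter6]))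
    · rw [cond_true, FreeGroup.lift_apply_of]
      revert hg
      cases g <;> first | (intro _; rfl) | (intro hg; exact absurd hg (by simp [letter6]))

/-- the images of all generators -/
noncomputable def imgRep (g : Cfsg.Spor.Ly.Gen) : GL (Fin 111) (ZMod 5) := FreeGroup.lift imgSix (sigma g)

theorem imgRep_kills : ∀ r ∈ Cfsg.Spor.coxRelators Cfsg.Spor.Ly.edges ∪ {r | r ∈ Cfsg.Spor.Ly.extra},
    FreeGroup.lift imgRep r = 1 := by
  rintro r (⟨x, hx, -⟩ | hr)
  · exact absurd hx (by simp [Cfsg.Spor.coxNodes, Cfsg.Spor.Ly.edges])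
  · have e : FreeGroup.lift imgRep = (FreeGroup.lift imgSix).comp sigmaHom :=
      FreeGroup.ext_hom _ _ fun g => by
        rw [FreeGroup.lift_apply_of, MonoidHom.comp_apply, sigmaHom, FreeGroup.lift_apply_of]
        rfl
    obtain ⟨i, hi, rfl⟩ := List.mem_iff_getElem.1 (hr : r ∈ Cfsg.Spor.Ly.extra)
    obtain ⟨hlt, hp⟩ := checkId_spec mat_shape mat_ok
      (List.mem_append_right _ (List.mem_map.2 ⟨i, List.mem_range.2 (extra_length ▸ hi), rfl⟩))
    rw [relWord, List.getD_eq_getElem _ _ hi] at hlt hp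
    apply Units.ext
    rw [e, MonoidHom.comp_apply, ← FreeGroup.mk_toWord (x := sigmaHom Cfsg.Spor.Ly.extra[i]),
      val_lift_six _ (fun x hx => (hlt x hx).trans_eq gens_length), Units.val_one]
    exact hp

/-- the representation -/
noncomputable def rho : Cfsg.Spor.Ly →* GL (Fin 111) (ZMod 5) := PresentedGroup.toGroup imgRep_kills

theorem rho_mk (g : Cfsg.Spor.Ly.Gen) : rho (mkLy (FreeGroup.of g)) = imgRep g := PresentedGroup.toGroup.of imgRep_kills

theorem rho_evL {x : ℕ} (hx : x < 12) : ((rho (evL x) : GL (Fin 111) (ZMod 5)) : Matrix (Fin 111) (Fin 111) (ZMod 5)) = lyMat x := by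
  have key : ∀ g : Cfsg.Spor.Ly.Gen, letter6 (g, true) ≠ 12 → sigma g = FreeGroup.of g →
      ((rho (evL (letter6 (g, true))) : GL (Fin 111) (ZMod 5)) : Matrix _ _ (ZMod 5)) = (imgSix g).val ∧
      ((rho (evL (letter6 (g, false))) : GL (Fin 111) (ZMod 5)) : Matrix _ _ (ZMod 5)) = (imgSix g)⁻¹.val := by
    intro g hg hs
    obtain ⟨h1, h2⟩ := evL_letter g hg
    rw [h1, h2, map_inv, rho_mk, imgRep, hs, FreeGroup.lift_apply_of]
    exact ⟨rfl, rfl⟩
  interval_cases x
  exacts [(key .a (by decide) rfl).1, (key .a (by decide) rfl).2, (key .b (by decide) rfl).1,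
    (key .b (by decide) rfl).2, (key .c (by decide) rfl).1, (key .c (by decide) rfl).2, (key .d (by decide) rfl).1,
    (key .d (by decide) rfl).2, (key .e (by decide) rfl).1, (key .e (by decide) rfl).2, (key .z (by decide) rfl).1,
    (key .z (by decide) rfl).2]

/-! ### Vectors -/

theorem rho_evW : ∀ {w : List ℕ}, (∀ x ∈ w, x < 12) →
    (rho (evW evL w)).val = (w.map lyMat).prod
  | [], _ => by rw [evW_nil, map_one, Units.val_one]; rfl
  | x :: w, hw => by
    rw [evW_cons, map_mul, Units.val_mul, rho_evL (hw x List.mem_cons_self),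
      rho_evW fun y hy => hw y (List.mem_cons_of_mem _ hy), List.map_cons, List.prod_cons]

/-- a checked image of a vector -/
theorem rho_vec {cs : List (List ℕ × ℕ × ℕ)} (h : checkVec 111 LyMat.gens cs = true) {w : List ℕ} {v u : ℕ}
    (hc : (w, v, u) ∈ cs) : (rho (evW evL w)).val.mulVec (vec 111 v) = vec 111 u := by
  obtain ⟨hlt, he⟩ := checkVec_spec mat_shape h hc
  rw [rho_evW fun x hx => (hlt x hx).trans_eq gens_length]
  exact he

/-! ### The invariant subspace -/

/-- the maps keeping the span of the first seven basis vectors -/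
def keep7 : Subgroup (GL (Fin 111) (ZMod 5)) where
  carrier := {g | ∀ i j : Fin 111, 7 ≤ (i : ℕ) → (j : ℕ) < 7 → g.val i j = 0 ∧ g⁻¹.val i j = 0}
  mul_mem' {g h} hg hh i j hi hj := by
    rw [mul_inv_rev, Units.val_mul, Units.val_mul, Matrix.mul_apply, Matrix.mul_apply]
    constructor <;> refine Finset.sum_eq_zero fun k _ => ?_ <;> by_cases hk : (k : ℕ) < 7
    · rw [(hg i k hi hk).1, zero_mul]
    · rw [(hh k j (by omega) hj).1, mul_zero]
    · rw [(hh i k hi hk).2, zero_mul]
    · rw [(hg k j (by omega) hj).2, mul_zero]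
  one_mem' i j hi hj := by
    have : i ≠ j := fun e => by subst e; omega
    simp [Matrix.one_apply_ne this]
  inv_mem' {g} hg i j hi hj := by
    rw [inv_inv]
    exact (hg i j hi hj).symm

theorem keep_ok : ((List.range 10).all fun x => (List.range 7).all fun j =>
    Nat.beq (((LyMat.gens.getD x []).getD j 0) / 8 ^ 7) 0) = true := by decide +kernel

theorem lyMat_zero {x : ℕ} (hx : x < 10) {i j : Fin 111} (hi : 7 ≤ (i : ℕ)) (hj : (j : ℕ) < 7) : lyMat x i j = 0 := by
  have h := keep_ok
  simp only [List.all_eq_true, List.mem_range, Nat.beq_eq] at h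
  have h' := h x hx j hj
  show ((digit ((LyMat.gens.getD x []).getD (j : ℕ) 0) (i : ℕ) : ℕ) : ZMod 5) = 0
  rw [digit, ← Nat.add_sub_cancel' hi, pow_add, ← Nat.div_div_eq_div_mul, h', Nat.zero_div, Nat.zero_mod, Nat.cast_zero]

theorem ev_mem_keep {x : ℕ} (hx : x < 10) : rho (toLy (ev x)) ∈ keep7 := by
  have e : ∀ y < 10, toLy (ev y) = evL y := fun y hy => by simp [evL, hy]
  have hinv : LyH.alphabet.invl x < 10 := by
    revert hx
    revert x
    decide +kernel
  have h2 : (toLy (ev x))⁻¹ = evL (LyH.alphabet.invl x) := by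
    rw [← e _ hinv, ← map_inv]
    exact congrArg toLy (eq_inv_of_mul_eq_one_left (ev_good.inv x hx.le)).symm
  intro i j hi hj
  rw [← map_inv, h2, e x hx, rho_evL (by omega), rho_evL (by omega)]
  exact ⟨lyMat_zero hx hi hj, lyMat_zero hinv hi hj⟩

end CfsgLib.Presented.Ly
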