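import Cfsg.Prelude.Def_Spor_Ly
import Cfsg.Agent.Lib.Presented.Ly.Perm

/-!
The map of G₂(5) into the presented Lyons group and the relations of the fifth generator.
-/
set_option autoImplicit false
set_option maxRecDepth 100000

namespace CfsgLib.Presented.Ly

/-- the auxiliary generators as words in a, b, c, d, e, z -/
def sigma : Cfsg.Spor.Ly.Gen → FreeGroup Cfsg.Spor.Ly.Gen
  | .c1 => Cfsg.Spor.Ly.c
  | .c2 => (Cfsg.Spor.Ly.a⁻¹ * Cfsg.Spor.Ly.c * Cfsg.Spor.Ly.a)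
  | .c3 => (Cfsg.Spor.Ly.b⁻¹ * Cfsg.Spor.Ly.c * Cfsg.Spor.Ly.b)
  | .c4 => ((Cfsg.Spor.Ly.b⁻¹)⁻¹ * Cfsg.Spor.Ly.c * (Cfsg.Spor.Ly.b⁻¹))
  | .c5 => ((Cfsg.Spor.Ly.c)⁻¹ * ((Cfsg.Spor.Ly.a⁻¹ * Cfsg.Spor.Ly.c * Cfsg.Spor.Ly.a))⁻¹ * (Cfsg.Spor.Ly.c) * ((Cfsg.Spor.Ly.a⁻¹ * Cfsg.Spor.Ly.c * Cfsg.Spor.Ly.a)))
  | .a1 => Cfsg.Spor.Ly.a
  | .a2 => ((Cfsg.Spor.Ly.b⁻¹)⁻¹ * Cfsg.Spor.Ly.a * (Cfsg.Spor.Ly.b⁻¹))
  | .a3 => (((Cfsg.Spor.Ly.b ^ 2)⁻¹)⁻¹ * Cfsg.Spor.Ly.a * ((Cfsg.Spor.Ly.b ^ 2)⁻¹))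
  | .a4 => ((Cfsg.Spor.Ly.b ^ 2)⁻¹ * Cfsg.Spor.Ly.a * (Cfsg.Spor.Ly.b ^ 2))
  | .u => (Cfsg.Spor.Ly.a ^ 2)
  | .x23 => Cfsg.Spor.Ly.d
  | .x24 => (Cfsg.Spor.Ly.d⁻¹)
  | .x25 => ((Cfsg.Spor.Ly.b ^ 2) * (Cfsg.Spor.Ly.a⁻¹) * (Cfsg.Spor.Ly.b⁻¹) * (Cfsg.Spor.Ly.a⁻¹) * (Cfsg.Spor.Ly.b ^ 2) * (Cfsg.Spor.Ly.c⁻¹) * Cfsg.Spor.Ly.a * Cfsg.Spor.Ly.c * (Cfsg.Spor.Ly.a⁻¹) * (Cfsg.Spor.Ly.c⁻¹) * Cfsg.Spor.Ly.d * (Cfsg.Spor.Ly.c⁻¹) * (Cfsg.Spor.Ly.b ^ 2) * (Cfsg.Spor.Ly.a⁻¹) * Cfsg.Spor.Ly.c * Cfsg.Spor.Ly.b)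
  | .x29 => (Cfsg.Spor.Ly.a * Cfsg.Spor.Ly.b * (Cfsg.Spor.Ly.a⁻¹) * (Cfsg.Spor.Ly.b ^ 2) * (Cfsg.Spor.Ly.a⁻¹) * (Cfsg.Spor.Ly.b ^ 2) * (Cfsg.Spor.Ly.c⁻¹) * Cfsg.Spor.Ly.a * Cfsg.Spor.Ly.c * Cfsg.Spor.Ly.b * Cfsg.Spor.Ly.c * (Cfsg.Spor.Ly.b⁻¹) * Cfsg.Spor.Ly.d * Cfsg.Spor.Ly.c * ((Cfsg.Spor.Ly.b ^ 2)⁻¹) * Cfsg.Spor.Ly.d * Cfsg.Spor.Ly.c * Cfsg.Spor.Ly.b * Cfsg.Spor.Ly.c)
  | .x47 => ((Cfsg.Spor.Ly.c⁻¹) * (Cfsg.Spor.Ly.d⁻¹) * (Cfsg.Spor.Ly.a⁻¹) * (Cfsg.Spor.Ly.c⁻¹) * (Cfsg.Spor.Ly.a⁻¹) * Cfsg.Spor.Ly.b * (Cfsg.Spor.Ly.c⁻¹) * (Cfsg.Spor.Ly.d⁻¹))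
  | .x96 => (Cfsg.Spor.Ly.b * Cfsg.Spor.Ly.d)
  | .x129 => ((Cfsg.Spor.Ly.d⁻¹) * (Cfsg.Spor.Ly.b⁻¹))
  | .x162 => ((Cfsg.Spor.Ly.a⁻¹) * (Cfsg.Spor.Ly.b⁻¹) * (Cfsg.Spor.Ly.a⁻¹) * Cfsg.Spor.Ly.b * (Cfsg.Spor.Ly.c⁻¹) * (Cfsg.Spor.Ly.b⁻¹) * Cfsg.Spor.Ly.a * (Cfsg.Spor.Ly.c⁻¹) * Cfsg.Spor.Ly.b * Cfsg.Spor.Ly.a)
  | .x163 => (((Cfsg.Spor.Ly.b ^ 2)⁻¹) * Cfsg.Spor.Ly.a * Cfsg.Spor.Ly.c * (Cfsg.Spor.Ly.a⁻¹) * Cfsg.Spor.Ly.b * Cfsg.Spor.Ly.c * Cfsg.Spor.Ly.b)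
  | .x164 => ((Cfsg.Spor.Ly.a⁻¹) * (Cfsg.Spor.Ly.b⁻¹) * (Cfsg.Spor.Ly.a⁻¹) * Cfsg.Spor.Ly.c * Cfsg.Spor.Ly.a * Cfsg.Spor.Ly.b * Cfsg.Spor.Ly.a)
  | .x165 => ((Cfsg.Spor.Ly.b⁻¹) * (Cfsg.Spor.Ly.a⁻¹) * Cfsg.Spor.Ly.b * Cfsg.Spor.Ly.c * (Cfsg.Spor.Ly.b⁻¹) * Cfsg.Spor.Ly.a * Cfsg.Spor.Ly.b)
  | .x166 => ((Cfsg.Spor.Ly.b ^ 2) * (Cfsg.Spor.Ly.a⁻¹) * (Cfsg.Spor.Ly.b⁻¹) * Cfsg.Spor.Ly.c * Cfsg.Spor.Ly.b * Cfsg.Spor.Ly.a * Cfsg.Spor.Ly.c * ((Cfsg.Spor.Ly.b ^ 2)⁻¹) * (Cfsg.Spor.Ly.c⁻¹))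
  | .x167 => ((Cfsg.Spor.Ly.a ^ 3)⁻¹)
  | .x168 => (Cfsg.Spor.Ly.b * (Cfsg.Spor.Ly.a⁻¹) * (Cfsg.Spor.Ly.b⁻¹) * ((Cfsg.Spor.Ly.a ^ 2)⁻¹))
  | .x169 => (Cfsg.Spor.Ly.a * (Cfsg.Spor.Ly.b ^ 2) * Cfsg.Spor.Ly.a * ((Cfsg.Spor.Ly.b ^ 2)⁻¹) * (Cfsg.Spor.Ly.a⁻¹))
  | .x364 => ((Cfsg.Spor.Ly.a⁻¹) * Cfsg.Spor.Ly.d * (Cfsg.Spor.Ly.b⁻¹) * (Cfsg.Spor.Ly.c⁻¹) * (Cfsg.Spor.Ly.a⁻¹) * Cfsg.Spor.Ly.b * (Cfsg.Spor.Ly.c⁻¹) * (Cfsg.Spor.Ly.d⁻¹) * Cfsg.Spor.Ly.b * (Cfsg.Spor.Ly.c⁻¹) * (Cfsg.Spor.Ly.b⁻¹) * (Cfsg.Spor.Ly.a⁻¹) * (Cfsg.Spor.Ly.c⁻¹) * Cfsg.Spor.Ly.a * (Cfsg.Spor.Ly.b⁻¹) * Cfsg.Spor.Ly.a * Cfsg.Spor.Ly.b * Cfsg.Spor.Ly.a * (Cfsg.Spor.Ly.b⁻¹))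
  | .x365 => (Cfsg.Spor.Ly.a * ((Cfsg.Spor.Ly.b ^ 2)⁻¹) * (Cfsg.Spor.Ly.a⁻¹) * Cfsg.Spor.Ly.c * Cfsg.Spor.Ly.b * (Cfsg.Spor.Ly.c⁻¹) * Cfsg.Spor.Ly.b * (Cfsg.Spor.Ly.a⁻¹) * ((Cfsg.Spor.Ly.c ^ 2)⁻¹) * Cfsg.Spor.Ly.d * Cfsg.Spor.Ly.c * Cfsg.Spor.Ly.a * Cfsg.Spor.Ly.c * (Cfsg.Spor.Ly.a⁻¹) * Cfsg.Spor.Ly.c * (Cfsg.Spor.Ly.b⁻¹) * (Cfsg.Spor.Ly.d⁻¹))
  | .x366 => (Cfsg.Spor.Ly.b * Cfsg.Spor.Ly.a * (Cfsg.Spor.Ly.b⁻¹) * (Cfsg.Spor.Ly.a⁻¹) * ((Cfsg.Spor.Ly.b ^ 2)⁻¹) * (Cfsg.Spor.Ly.a⁻¹) * (Cfsg.Spor.Ly.b⁻¹) * Cfsg.Spor.Ly.c * (Cfsg.Spor.Ly.b ^ 2) * Cfsg.Spor.Ly.c * Cfsg.Spor.Ly.b * Cfsg.Spor.Ly.d * Cfsg.Spor.Ly.c * ((Cfsg.Spor.Ly.b ^ 2)⁻¹) * Cfsg.Spor.Ly.d * Cfsg.Spor.Ly.c * Cfsg.Spor.Ly.b * Cfsg.Spor.Ly.c)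
  | .x367 => ((Cfsg.Spor.Ly.c⁻¹) * (Cfsg.Spor.Ly.b⁻¹) * (Cfsg.Spor.Ly.c⁻¹) * (Cfsg.Spor.Ly.d⁻¹) * (Cfsg.Spor.Ly.b ^ 2) * (Cfsg.Spor.Ly.c⁻¹) * (Cfsg.Spor.Ly.d⁻¹) * (Cfsg.Spor.Ly.b⁻¹) * (Cfsg.Spor.Ly.c⁻¹) * ((Cfsg.Spor.Ly.b ^ 2)⁻¹) * (Cfsg.Spor.Ly.c⁻¹) * Cfsg.Spor.Ly.b * Cfsg.Spor.Ly.a * (Cfsg.Spor.Ly.b ^ 2) * Cfsg.Spor.Ly.a * Cfsg.Spor.Ly.b * (Cfsg.Spor.Ly.a⁻¹) * (Cfsg.Spor.Ly.b⁻¹))
  | .x368 => ((Cfsg.Spor.Ly.a⁻¹) * (Cfsg.Spor.Ly.c⁻¹) * (Cfsg.Spor.Ly.d⁻¹) * Cfsg.Spor.Ly.a * (Cfsg.Spor.Ly.c⁻¹) * (Cfsg.Spor.Ly.b⁻¹) * Cfsg.Spor.Ly.a * (Cfsg.Spor.Ly.c⁻¹) * (Cfsg.Spor.Ly.d⁻¹) * (Cfsg.Spor.Ly.a⁻¹) * (Cfsg.Spor.Ly.c⁻¹) * Cfsg.Spor.Ly.a * Cfsg.Spor.Ly.c * ((Cfsg.Spor.Ly.b ^ 2)⁻¹) * (Cfsg.Spor.Ly.c⁻¹) * (Cfsg.Spor.Ly.b⁻¹) * (Cfsg.Spor.Ly.a⁻¹) * ((Cfsg.Spor.Ly.b ^ 2)⁻¹))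
  | .x369 => ((Cfsg.Spor.Ly.a⁻¹) * (Cfsg.Spor.Ly.c⁻¹) * (Cfsg.Spor.Ly.d⁻¹) * Cfsg.Spor.Ly.b * (Cfsg.Spor.Ly.a⁻¹) * (Cfsg.Spor.Ly.b⁻¹) * (Cfsg.Spor.Ly.c⁻¹) * (Cfsg.Spor.Ly.d⁻¹) * Cfsg.Spor.Ly.b * (Cfsg.Spor.Ly.a⁻¹) * (Cfsg.Spor.Ly.b⁻¹) * (Cfsg.Spor.Ly.c⁻¹) * (Cfsg.Spor.Ly.b⁻¹) * Cfsg.Spor.Ly.a * ((Cfsg.Spor.Ly.b ^ 2)⁻¹) * Cfsg.Spor.Ly.a * (Cfsg.Spor.Ly.b⁻¹))
  | .x370 => ((Cfsg.Spor.Ly.d⁻¹) * Cfsg.Spor.Ly.a * Cfsg.Spor.Ly.c * Cfsg.Spor.Ly.b * Cfsg.Spor.Ly.c * (Cfsg.Spor.Ly.a⁻¹) * (Cfsg.Spor.Ly.c⁻¹) * (Cfsg.Spor.Ly.d⁻¹) * Cfsg.Spor.Ly.a * (Cfsg.Spor.Ly.b⁻¹) * (Cfsg.Spor.Ly.a⁻¹) * Cfsg.Spor.Ly.c * (Cfsg.Spor.Ly.a⁻¹) * ((Cfsg.Spor.Ly.b ^ 2)⁻¹) * (Cfsg.Spor.Ly.a⁻¹) * Cfsg.Spor.Ly.b * (Cfsg.Spor.Ly.a⁻¹))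
  | .x371 => ((Cfsg.Spor.Ly.c⁻¹) * (Cfsg.Spor.Ly.a⁻¹) * Cfsg.Spor.Ly.c * Cfsg.Spor.Ly.b * (Cfsg.Spor.Ly.c⁻¹) * (Cfsg.Spor.Ly.d⁻¹) * Cfsg.Spor.Ly.c * (Cfsg.Spor.Ly.a⁻¹) * Cfsg.Spor.Ly.c * Cfsg.Spor.Ly.a * Cfsg.Spor.Ly.c * (Cfsg.Spor.Ly.b⁻¹) * (Cfsg.Spor.Ly.a⁻¹) * (Cfsg.Spor.Ly.b⁻¹) * (Cfsg.Spor.Ly.a⁻¹) * Cfsg.Spor.Ly.b)
  | g => FreeGroup.of g

/-- positions of the defining relators -/
def defRels : List (Cfsg.Spor.Ly.Gen × ℕ) := [(.c1, 5), (.c2, 6), (.c3, 7), (.c4, 8), (.c5, 9), (.a1, 44), (.a2, 45), (.a3, 46), (.a4, 47), (.u, 48), (.x23, 49), (.x24, 50), (.x25, 51), (.x29, 52), (.x47, 53), (.x96, 54), (.x129, 55), (.x162, 56), (.x163, 57), (.x164, 58), (.x165, 59), (.x166, 60), (.x167, 61), (.x168, 62), (.x169, 63), (.x364, 64), (.x365, 65), (.x366, 66), (.x367, 67), (.x368, 68), (.x369, 69), (.x370, 70), (.x371, 71)]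

/-- positions of the relators of the five-generator group -/
def subRels : List ℕ := [0, 1, 2, 3, 4, 10, 11, 12, 13, 14, 15, 16, 17, 18, 19, 20, 21, 22, 23, 24, 25, 26, 27, 28, 29, 30, 31, 32, 33, 34, 35, 36, 37, 38, 39, 40, 41, 42, 43]

/-- substituting the auxiliary generators -/
def sigmaHom : FreeGroup Cfsg.Spor.Ly.Gen →* FreeGroup Cfsg.Spor.Ly.Gen := FreeGroup.lift sigma

/-- the presented Lyons group as a quotient -/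
noncomputable abbrev mkLy : FreeGroup Cfsg.Spor.Ly.Gen →* Cfsg.Spor.Ly :=
  PresentedGroup.mk (Cfsg.Spor.coxRelators Cfsg.Spor.Ly.edges ∪ {r | r ∈ Cfsg.Spor.Ly.extra})

theorem mkLy_extra (i : ℕ) : mkLy (Cfsg.Spor.Ly.extra.getD i 1) = 1 := by
  rw [List.getD_eq_getElem?_getD]
  cases h : Cfsg.Spor.Ly.extra[i]? with
  | none => simp
  | some r => exact PresentedGroup.one_of_mem (Or.inr (List.mem_of_getElem? h))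

theorem mkLy_sigma : ∀ g, mkLy (sigma g) = mkLy (FreeGroup.of g) := by
  have key : ∀ (g : Cfsg.Spor.Ly.Gen) (i : ℕ), Cfsg.Spor.Ly.extra.getD i 1 = FreeGroup.of g * (sigma g)⁻¹ →
      mkLy (sigma g) = mkLy (FreeGroup.of g) := by
    intro g i h
    have := mkLy_extra i
    rw [h, map_mul, map_inv, mul_inv_eq_one] at this
    exact this.symm
  have hd : ((defRels.filter fun p => p.1 != Cfsg.Spor.Ly.Gen.c5).all fun p =>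
      decide (Cfsg.Spor.Ly.extra.getD p.2 1 = FreeGroup.of p.1 * (sigma p.1)⁻¹)) = true := by decide +kernel
  simp only [List.all_eq_true, decide_eq_true_eq] at hd
  have hsimple : ∀ g, g ∈ (defRels.filter fun p => p.1 != Cfsg.Spor.Ly.Gen.c5).map Prod.fst →
      mkLy (sigma g) = mkLy (FreeGroup.of g) := by
    intro g hg
    obtain ⟨p, hp, rfl⟩ := List.mem_map.1 hg
    exact key _ p.2 (hd p hp)
  intro g
  cases g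
  case c5 =>
    have e1 := hsimple .c1 (by decide +kernel)
    have e2 := hsimple .c2 (by decide +kernel)
    have h := mkLy_extra 9
    rw [show Cfsg.Spor.Ly.extra.getD 9 1 = Cfsg.Spor.Ly.c5 * ((Cfsg.Spor.Ly.c1⁻¹ * Cfsg.Spor.Ly.c2⁻¹ *
      Cfsg.Spor.Ly.c1 * Cfsg.Spor.Ly.c2)⁻¹) by decide +kernel, map_mul, map_inv, mul_inv_eq_one] at h
    rw [show sigma .c5 = (sigma .c1)⁻¹ * (sigma .c2)⁻¹ * sigma .c1 * sigma .c2 by decide +kernel]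
    simp only [map_mul, map_inv, e1, e2] at h ⊢
    exact h.symm
  all_goals first
    | rfl
    | exact hsimple _ (by decide +kernel)

theorem mkLy_sigmaHom (r : FreeGroup Cfsg.Spor.Ly.Gen) : mkLy (sigmaHom r) = mkLy r := by
  have : mkLy.comp sigmaHom = mkLy := FreeGroup.ext_hom _ _ fun g => by
    rw [MonoidHom.comp_apply, sigmaHom, FreeGroup.lift_apply_of]
    exact mkLy_sigma g
  exact DFunLike.congr_fun this r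

/-- the five generators among the Lyons generators -/
def toLyGen : Gen5 → Cfsg.Spor.Ly.Gen
  | .a => .a
  | .b => .b
  | .c => .c
  | .d => .d
  | .e => .e

theorem extra5_map : extra5.map (FreeGroup.map toLyGen) =
    subRels.map (fun i => sigmaHom (Cfsg.Spor.Ly.extra.getD i 1)) := by decide +kernel

theorem imgLy_kills : ∀ r ∈ Cfsg.Spor.coxRelators ([] : List (Gen5 × ℕ × Gen5)) ∪ {r | r ∈ extra5},
    FreeGroup.lift (fun g => mkLy (FreeGroup.of (toLyGen g))) r = 1 := by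
  rintro r (⟨x, hx, -⟩ | hr)
  · exact absurd hx (by simp [Cfsg.Spor.coxNodes])
  · have e : FreeGroup.lift (fun g => mkLy (FreeGroup.of (toLyGen g))) = mkLy.comp (FreeGroup.map toLyGen) :=
      FreeGroup.ext_hom _ _ fun g => by rw [FreeGroup.lift_apply_of, MonoidHom.comp_apply, FreeGroup.map.of]
    have hm : FreeGroup.map toLyGen r ∈ extra5.map (FreeGroup.map toLyGen) := List.mem_map_of_mem hr
    rw [extra5_map] at hm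
    obtain ⟨i, -, hi⟩ := List.mem_map.1 hm
    rw [e, MonoidHom.comp_apply, ← hi, mkLy_sigmaHom, mkLy_extra]

/-- the map into the presented Lyons group -/
noncomputable def toLy : H5 →* Cfsg.Spor.Ly := PresentedGroup.toGroup imgLy_kills

theorem toLy_of (g : Gen5) : toLy (PresentedGroup.of g) = mkLy (FreeGroup.of (toLyGen g)) :=
  PresentedGroup.toGroup.of imgLy_kills

/-- the fifth generator -/
noncomputable def gz : Cfsg.Spor.Ly := mkLy Cfsg.Spor.Ly.z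

/-- the values of twelve letters in the Lyons group -/
noncomputable def evL (x : ℕ) : Cfsg.Spor.Ly :=
  if x < 10 then toLy (ev x) else if x = 10 then gz else if x = 11 then gz⁻¹ else 1

theorem evL_lt {w : List ℕ} (hw : ∀ y ∈ w, y < 10) : evW evL w = toLy (evW ev w) := by
  rw [evW, evW, map_list_prod, List.map_map]
  exact congrArg List.prod (List.map_congr_left fun y hy => by simp [evL, hw y hy])

/-- letters of signed generators, 12 for the auxiliary ones -/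
def letter6 : Cfsg.Spor.Ly.Gen × Bool → ℕ
  | (.a, true) => 0
  | (.a, false) => 1
  | (.b, true) => 2
  | (.b, false) => 3
  | (.c, true) => 4
  | (.c, false) => 5
  | (.d, true) => 6
  | (.d, false) => 7
  | (.e, true) => 8
  | (.e, false) => 9
  | (.z, true) => 10
  | (.z, false) => 11
  | _ => 12

theorem evL_letter (g : Cfsg.Spor.Ly.Gen) (h : letter6 (g, true) ≠ 12) :
    evL (letter6 (g, true)) = mkLy (FreeGroup.of g) ∧ evL (letter6 (g, false)) = (mkLy (FreeGroup.of g))⁻¹ := by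
  have e : ∀ g : Gen5, ev (idx5 g) = PresentedGroup.of g ∧ ev (LyH.alphabet.invl (idx5 g)) = (PresentedGroup.of g)⁻¹ :=
    fun g => Letters.ev_idx (L := letters5) letters5_valid (Letters.of_sq nodes5_valid) (full5 g).1 (full5 g).2
  have ei : ∀ g : Gen5, LyH.alphabet.invl (idx5 g) = idx5 g + 1 := fun g => by cases g <;> decide +kernel
  have five : ∀ g : Gen5, evL (idx5 g) = mkLy (FreeGroup.of (toLyGen g)) ∧
      evL (idx5 g + 1) = (mkLy (FreeGroup.of (toLyGen g)))⁻¹ := by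
    intro g
    have h1 : idx5 g + 1 < 10 := by cases g <;> decide
    rw [evL, if_pos (by omega), evL, if_pos h1, ← ei, (e g).1, (e g).2, map_inv, toLy_of]
    exact ⟨rfl, rfl⟩
  cases g
  case a => exact five .a
  case b => exact five .b
  case c => exact five .c
  case d => exact five .d
  case e => exact five .e
  case z => exact ⟨rfl, rfl⟩
  all_goals exact absurd rfl h

theorem evW_letter6 (r : FreeGroup Cfsg.Spor.Ly.Gen) (h : (r.toWord.map letter6).all (fun x => Nat.blt x 12) = true) :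
    evW evL (r.toWord.map letter6) = mkLy r := by
  simp only [List.all_eq_true, List.mem_map, Nat.blt_eq] at h
  conv_rhs => rw [← FreeGroup.mk_toWord (x := r)]
  generalize r.toWord = w at h ⊢
  induction w with
  | nil => exact (map_one mkLy).symm
  | cons p w ih =>
    have hp := h (letter6 p) ⟨p, List.mem_cons_self, rfl⟩
    rw [List.map_cons, evW_cons, ih (fun x ⟨q, hq, e⟩ => h x ⟨q, List.mem_cons_of_mem _ hq, e⟩)]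
    obtain ⟨g, b⟩ := p
    have hne : letter6 (g, true) ≠ 12 := by revert hp; cases g <;> cases b <;> simp [letter6]
    obtain ⟨h1, h2⟩ := evL_letter g hne
    have hsplit : FreeGroup.mk ((g, b) :: w) = (cond b (FreeGroup.of g) (FreeGroup.of g)⁻¹) * FreeGroup.mk w := by
      cases b <;> simp [FreeGroup.of, FreeGroup.inv_mk, FreeGroup.mul_mk, FreeGroup.invRev]
    rw [hsplit, map_mul]
    cases b
    · rw [h2, cond_false, map_inv]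
    · rw [h1, cond_true]

/-- the words of the relators after substitution -/
def relWord (i : ℕ) : List ℕ := (sigmaHom (Cfsg.Spor.Ly.extra.getD i 1)).toWord.map letter6

theorem relWord_one (i : ℕ) (h : (relWord i).all (fun x => Nat.blt x 12) = true) : evW evL (relWord i) = 1 := by
  rw [relWord, evW_letter6 _ h, mkLy_sigmaHom, mkLy_extra]

theorem gz_sq : gz * gz = toLy (evW ev [0, 0]) := by
  have h := relWord_one 80 (by decide +kernel)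
  rw [show relWord 80 = [10, 10, 1, 1] by decide +kernel] at h
  have e1 : toLy (evW ev [0, 0]) * (evL 1 * evL 1) = 1 := by
    rw [show evL 1 * evL 1 = toLy (evW ev [1, 1]) by simp [evL, evW], ← map_mul]
    have hi : ev 1 * ev 0 = 1 := by
      have := ev_inv 0 (by decide)
      rwa [show LyH.alphabet.invl 0 = 1 by decide +kernel] at this
    rw [show evW ev [0, 0] * evW ev [1, 1] = ev 0 * (ev 0 * ev 1) * ev 1 by simp [evW, mul_assoc],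
      mul_eq_one_comm.1 hi, mul_one, mul_eq_one_comm.1 hi, map_one]
  have h' : gz * gz * (evL 1 * evL 1) = 1 := by simpa [evW, evL, mul_assoc] using h
  exact mul_right_cancel (h'.trans e1.symm)

theorem zConj_words : ((List.range 8).all fun k => (relWord (72 + k)).all (fun x => Nat.blt x 12) &&
    decide ((pushAll LyH.alphabet (thWord [k]) []).reverse = thWord [k]) &&
    decide (relWord (72 + k) = [11] ++ thWord [k] ++ [10] ++ invWord LyH.alphabet (LyK.xWords.getD k []))) = true := by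
  decide +kernel

theorem lt_thWord : ∀ k < 8, (∀ y ∈ thWord [k], y < 10) ∧ ∀ y ∈ LyK.xWords.getD k [], y < 10 := by
  decide +kernel

theorem z_conj {k : ℕ} (hk : k < 8) :
    gz * toLy (evW ev (LyK.xWords.getD k [])) = toLy (evW ev (thWord [k])) * gz := by
  have h := zConj_words
  simp only [List.all_eq_true, List.mem_range, Bool.and_eq_true, decide_eq_true_eq] at h
  obtain ⟨⟨hb, -⟩, he⟩ := h k hk
  have h1 := relWord_one (72 + k) (List.all_eq_true.2 hb)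
  obtain ⟨hth, hx⟩ := lt_thWord k hk
  rw [he, evW_append, evW_append, evW_append, evL_lt hth, evL_lt (invWord_lt hx),
    evW_invWord ev_good (fun y hy => (hx y hy).le), map_inv] at h1
  have e : gz⁻¹ * toLy (evW ev (thWord [k])) * gz * (toLy (evW ev (LyK.xWords.getD k [])))⁻¹ = 1 := by
    simpa [evW, evL] using h1
  rw [mul_inv_eq_one] at e
  rw [← e]
  group

theorem z_conj_word : ∀ {w : List ℕ}, (∀ i ∈ w, i < 8) →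
    gz * toLy (evW ev (xWord w)) = toLy (evW ev (thWord w)) * gz
  | [], _ => by simp [xWord, thWord]
  | i :: w, h => by
    have ih := z_conj_word (w := w) fun j hj => h j (List.mem_cons_of_mem _ hj)
    have h1 := z_conj (h i List.mem_cons_self)
    rw [show thWord [i] = LyK.thWords.getD i [] by simp [thWord]] at h1
    rw [xWord, thWord, List.flatMap_cons, List.flatMap_cons, evW_append, evW_append, map_mul, map_mul,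
      ← mul_assoc, h1, mul_assoc, ← xWord, ih, ← thWord, mul_assoc]

theorem gen_Ly : Subgroup.closure (insert gz (Set.range toLy)) = ⊤ := by
  rw [eq_top_iff, ← PresentedGroup.closure_range_of, Subgroup.closure_le]
  rintro _ ⟨g, rfl⟩
  show mkLy (FreeGroup.of g) ∈ Subgroup.closure (insert gz (Set.range toLy))
  rw [← mkLy_sigma]
  have hw : ((sigma g).toWord.map letter6).all (fun x => Nat.blt x 12) = true := by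
    cases g <;> decide +kernel
  rw [← evW_letter6 _ hw]
  refine Subgroup.list_prod_mem _ fun y hy => ?_
  obtain ⟨x, hx, rfl⟩ := List.mem_map.1 hy
  simp only [List.all_eq_true, Nat.blt_eq] at hw
  have hx' := hw x hx
  by_cases h : x < 10
  · exact Subgroup.subset_closure (Or.inr ⟨ev x, by simp [evL, h]⟩)
  · obtain rfl | rfl : x = 10 ∨ x = 11 := by omega
    · exact Subgroup.subset_closure (Or.inl (by simp [evL]))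
    · rw [show evL 11 = gz⁻¹ by simp [evL]]
      exact Subgroup.inv_mem _ (Subgroup.subset_closure (Or.inl rfl))

/-- The image is the subgroup generated by a, b, c, d of the statements. -/
theorem range_toLy : toLy.range =
    (Subgroup.closure ({Cfsg.Spor.Ly.a, Cfsg.Spor.Ly.b, Cfsg.Spor.Ly.c, Cfsg.Spor.Ly.d} :
      Set (FreeGroup Cfsg.Spor.Ly.Gen))).map mkLy := by
  rw [MonoidHom.map_closure]
  apply le_antisymm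
  · rw [MonoidHom.range_eq_map, ← PresentedGroup.closure_range_of, MonoidHom.map_closure, Subgroup.closure_le]
    have hmem : ∀ g : Gen5, g ≠ .e → mkLy (FreeGroup.of (toLyGen g)) ∈
        mkLy '' ({Cfsg.Spor.Ly.a, Cfsg.Spor.Ly.b, Cfsg.Spor.Ly.c, Cfsg.Spor.Ly.d} : Set (FreeGroup Cfsg.Spor.Ly.Gen)) := by
      intro g hg
      refine ⟨_, ?_, rfl⟩
      cases g <;> first | exact absurd rfl hg | simp [toLyGen]
    rintro _ ⟨_, ⟨g, rfl⟩, rfl⟩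
    rw [toLy_of]
    by_cases hg : g = .e
    · subst hg
      show mkLy (FreeGroup.of Cfsg.Spor.Ly.Gen.e) ∈ _
      have hr := relWord_one 28 (by decide +kernel)
      have hshape : relWord 28 = 8 :: (relWord 28).tail ∧ ∀ x ∈ (relWord 28).tail, x < 8 := by decide +kernel
      rw [hshape.1, evW_cons] at hr
      have he : evL 8 = mkLy (FreeGroup.of Cfsg.Spor.Ly.Gen.e) := (evL_letter .e (by decide)).1
      rw [← he, eq_inv_of_mul_eq_one_left hr]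
      refine Subgroup.inv_mem _ (Subgroup.list_prod_mem _ fun y hy => ?_)
      obtain ⟨x, hx, rfl⟩ := List.mem_map.1 hy
      have hx8 := hshape.2 x hx
      obtain ⟨g', hg', hxg⟩ : ∃ g' : Gen5, g' ≠ .e ∧ (x = letter6 (toLyGen g', true) ∨ x = letter6 (toLyGen g', false)) := by
        interval_cases x
        exacts [⟨.a, by decide, Or.inl rfl⟩, ⟨.a, by decide, Or.inr rfl⟩, ⟨.b, by decide, Or.inl rfl⟩,
          ⟨.b, by decide, Or.inr rfl⟩, ⟨.c, by decide, Or.inl rfl⟩, ⟨.c, by decide, Or.inr rfl⟩,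
          ⟨.d, by decide, Or.inl rfl⟩, ⟨.d, by decide, Or.inr rfl⟩]
      have hne : letter6 (toLyGen g', true) ≠ 12 := by cases g' <;> decide
      rcases hxg with rfl | rfl
      · rw [(evL_letter _ hne).1]
        exact Subgroup.subset_closure (hmem g' hg')
      · rw [(evL_letter _ hne).2]
        exact Subgroup.inv_mem _ (Subgroup.subset_closure (hmem g' hg'))
    · exact Subgroup.subset_closure (hmem g hg)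
  · rw [Subgroup.closure_le]
    rintro _ ⟨r, hr, rfl⟩
    simp only [Set.mem_insert_iff, Set.mem_singleton_iff] at hr
    rcases hr with rfl | rfl | rfl | rfl
    exacts [⟨PresentedGroup.of Gen5.a, toLy_of _⟩, ⟨PresentedGroup.of Gen5.b, toLy_of _⟩,
      ⟨PresentedGroup.of Gen5.c, toLy_of _⟩, ⟨PresentedGroup.of Gen5.d, toLy_of _⟩]

end CfsgLib.Presented.Ly
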